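import Mathlib
import Groth.Agent.Font.K956.Val

/-!
# The valuation, continued: ultrametric calculus, balls, value groups
-/

set_option autoImplicit false
set_option linter.unusedSectionVars false
universe u

open IsLocalRing Polynomial

namespace K956.FVal

section functor

variable {O E Ω : Type u} [CommRing O] [Field E] [Algebra O E] [Field Ω] [Algebra O Ω]

theorem isU_map_iff (f : E →ₐ[O] Ω) (x : E) : IsU O Ω (f x) ↔ IsU O E x := by
  have hf : Function.Injective f := f.toRingHom.injective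
  unfold IsU
  rw [isIntegral_algHom_iff f hf, ← map_inv₀, isIntegral_algHom_iff f hf, map_ne_zero_iff f hf]

open Classical in
/-- Auxiliary form of the definition of `val`. -/
noncomputable def valOf (P : ℕ × ℤ → Prop) : ℚ :=
  if h : ∃ q : ℕ × ℤ, P q then (h.choose.2 : ℚ) / h.choose.1 else 0

/-- The valuation is functorial. -/
theorem val_map (π : O) (f : E →ₐ[O] Ω) (x : E) : val π (f x) = val π x := by
  have h : ∀ q : ℕ × ℤ, (0 < q.1 ∧ IsU O Ω (f x ^ q.1 / algebraMap O Ω π ^ q.2)) =
      (0 < q.1 ∧ IsU O E (x ^ q.1 / algebraMap O E π ^ q.2)) := by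
    intro q
    rw [← isU_map_iff f, map_div₀, map_pow, map_zpow₀, f.commutes]
  exact congrArg valOf (funext h)

end functor

section main

variable {O : Type u} [CommRing O] [IsDomain O] [IsDiscreteValuationRing O]
  (K : Type u) [Field K] [Algebra O K] [IsFractionRing O K]
  {Ω : Type u} [Field Ω] [Algebra K Ω] [Algebra O Ω] [IsScalarTower O K Ω]
  [IsAdicComplete (maximalIdeal O) O] [CharZero K] [Algebra.IsAlgebraic K Ω]

include K

theorem val_neg {π : O} (hπ : Irreducible π) (x : Ω) : val π (-x) = val π x := by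
  rcases eq_or_ne x 0 with rfl | hx
  · rw [neg_zero]
  · have h0 : (-x) ≠ 0 := neg_ne_zero.mpr hx
    have h1 := val_mul K hπ h0 h0
    have h2 := val_mul K hπ hx hx
    rw [neg_mul_neg, h2] at h1
    linarith

theorem val_sub {π : O} (hπ : Irreducible π) {x y : Ω} (hx : x ≠ 0) (hy : y ≠ 0)
    (hxy : x - y ≠ 0) : min (val π x) (val π y) ≤ val π (x - y) := by
  have := val_add K hπ hx (neg_ne_zero.mpr hy) (by rwa [← sub_eq_add_neg])
  rwa [val_neg K hπ, ← sub_eq_add_neg] at this

theorem val_sub_comm {π : O} (hπ : Irreducible π) (x y : Ω) : val π (x - y) = val π (y - x) := by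
  rw [← val_neg K hπ, neg_sub]

theorem val_div {π : O} (hπ : Irreducible π) {x y : Ω} (hx : x ≠ 0) (hy : y ≠ 0) :
    val π (x / y) = val π x - val π y := by
  rw [div_eq_mul_inv, val_mul K hπ hx (inv_ne_zero hy), val_inv K hπ]; ring

theorem add_ne_zero_of_lt {π : O} (hπ : Irreducible π) {x y : Ω}
    (h : val π x < val π y) : x + y ≠ 0 := by
  intro h0
  have : x = -y := eq_neg_of_add_eq_zero_left h0
  rw [this, val_neg K hπ] at h
  exact lt_irrefl _ h

theorem val_add_eq {π : O} (hπ : Irreducible π) {x y : Ω} (hx : x ≠ 0)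
    (h : y = 0 ∨ val π x < val π y) : x + y ≠ 0 ∧ val π (x + y) = val π x := by
  rcases h with rfl | h
  · rw [add_zero]; exact ⟨hx, rfl⟩
  rcases eq_or_ne y 0 with rfl | hy
  · rw [add_zero]; exact ⟨hx, rfl⟩
  have h0 := add_ne_zero_of_lt K hπ h
  refine ⟨h0, le_antisymm ?_ ?_⟩
  · by_contra hlt
    push Not at hlt
    have h1 := val_sub K hπ h0 hy (by rw [add_sub_cancel_right]; exact hx)
    rw [add_sub_cancel_right] at h1
    have : val π x < min (val π (x + y)) (val π y) := lt_min hlt h
    exact absurd h1 (not_le.mpr this)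
  · have h1 := val_add K hπ hx hy h0
    rwa [min_eq_left h.le] at h1

theorem val_zpow {π : O} (hπ : Irreducible π) {x : Ω} (hx : x ≠ 0) (n : ℤ) :
    val π (x ^ n) = n * val π x := by
  cases n with
  | ofNat n => rw [Int.ofNat_eq_natCast, zpow_natCast, val_pow K hπ hx]; push_cast; rfl
  | negSucc n =>
    rw [zpow_negSucc, val_inv K hπ, val_pow K hπ hx, Int.cast_negSucc]; ring

theorem val_prod {π : O} (hπ : Irreducible π) {ι : Type*} (s : Finset ι) (f : ι → Ω)
    (hf : ∀ i ∈ s, f i ≠ 0) : val π (∏ i ∈ s, f i) = ∑ i ∈ s, val π (f i) := by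
  classical
  induction s using Finset.induction_on with
  | empty => rw [Finset.prod_empty, Finset.sum_empty, val_one K hπ]
  | insert a s ha ih =>
    rw [Finset.prod_insert ha, Finset.sum_insert ha,
      val_mul K hπ (hf a (Finset.mem_insert_self a s))
        (Finset.prod_ne_zero_iff.mpr fun i hi => hf i (Finset.mem_insert_of_mem hi)),
      ih fun i hi => hf i (Finset.mem_insert_of_mem hi)]

theorem val_isU {π : O} (hπ : Irreducible π) {x : Ω} (hx : IsU O Ω x) : val π x = 0 := by
  have := val_eq (K := K) (Ω := Ω) hπ (x := x) (N := 1) (a := 0) one_pos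
    (by rw [pow_one, zpow_zero, div_one]; exact hx)
  rw [this]; simp

theorem isU_iff {π : O} (hπ : Irreducible π) {x : Ω} : IsU O Ω x ↔ x ≠ 0 ∧ val π x = 0 := by
  constructor
  · intro h
    exact ⟨h.1, val_isU K hπ h⟩
  · rintro ⟨h0, h⟩
    refine ⟨h0, (val_nonneg_iff K hπ h0).mp h.ge, (val_nonneg_iff K hπ (inv_ne_zero h0)).mp ?_⟩
    rw [val_inv K hπ, h, neg_zero]

end main

/-- The ball `{x | t ≤ v x}`. -/
def Ge {O Ω : Type u} [CommRing O] [Field Ω] [Algebra O Ω] (π : O) (t : ℚ) (x : Ω) : Prop :=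
  x = 0 ∨ t ≤ val π x

section ball

variable {O : Type u} [CommRing O] [IsDomain O] [IsDiscreteValuationRing O]
  (K : Type u) [Field K] [Algebra O K] [IsFractionRing O K]
  {Ω : Type u} [Field Ω] [Algebra K Ω] [Algebra O Ω] [IsScalarTower O K Ω]
  [IsAdicComplete (maximalIdeal O) O] [CharZero K] [Algebra.IsAlgebraic K Ω]

theorem Ge.zero {π : O} {t : ℚ} : Ge π t (0 : Ω) := Or.inl rfl

theorem Ge.mono {π : O} {s t : ℚ} (h : s ≤ t) {x : Ω} (hx : Ge π t x) : Ge π s x :=
  hx.imp id fun h' => h.trans h'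

include K

theorem Ge.add {π : O} (hπ : Irreducible π) {t : ℚ} {x y : Ω} (hx : Ge π t x) (hy : Ge π t y) :
    Ge π t (x + y) := by
  rcases eq_or_ne x 0 with rfl | hx0
  · rwa [zero_add]
  rcases eq_or_ne y 0 with rfl | hy0
  · rwa [add_zero]
  rcases eq_or_ne (x + y) 0 with h | h
  · exact Or.inl h
  · refine Or.inr (le_trans ?_ (val_add K hπ hx0 hy0 h))
    exact le_min (hx.resolve_left hx0) (hy.resolve_left hy0)

theorem Ge.mul {π : O} (hπ : Irreducible π) {s t : ℚ} {x y : Ω} (hx : Ge π s x) (hy : Ge π t y) :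
    Ge π (s + t) (x * y) := by
  rcases eq_or_ne x 0 with rfl | hx0
  · rw [zero_mul]; exact Ge.zero
  rcases eq_or_ne y 0 with rfl | hy0
  · rw [mul_zero]; exact Ge.zero
  · refine Or.inr ?_
    rw [val_mul K hπ hx0 hy0]
    exact add_le_add (hx.resolve_left hx0) (hy.resolve_left hy0)

theorem Ge.neg {π : O} (hπ : Irreducible π) {t : ℚ} {x : Ω} (hx : Ge π t x) : Ge π t (-x) := by
  rcases hx with rfl | h
  · rw [neg_zero]; exact Ge.zero
  · exact Or.inr (by rwa [val_neg K hπ])

theorem Ge.sub {π : O} (hπ : Irreducible π) {t : ℚ} {x y : Ω} (hx : Ge π t x) (hy : Ge π t y) :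
    Ge π t (x - y) := by
  rw [sub_eq_add_neg]; exact hx.add K hπ (hy.neg K hπ)

theorem ge_zero_iff {π : O} (hπ : Irreducible π) {x : Ω} : Ge π 0 x ↔ IsIntegral O x := by
  rcases eq_or_ne x 0 with rfl | hx
  · exact ⟨fun _ => isIntegral_zero, fun _ => Ge.zero⟩
  · rw [← val_nonneg_iff K hπ hx]
    exact ⟨fun h => h.resolve_left hx, Or.inr⟩

theorem Ge.mul_integral {π : O} (hπ : Irreducible π) {t : ℚ} {x y : Ω} (hx : Ge π t x)
    (hy : IsIntegral O y) : Ge π t (x * y) := by
  have := hx.mul K hπ ((ge_zero_iff K hπ).mpr hy)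
  rwa [add_zero] at this

theorem Ge.sum {π : O} (hπ : Irreducible π) {t : ℚ} {ι : Type*} (s : Finset ι) (f : ι → Ω)
    (hf : ∀ i ∈ s, Ge π t (f i)) : Ge π t (∑ i ∈ s, f i) := by
  classical
  induction s using Finset.induction_on with
  | empty => rw [Finset.sum_empty]; exact Ge.zero
  | insert a s ha ih =>
    rw [Finset.sum_insert ha]
    exact (hf a (Finset.mem_insert_self a s)).add K hπ
      (ih fun i hi => hf i (Finset.mem_insert_of_mem hi))

theorem Ge.pow {π : O} (hπ : Irreducible π) {t : ℚ} {x : Ω} (hx : Ge π t x) (n : ℕ) :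
    Ge π (n * t) (x ^ n) := by
  induction n with
  | zero =>
    rw [pow_zero]
    refine Or.inr ?_
    rw [val_one K hπ]; simp
  | succ n ih =>
    rw [pow_succ]
    have := ih.mul K hπ hx
    refine this.mono (le_of_eq ?_)
    push_cast; ring

/-- The ball of radius `t ≥ 0` as an ideal of the ring of integers of a finite extension `E`. -/
def ball (π : O) (hπ : Irreducible π) (t : ℚ) (E : Type u) [Field E] [Algebra K E] [Algebra O E]
    [IsScalarTower O K E] [Algebra.IsAlgebraic K E] : Ideal (integralClosure O E) where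
  carrier := {x | Ge π t (x : E)}
  add_mem' := fun {a b} ha hb => by
    have := Ge.add K hπ ha hb
    exact this
  zero_mem' := Ge.zero
  smul_mem' := fun c x hx => by
    have := Ge.mul_integral K hπ hx c.2
    rw [mul_comm] at this
    exact this

theorem mem_ball {π : O} {hπ : Irreducible π} {t : ℚ} {E : Type u} [Field E] [Algebra K E]
    [Algebra O E] [IsScalarTower O K E] [Algebra.IsAlgebraic K E] (x : integralClosure O E) :
    x ∈ ball K π hπ t E ↔ Ge π t (x : E) := Iff.rfl

end ball

end K956.FVal
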