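import Mathlib
import Groth.Agent.Font.K956.Val2

/-!
# Value groups and maximal ideals of finite extensions
-/

set_option autoImplicit false
set_option linter.unusedSectionVars false
universe u

open IsLocalRing Polynomial

namespace K956.FVal

variable {O : Type u} [CommRing O] [IsDomain O] [IsDiscreteValuationRing O]
  (K : Type u) [Field K] [Algebra O K] [IsFractionRing O K]
  [IsAdicComplete (maximalIdeal O) O] [CharZero K]
  (E : Type u) [Field E] [Algebra K E] [Algebra O E] [IsScalarTower O K E] [FiniteDimensional K E]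

include K

theorem exists_valueGroup {π : O} (hπ : Irreducible π) :
    ∃ e : ℕ, 0 < e ∧ (∃ t : integralClosure O E, (t : E) ≠ 0 ∧ val π (t : E) = 1 / e) ∧
      ∀ x : E, x ≠ 0 → ∃ a : ℤ, val π x = a / e := by
  obtain ⟨e, he, ⟨t, ht⟩, h⟩ := exists_of_finite (K := K) (Ω := E) hπ E (AlgHom.id O E)
  have hp := pi_ne_zero (K := K) (Ω := E) hπ
  have he' : (e : ℚ) ≠ 0 := by exact_mod_cast he.ne'
  refine ⟨e, he, ⟨t, ?_, ?_⟩, ?_⟩
  · intro h0
    apply ht.1
    change (t : E) ^ e / _ = 0
    rw [h0, zero_pow he.ne', zero_div]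
  · have ht0 : (t : E) ≠ 0 := by
      intro h0
      apply ht.1
      change (t : E) ^ e / _ = 0
      rw [h0, zero_pow he.ne', zero_div]
    have h1 := val_isU K hπ ht
    change val π ((t : E) ^ e / algebraMap O E π) = 0 at h1
    rw [val_div K hπ (pow_ne_zero _ ht0) hp, val_pow K hπ ht0, val_pi K hπ] at h1
    rw [eq_div_iff he']
    linarith
  · intro x hx
    obtain ⟨a, ha⟩ := h x hx
    refine ⟨a, ?_⟩
    have h1 := val_isU K hπ ha
    change val π (x ^ e / algebraMap O E π ^ a) = 0 at h1
    rw [val_div K hπ (pow_ne_zero _ hx) (zpow_ne_zero _ hp), val_pow K hπ hx, val_zpow K hπ hp,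
      val_pi K hπ] at h1
    rw [eq_div_iff he']
    linarith

theorem isUnit_iff {π : O} (hπ : Irreducible π) (x : integralClosure O E) :
    IsUnit x ↔ (x : E) ≠ 0 ∧ val π (x : E) = 0 := by
  have hF := IntCl.isFractionRing O K E
  constructor
  · intro h
    have := IsU.of_isUnit (O := O) (Ω := E) (integralClosure O E).val h
    exact (isU_iff K hπ).mp this
  · intro h
    have := (isU_iff K hπ).mpr h
    refine IsUnit.of_mul_eq_one ⟨(x : E)⁻¹, this.2.2⟩ (Subtype.ext ?_)
    change (x : E) * (x : E)⁻¹ = 1
    exact mul_inv_cancel₀ this.1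

theorem mem_pow_iff {π : O} (hπ : Irreducible π) {e : ℕ} (he : 0 < e)
    {t : integralClosure O E} (ht0 : (t : E) ≠ 0) (ht : val π (t : E) = 1 / e)
    (h : ∀ x : E, x ≠ 0 → ∃ a : ℤ, val π x = a / e) (P : Ideal (integralClosure O E))
    [hP : P.IsMaximal] (k : ℕ) (x : integralClosure O E) :
    x ∈ P ^ k ↔ Ge π ((k : ℚ) / e) (x : E) := by
  have hloc := IntCl.isLocalRing O K E
  have he' : (0 : ℚ) < e := by exact_mod_cast he
  have hPt : P = Ideal.span {t} := by
    have hPm : P = maximalIdeal _ := IsLocalRing.eq_maximalIdeal hP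
    apply le_antisymm
    · intro y hy
      rw [Ideal.mem_span_singleton]
      rcases eq_or_ne (y : E) 0 with hy0 | hy0
      · have : y = 0 := Subtype.ext hy0
        rw [this]; exact dvd_zero t
      obtain ⟨a, ha⟩ := h _ hy0
      have h1 : 0 ≤ val π (y : E) := (val_nonneg_iff K hπ hy0).mpr y.2
      have h2 : 0 < a := by
        have h3 : (0 : ℚ) ≤ a := by
          rw [ha] at h1
          by_contra hlt
          push Not at hlt
          exact absurd h1 (not_le.mpr (div_neg_of_neg_of_pos hlt he'))
        have h4 : 0 ≤ a := by exact_mod_cast h3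
        rcases h4.lt_or_eq with h5 | h5
        · exact h5
        · exfalso
          rw [← h5] at ha
          have : IsUnit y := (isUnit_iff K E hπ y).mpr ⟨hy0, by rw [ha]; simp⟩
          rw [hPm] at hy
          exact (IsLocalRing.mem_maximalIdeal y).mp hy this
      have h6 : 0 ≤ val π ((y : E) / t) := by
        rw [val_div K hπ hy0 ht0, ha, ht, ← sub_div]
        apply div_nonneg _ he'.le
        have : (1 : ℚ) ≤ a := by exact_mod_cast h2
        linarith
      have h7 := (val_nonneg_iff K hπ (div_ne_zero hy0 ht0)).mp h6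
      refine ⟨⟨(y : E) / t, h7⟩, Subtype.ext ?_⟩
      change (y : E) = t * ((y : E) / t)
      field_simp
    · rw [Ideal.span_singleton_le_iff_mem, hPm, IsLocalRing.mem_maximalIdeal]
      intro hu
      have := ((isUnit_iff K E hπ t).mp hu).2
      rw [ht] at this
      have h8 : (0 : ℚ) < 1 / e := by positivity
      exact h8.ne' this
  rw [hPt, Ideal.span_singleton_pow, Ideal.mem_span_singleton]
  constructor
  · rintro ⟨y, rfl⟩
    have h1 : Ge π (k * (1 / e : ℚ)) ((t : E) ^ k) := Ge.pow K hπ (Or.inr ht.ge) k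
    have h2 := h1.mul_integral K hπ y.2
    refine Ge.mono (le_of_eq ?_) h2
    ring
  · intro hx
    rcases eq_or_ne (x : E) 0 with hx0 | hx0
    · have : x = 0 := Subtype.ext hx0
      rw [this]; exact dvd_zero _
    have h1 := hx.resolve_left hx0
    have h6 : 0 ≤ val π ((x : E) / t ^ k) := by
      rw [val_div K hπ hx0 (pow_ne_zero _ ht0), val_pow K hπ ht0, ht]
      have : (k : ℚ) * (1 / e) = k / e := by ring
      rw [this]; linarith
    have h7 := (val_nonneg_iff K hπ (div_ne_zero hx0 (pow_ne_zero _ ht0))).mp h6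
    refine ⟨⟨(x : E) / t ^ k, h7⟩, Subtype.ext ?_⟩
    change (x : E) = (t : E) ^ k * ((x : E) / t ^ k)
    have := pow_ne_zero k ht0
    field_simp

theorem liesOver (P : Ideal (integralClosure O E)) [hP : P.IsMaximal] :
    P.LiesOver (maximalIdeal O) := by
  constructor
  have h1 : (P.under O).IsMaximal := Ideal.isMaximal_comap_of_isIntegral_of_isMaximal P
  exact (IsLocalRing.eq_maximalIdeal h1).symm

theorem ramificationIdx_eq {π : O} (hπ : Irreducible π) {e : ℕ} (he : 0 < e)
    {t : integralClosure O E} (ht0 : (t : E) ≠ 0) (ht : val π (t : E) = 1 / e)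
    (h : ∀ x : E, x ≠ 0 → ∃ a : ℤ, val π x = a / e) (P : Ideal (integralClosure O E))
    [hP : P.IsMaximal] : P.ramificationIdx O = e := by
  have hD := IntCl.isDVR O K E
  have hlo := liesOver K E P
  have he' : (0 : ℚ) < e := by exact_mod_cast he
  have hne : (maximalIdeal O).map (algebraMap O (integralClosure O E)) ≠ ⊥ := by
    rw [hπ.maximalIdeal_eq, Ideal.map_span, Set.image_singleton, Ne, Ideal.span_singleton_eq_bot]
    intro h0
    exact hπ.ne_zero (IntCl.algebraMap_injective O K E (by rw [h0, map_zero]))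
  rw [← Ideal.ramificationIdx'_eq_ramificationIdx' (maximalIdeal O) P hne]
  have hval : val π ((algebraMap O (integralClosure O E) π : integralClosure O E) : E) = 1 :=
    val_pi (K := K) (Ω := E) hπ
  have h00 : ((algebraMap O (integralClosure O E) π : integralClosure O E) : E) ≠ 0 :=
    pi_ne_zero (K := K) (Ω := E) hπ
  apply Ideal.ramificationIdx'_spec
  · rw [hπ.maximalIdeal_eq, Ideal.map_span, Set.image_singleton, Ideal.span_singleton_le_iff_mem,
      mem_pow_iff K E hπ he ht0 ht h]
    right
    rw [hval, div_self he'.ne']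
  · rw [hπ.maximalIdeal_eq, Ideal.map_span, Set.image_singleton, Ideal.span_singleton_le_iff_mem,
      mem_pow_iff K E hπ he ht0 ht h]
    intro h1
    have h2 := h1.resolve_left h00
    rw [hval, div_le_iff₀ he'] at h2
    push_cast at h2
    linarith

end K956.FVal
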