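import Mathlib
import Groth.Agent.Font.K956.Val3

/-!
# Monogenic rings of integers

For `L / K` finite and a perfect residue field, the ring of integers of `L` is generated over `O` by
one element `γ`, together with a monic `g ∈ O[X]` of degree `f` such that `g γ` is a uniformizer.
-/

set_option autoImplicit false
set_option linter.unusedSectionVars false
set_option linter.deprecated false
universe u

open IsLocalRing Polynomial

namespace K956.FVal

variable {O : Type u} [CommRing O] [IsDomain O] [IsDiscreteValuationRing O]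
  (K : Type u) [Field K] [Algebra O K] [IsFractionRing O K]
  [IsAdicComplete (maximalIdeal O) O] [CharZero K]
  (E : Type u) [Field E] [Algebra K E] [Algebra O E] [IsScalarTower O K E] [FiniteDimensional K E]

include K

theorem dvd_of_ge {π : O} (hπ : Irreducible π) {z x : integralClosure O E} (hz : (z : E) ≠ 0)
    (h : Ge π (val π (z : E)) (x : E)) : z ∣ x := by
  rcases eq_or_ne (x : E) 0 with hx0 | hx0
  · have : x = 0 := Subtype.ext hx0
    rw [this]; exact dvd_zero _
  have h1 := h.resolve_left hx0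
  have h6 : 0 ≤ val π ((x : E) / z) := by
    rw [val_div K hπ hx0 hz]; linarith
  have h7 := (val_nonneg_iff K hπ (div_ne_zero hx0 hz)).mp h6
  refine ⟨⟨(x : E) / z, h7⟩, Subtype.ext ?_⟩
  change (x : E) = z * ((x : E) / z)
  field_simp

theorem exists_mono [PerfectField (ResidueField O)] {π : O} (hπ : Irreducible π) {e : ℕ}
    (he : 0 < e) {t : integralClosure O E} (ht0 : (t : E) ≠ 0) (ht : val π (t : E) = 1 / e)
    (h : ∀ x : E, x ≠ 0 → ∃ a : ℤ, val π x = a / e) :
    ∃ (γ : integralClosure O E) (g : O[X]), g.Monic ∧ 0 < g.natDegree ∧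
      g.natDegree * e = Module.finrank K E ∧ ((aeval γ g : integralClosure O E) : E) ≠ 0 ∧
      val π ((aeval γ g : integralClosure O E) : E) = 1 / e ∧ Algebra.adjoin O {γ} = ⊤ := by
  have hD := IntCl.isDVR O K E
  have hF := IntCl.isFractionRing O K E
  have hfin := IntCl.finite O K E
  let S := integralClosure O E
  let P : Ideal S := maximalIdeal S
  have hlo : P.LiesOver (maximalIdeal O) := liesOver K E P
  have he' : (0 : ℚ) < e := by exact_mod_cast he
  have hmem : ∀ (k : ℕ) (x : S), x ∈ P ^ k ↔ Ge π ((k : ℚ) / e) (x : E) :=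
    fun k x => mem_pow_iff K E hπ he ht0 ht h P k x
  have hmem1 : ∀ (x : S), x ∈ P ↔ Ge π (1 / e : ℚ) (x : E) := by
    intro x
    have := hmem 1 x
    rwa [pow_one, Nat.cast_one] at this
  let _ : Field (O ⧸ maximalIdeal O) := Ideal.Quotient.field _
  let _ : Field (S ⧸ P) := Ideal.Quotient.field _
  have hperf : PerfectField (O ⧸ maximalIdeal O) := inferInstanceAs (PerfectField (ResidueField O))
  have hfd : FiniteDimensional (O ⧸ maximalIdeal O) (S ⧸ P) := inferInstance
  have hsep : Algebra.IsSeparable (O ⧸ maximalIdeal O) (S ⧸ P) := inferInstance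
  obtain ⟨α, hα⟩ := Field.exists_primitive_element (O ⧸ maximalIdeal O) (S ⧸ P)
  have hαint : IsIntegral (O ⧸ maximalIdeal O) α := Algebra.IsIntegral.isIntegral α
  have hdeg : (minpoly (O ⧸ maximalIdeal O) α).natDegree =
      Module.finrank (O ⧸ maximalIdeal O) (S ⧸ P) :=
    (Field.primitive_element_iff_minpoly_natDegree_eq _ α).mp hα
  have hadj : Algebra.adjoin (O ⧸ maximalIdeal O) {α} = ⊤ := by
    rw [← IntermediateField.adjoin_simple_toSubalgebra_of_isAlgebraic hαint.isAlgebraic, hα]
    rfl
  obtain ⟨g, hgmap, hgdeg, hgmon⟩ := Polynomial.lifts_and_natDegree_eq_and_monic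
    (f := Ideal.Quotient.mk (maximalIdeal O)) (p := minpoly (O ⧸ maximalIdeal O) α)
    ((Polynomial.mem_lifts _).mpr (Polynomial.map_surjective _ Ideal.Quotient.mk_surjective _))
    (minpoly.monic hαint)
  obtain ⟨γ₀, hγ₀⟩ := Ideal.Quotient.mk_surjective (I := P) α
  -- reduction of evaluations
  have hred : ∀ (q : O[X]) (y : S), Ideal.Quotient.mk P (aeval y q) =
      aeval (Ideal.Quotient.mk P y) (q.map (Ideal.Quotient.mk (maximalIdeal O))) := by
    intro q y
    rw [Polynomial.aeval_def, Polynomial.aeval_def, Polynomial.hom_eval₂, Polynomial.eval₂_map]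
    rfl
  have hg0 : aeval γ₀ g ∈ P := by
    rw [← Ideal.Quotient.eq_zero_iff_mem, hred, hγ₀, hgmap, minpoly.aeval]
  have hg1 : aeval γ₀ (derivative g) ∉ P := by
    rw [← Ideal.Quotient.eq_zero_iff_mem, hred, hγ₀, ← Polynomial.derivative_map, hgmap]
    exact (Algebra.IsSeparable.isSeparable (O ⧸ maximalIdeal O) α).aeval_derivative_ne_zero
      (minpoly.aeval _ α)
  have hunit : ∀ y : S, y ∉ P → (y : E) ≠ 0 ∧ val π (y : E) = 0 := by
    intro y hy
    have : IsUnit y := by
      by_contra hc
      exact hy ((IsLocalRing.mem_maximalIdeal y).mpr hc)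
    exact (isUnit_iff K E hπ y).mp this
  -- find γ
  have hex : ∃ γ : S, Ideal.Quotient.mk P γ = α ∧ ((aeval γ g : S) : E) ≠ 0 ∧
      val π ((aeval γ g : S) : E) = 1 / e := by
    by_cases hc : ((aeval γ₀ g : S) : E) ≠ 0 ∧ val π ((aeval γ₀ g : S) : E) = 1 / e
    · exact ⟨γ₀, hγ₀, hc.1, hc.2⟩
    have h2 : Ge π (2 / e : ℚ) ((aeval γ₀ g : S) : E) := by
      rcases eq_or_ne ((aeval γ₀ g : S) : E) 0 with h0 | h0
      · exact Or.inl h0
      right
      have hne : val π ((aeval γ₀ g : S) : E) ≠ 1 / e := fun h' => hc ⟨h0, h'⟩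
      obtain ⟨a, ha⟩ := h _ h0
      have h3 := ((hmem1 _).mp hg0).resolve_left h0
      rw [ha] at h3 hne ⊢
      rw [div_le_div_iff_of_pos_right he'] at h3 ⊢
      have h4 : (a : ℚ) ≠ 1 := fun h5 => hne (by rw [h5])
      have h5 : (1 : ℤ) ≤ a := by exact_mod_cast h3
      have h6 : a ≠ 1 := fun h7 => h4 (by exact_mod_cast h7)
      have h7 : (2 : ℤ) ≤ a := by omega
      exact_mod_cast h7
    obtain ⟨k, hk⟩ := Polynomial.binomExpansion (g.map (algebraMap O S)) γ₀ t
    refine ⟨γ₀ + t, ?_, ?_⟩
    · rw [map_add, hγ₀, Ideal.Quotient.eq_zero_iff_mem.mpr, add_zero]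
      rw [hmem1]
      exact Or.inr ht.ge
    · have h3 : aeval (γ₀ + t) g = aeval γ₀ (derivative g) * t + (aeval γ₀ g + k * t ^ 2) := by
        have : ∀ (q : O[X]) (y : S), aeval y q = (q.map (algebraMap O S)).eval y := by
          intro q y
          rw [Polynomial.aeval_def, Polynomial.eval_map]
        rw [this, this, this, ← Polynomial.derivative_map, hk]
        ring
      have h4 := hunit _ hg1
      have h5 : val π (((aeval γ₀ (derivative g) * t : S) : S) : E) = 1 / e := by
        change val π (((aeval γ₀ (derivative g) : S) : E) * (t : E)) = 1 / e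
        rw [val_mul K hπ h4.1 ht0, h4.2, ht, zero_add]
      have h6 : (((aeval γ₀ (derivative g) * t : S) : S) : E) ≠ 0 := by
        change ((aeval γ₀ (derivative g) : S) : E) * (t : E) ≠ 0
        exact mul_ne_zero h4.1 ht0
      have h7 : Ge π (2 / e : ℚ) (((aeval γ₀ g + k * t ^ 2 : S) : S) : E) := by
        change Ge π (2 / e : ℚ) (((aeval γ₀ g : S) : E) + (k : E) * (t : E) ^ 2)
        refine Ge.add K hπ h2 ?_
        have h8 : Ge π ((2 : ℕ) * (1 / e) : ℚ) ((t : E) ^ 2) := Ge.pow K hπ (Or.inr ht.ge) 2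
        have h9 : Ge π ((2 : ℕ) * (1 / e) : ℚ) ((k : E) * (t : E) ^ 2) := by
          rw [mul_comm (k : E)]
          exact h8.mul_integral K hπ k.2
        refine h9.mono (le_of_eq ?_)
        push_cast
        ring
      have h8 := val_add_eq K hπ h6 (y := (((aeval γ₀ g + k * t ^ 2 : S) : S) : E)) (by
        rcases h7 with h7 | h7
        · exact Or.inl h7
        · right
          rw [h5]
          refine lt_of_lt_of_le ?_ h7
          rw [div_lt_div_iff_of_pos_right he']
          norm_num)
      rw [h5] at h8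
      rw [h3]
      exact h8
  obtain ⟨γ, hγα, hγ0, hγv⟩ := hex
  refine ⟨γ, g, hgmon, ?_, ?_, hγ0, hγv, ?_⟩
  · rw [hgdeg]
    exact minpoly.natDegree_pos hαint
  · have hne : (maximalIdeal O).map (algebraMap O S) ≠ ⊥ := by
      rw [hπ.maximalIdeal_eq, Ideal.map_span, Set.image_singleton, Ne, Ideal.span_singleton_eq_bot]
      intro h0
      exact hπ.ne_zero (IntCl.algebraMap_injective O K E (by rw [h0, map_zero]))
    have h1 := Ideal.ramificationIdx_mul_inertiaDeg_of_isLocalRing S K E
      (p := maximalIdeal O) (IsDiscreteValuationRing.not_a_field O)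
    have h2 : (maximalIdeal O).ramificationIdx' (maximalIdeal S) = e := by
      rw [Ideal.ramificationIdx'_eq_ramificationIdx' (maximalIdeal O) P hne]
      exact ramificationIdx_eq K E hπ he ht0 ht h P
    have h3 : (maximalIdeal O).inertiaDeg' (maximalIdeal S) =
        Module.finrank (O ⧸ maximalIdeal O) (S ⧸ P) := Ideal.inertiaDeg'_algebraMap _ _
    rw [h2, h3, ← hdeg, ← hgdeg] at h1
    rw [← h1, mul_comm]
  · set z : S := aeval γ g with hz
    have hzA : z ∈ Algebra.adjoin O {γ} := by
      rw [hz]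
      exact Polynomial.aeval_mem_adjoin_singleton O γ
    have hA : ∀ x : S, ∃ a ∈ Algebra.adjoin O {γ}, z ∣ x - a := by
      intro x
      have hx : Ideal.Quotient.mk P x ∈ Algebra.adjoin (O ⧸ maximalIdeal O) {α} := by
        rw [hadj]; trivial
      obtain ⟨q', hq'⟩ := (Algebra.adjoin_mem_exists_aeval _ α hx)
      obtain ⟨q, rfl⟩ := Polynomial.map_surjective _ (Ideal.Quotient.mk_surjective (I := maximalIdeal O)) q'
      refine ⟨aeval γ q, Polynomial.aeval_mem_adjoin_singleton O γ, ?_⟩
      have h1 : x - aeval γ q ∈ P := by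
        rw [← Ideal.Quotient.eq_zero_iff_mem, map_sub, hred, hγα, hq', sub_self]
      apply dvd_of_ge K E hπ hγ0
      rw [hγv]
      exact (hmem1 _).mp h1
    have hAk : ∀ (k : ℕ) (x : S), ∃ a ∈ Algebra.adjoin O {γ}, z ^ k ∣ x - a := by
      intro k
      induction k with
      | zero => exact fun x => ⟨0, zero_mem _, by rw [pow_zero]; exact one_dvd _⟩
      | succ k ih =>
        intro x
        obtain ⟨a, ha, y, hy⟩ := ih x
        obtain ⟨b, hb, w, hw⟩ := hA y
        refine ⟨a + z ^ k * b, add_mem ha (mul_mem (pow_mem hzA k) hb), w, ?_⟩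
        rw [pow_succ, mul_assoc, ← hw]
        linear_combination hy
    have hπz : algebraMap O S π ∣ z ^ e := by
      apply dvd_of_ge K E hπ
      · exact pi_ne_zero (K := K) (Ω := E) hπ
      · right
        change val π (algebraMap O E π) ≤ val π ((z : E) ^ e)
        rw [val_pi K hπ, val_pow K hπ hγ0, hγv, mul_one_div, div_self he'.ne']
    have hle : (⊤ : Submodule O S) ≤ Subalgebra.toSubmodule (Algebra.adjoin O {γ}) ⊔
        (maximalIdeal O) • (⊤ : Submodule O S) := by
      intro x _
      obtain ⟨a, ha, hx⟩ := hAk e x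
      obtain ⟨y, hy⟩ := hπz.trans hx
      have h1 : x = a + π • y := by
        rw [Algebra.smul_def, ← hy]; ring
      rw [h1]
      refine Submodule.add_mem_sup ha ?_
      exact Submodule.smul_mem_smul (by rw [hπ.maximalIdeal_eq]; exact Ideal.mem_span_singleton_self π) trivial
    have h2 := Submodule.le_of_le_smul_of_le_jacobson_bot (Module.Finite.fg_top (R := O) (M := S))
      (IsLocalRing.maximalIdeal_le_jacobson ⊥) hle
    rw [eq_top_iff]
    intro x _
    exact h2 trivial

end K956.FVal
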