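import Mathlib
import Groth.Agent.Font.K956.Mono

/-!
# The Galois group, inertia and the different through a generator of the ring of integers
-/

set_option autoImplicit false
set_option linter.unusedSectionVars false
set_option linter.deprecated false
universe u

open IsLocalRing Polynomial

namespace K956.FVal

variable {O : Type u} [CommRing O] [IsDomain O] [IsDiscreteValuationRing O]
  (K : Type u) [Field K] [Algebra O K] [IsFractionRing O K]
  [IsAdicComplete (maximalIdeal O) O] [CharZero K]
  (L : Type u) [Field L] [Algebra K L] [Algebra O L] [IsScalarTower O K L] [FiniteDimensional K L]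

include K

theorem adjoin_field {γ : integralClosure O L} (hγ : Algebra.adjoin O {γ} = ⊤) :
    Algebra.adjoin K {(γ : L)} = ⊤ := by
  have hF := IntCl.isFractionRing O K L
  rw [eq_top_iff]
  intro x _
  obtain ⟨a, b, hb, rfl⟩ := IsFractionRing.div_surjective (A := integralClosure O L) x
  -- every element is `a / r` with `r ∈ O`
  have hmem : ∀ c : integralClosure O L, (c : L) ∈ Algebra.adjoin K {(γ : L)} := by
    intro c
    have hc : c ∈ Algebra.adjoin O {γ} := by rw [hγ]; trivial
    obtain ⟨q, rfl⟩ := Algebra.adjoin_mem_exists_aeval _ γ hc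
    have h1 : ((aeval γ q : integralClosure O L) : L) = aeval (γ : L) (q.map (algebraMap O K)) := by
      rw [Polynomial.aeval_map_algebraMap]
      change (integralClosure O L).val (aeval γ q) = _
      rw [← Polynomial.aeval_algHom_apply]
      rfl
    rw [h1]
    exact Polynomial.aeval_mem_adjoin_singleton K _
  have hb0 : (b : L) ≠ 0 := by
    intro h
    exact nonZeroDivisors.ne_zero hb (Subtype.ext h)
  rw [div_eq_mul_inv]
  refine mul_mem (hmem a) ?_
  -- the inverse of an algebraic element
  have h2 := hmem b
  have hfld : IsField (Algebra.adjoin K {(γ : L)}) := by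
    have : Algebra.IsIntegral K (Algebra.adjoin K {(γ : L)}) := inferInstance
    exact isField_of_isIntegral_of_isField' (Field.toIsField K)
  obtain ⟨y, hy⟩ := hfld.mul_inv_cancel (a := ⟨(b : L), h2⟩) (by
    intro h
    exact hb0 (congrArg Subtype.val h))
  have h3 : (b : L) * (y : L) = 1 := congrArg Subtype.val hy
  have h4 : (algebraMap (integralClosure O L) L b)⁻¹ = (y : L) := by
    change (b : L)⁻¹ = y
    rw [eq_comm, ← mul_right_inj' hb0, h3, mul_inv_cancel₀ hb0]
  rw [h4]
  exact y.2

theorem gal_ne {γ : integralClosure O L} (hγ : Algebra.adjoin O {γ} = ⊤) (σ τ : L ≃ₐ[K] L)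
    (h : σ (γ : L) = τ γ) : σ = τ := by
  have h1 := adjoin_field K L hγ
  have h2 : (σ : L →ₐ[K] L) = τ := by
    apply AlgHom.ext_of_adjoin_eq_top h1
    intro x hx
    rw [Set.mem_singleton_iff] at hx
    subst hx
    exact h
  ext x
  exact congrArg (fun f : L →ₐ[K] L => f x) h2

theorem gal_integral (γ : integralClosure O L) (σ : L ≃ₐ[K] L) : IsIntegral O (σ (γ : L)) :=
  γ.2.map (σ.toAlgHom.restrictScalars O)

variable [IsGalois K L]

theorem minpoly_map {γ : integralClosure O L} (hγ : Algebra.adjoin O {γ} = ⊤) :
    (minpoly O γ).map (algebraMap O L) = ∏ σ : L ≃ₐ[K] L, (X - C (σ (γ : L))) := by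
  classical
  have hD := IntCl.isDVR O K L
  have hfin := IntCl.finite O K L
  have hint : IsIntegral O γ := Algebra.IsIntegral.isIntegral γ
  have hF := IntCl.isFractionRing O K L
  have h1 : minpoly K (γ : L) = (minpoly O γ).map (algebraMap O K) := by
    have := minpoly.isIntegrallyClosed_eq_field_fractions K L hint
    exact this
  have h2 : (minpoly O γ).map (algebraMap O L) = (minpoly K (γ : L)).map (algebraMap K L) := by
    rw [h1, Polynomial.map_map, ← IsScalarTower.algebraMap_eq]
  rw [h2]
  apply Polynomial.eq_of_monic_of_dvd_of_natDegree_le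
  · exact Polynomial.monic_prod_of_monic _ _ fun σ _ => Polynomial.monic_X_sub_C _
  · exact (minpoly.monic (Algebra.IsIntegral.isIntegral (γ : L))).map _
  · apply Finset.prod_dvd_of_coprime
    · intro σ _ τ _ hστ
      apply Polynomial.isCoprime_X_sub_C_of_isUnit_sub
      rw [isUnit_iff_ne_zero, sub_ne_zero]
      exact fun h => hστ (gal_ne K L hγ σ τ h)
    · intro σ _
      rw [Polynomial.dvd_iff_isRoot, Polynomial.IsRoot.def, Polynomial.eval_map,
        ← Polynomial.aeval_def]
      change aeval ((σ : L →ₐ[K] L) (γ : L)) (minpoly K (γ : L)) = 0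
      rw [Polynomial.aeval_algHom_apply, minpoly.aeval, map_zero]
  · rw [Polynomial.natDegree_prod_of_monic _ _ fun σ _ => Polynomial.monic_X_sub_C _]
    simp only [Polynomial.natDegree_X_sub_C, Finset.sum_const, Finset.card_univ, smul_eq_mul,
      mul_one]
    rw [← Nat.card_eq_fintype_card, IsGalois.card_aut_eq_finrank]
    have h3 := (Field.primitive_element_iff_minpoly_natDegree_eq K (γ : L)).mp (by
      rw [← IntermediateField.toSubalgebra_inj,
        IntermediateField.adjoin_simple_toSubalgebra_of_isAlgebraic
          (Algebra.IsIntegral.isIntegral (R := K) (γ : L)).isAlgebraic, adjoin_field K L hγ]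
      rfl)
    rw [← h3]
    exact Polynomial.natDegree_map_le

theorem natDegree_minpoly {γ : integralClosure O L} (hγ : Algebra.adjoin O {γ} = ⊤) :
    (minpoly O γ).natDegree = Module.finrank K L := by
  classical
  have hinj : Function.Injective (algebraMap O L) := algebraMap_injective (K := K)
  have h1 := congrArg Polynomial.natDegree (minpoly_map K L hγ)
  rw [Polynomial.natDegree_map_eq_of_injective hinj,
    Polynomial.natDegree_prod_of_monic _ _ fun σ _ => Polynomial.monic_X_sub_C _] at h1
  rw [h1]
  simp only [Polynomial.natDegree_X_sub_C, Finset.sum_const, Finset.card_univ, smul_eq_mul,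
      mul_one]
  rw [← Nat.card_eq_fintype_card, IsGalois.card_aut_eq_finrank]

theorem aeval_minpoly {γ : integralClosure O L} (hγ : Algebra.adjoin O {γ} = ⊤)
    {Ω : Type u} [Field Ω] [Algebra O Ω] (ι : L →ₐ[O] Ω) (x : Ω) :
    aeval x (minpoly O γ) = ∏ σ : L ≃ₐ[K] L, (x - ι (σ (γ : L))) := by
  have h1 : aeval x (minpoly O γ) = (((minpoly O γ).map (algebraMap O L)).map ι.toRingHom).eval x := by
    rw [Polynomial.map_map, Polynomial.eval_map, Polynomial.aeval_def]
    congr 1
    ext r
    exact (ι.commutes r).symm
  rw [h1, minpoly_map K L hγ, Polynomial.map_prod, Polynomial.eval_prod]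
  refine Finset.prod_congr rfl fun σ _ => ?_
  rw [Polynomial.map_sub, Polynomial.map_X, Polynomial.map_C, Polynomial.eval_sub,
    Polynomial.eval_X, Polynomial.eval_C]
  rfl

theorem aeval_derivative {γ : integralClosure O L} (hγ : Algebra.adjoin O {γ} = ⊤)
    [DecidableEq (L ≃ₐ[K] L)] :
    ((aeval γ (derivative (minpoly O γ)) : integralClosure O L) : L) =
      ∏ σ ∈ Finset.univ.erase (1 : L ≃ₐ[K] L), ((γ : L) - σ (γ : L)) := by
  have h1 : ((aeval γ (derivative (minpoly O γ)) : integralClosure O L) : L) =
      (derivative ((minpoly O γ).map (algebraMap O L))).eval (γ : L) := by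
    rw [Polynomial.derivative_map, Polynomial.eval_map, ← Polynomial.aeval_def]
    change (integralClosure O L).val (aeval γ _) = _
    rw [← Polynomial.aeval_algHom_apply]
    rfl
  rw [h1, minpoly_map K L hγ, Polynomial.derivative_prod_finset, Polynomial.eval_finsetSum]
  rw [Finset.sum_eq_single (1 : L ≃ₐ[K] L)]
  · rw [Polynomial.derivative_X_sub_C, mul_one, Polynomial.eval_prod]
    refine Finset.prod_congr rfl fun σ _ => ?_
    rw [Polynomial.eval_sub, Polynomial.eval_X, Polynomial.eval_C]
  · intro σ _ hσ
    rw [Polynomial.eval_mul, Polynomial.eval_prod]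
    have : ∏ j ∈ Finset.univ.erase σ, Polynomial.eval (γ : L) (X - C (j (γ : L))) = 0 := by
      apply Finset.prod_eq_zero (i := (1 : L ≃ₐ[K] L))
      · exact Finset.mem_erase.mpr ⟨hσ.symm, Finset.mem_univ _⟩
      · rw [Polynomial.eval_sub, Polynomial.eval_X, Polynomial.eval_C]
        change (γ : L) - γ = 0
        exact sub_self _
    rw [this, zero_mul]
  · intro h
    exact absurd (Finset.mem_univ _) h

end K956.FVal
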