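import Mathlib
import Groth.Agent.Font.K956.Diff

/-!
# The different and the order of the inertia group
-/

set_option autoImplicit false
set_option linter.unusedSectionVars false
set_option linter.deprecated false
universe u

open IsLocalRing Polynomial

namespace K956.FVal

variable {O : Type u} [CommRing O] [IsDomain O] [IsDiscreteValuationRing O]
  (K : Type u) [Field K] [Algebra O K] [IsFractionRing O K]
  [IsAdicComplete (maximalIdeal O) O] [CharZero K]
  (L : Type u) [Field L] [Algebra K L] [Algebra O L] [IsScalarTower O K L] [FiniteDimensional K L]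

include K

theorem differentIdeal_eq_span [IsDedekindDomain (integralClosure O L)] [Module.IsTorsionFree O (integralClosure O L)]
    {γ : integralClosure O L} (hγ : Algebra.adjoin O {γ} = ⊤) :
    differentIdeal O (integralClosure O L) =
      Ideal.span {aeval γ (derivative (minpoly O γ))} := by
  have hD := IntCl.isDVR O K L
  have hfin := IntCl.finite O K L
  have hF := IntCl.isFractionRing O K L
  have h1 := conductor_mul_differentIdeal O K L γ (adjoin_field K L hγ)
  rwa [conductor_eq_top_of_adjoin_eq_top hγ, Ideal.top_mul] at h1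

theorem mem_span_iff {π : O} (hπ : Irreducible π) {z x : integralClosure O L} (hz : (z : L) ≠ 0) :
    x ∈ Ideal.span {z} ↔ Ge π (val π (z : L)) (x : L) := by
  rw [Ideal.mem_span_singleton]
  constructor
  · rintro ⟨y, rfl⟩
    exact Ge.mul_integral K hπ (Or.inr le_rfl) y.2
  · exact dvd_of_ge K L hπ hz

variable [IsGalois K L]

theorem exists_different [IsDedekindDomain (integralClosure O L)] [Module.IsTorsionFree O (integralClosure O L)] {π : O}
    (hπ : Irreducible π) {e : ℕ} (he : 0 < e)
    {t : integralClosure O L} (ht0 : (t : L) ≠ 0) (ht : val π (t : L) = 1 / e)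
    (h : ∀ x : L, x ≠ 0 → ∃ a : ℤ, val π x = a / e) (P : Ideal (integralClosure O L))
    [hP : P.IsMaximal] [DecidableEq (L ≃ₐ[K] L)]
    {γ : integralClosure O L} (hγ : Algebra.adjoin O {γ} = ⊤) :
    ∃ d : ℕ, differentIdeal O (integralClosure O L) = P ^ d ∧
      (d : ℚ) / e = ∑ σ ∈ Finset.univ.erase (1 : L ≃ₐ[K] L), val π ((γ : L) - σ (γ : L)) := by
  set D : integralClosure O L := aeval γ (derivative (minpoly O γ)) with hDdef
  have hne : ∀ σ ∈ Finset.univ.erase (1 : L ≃ₐ[K] L), (γ : L) - σ (γ : L) ≠ 0 := by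
    intro σ hσ h0
    exact (Finset.mem_erase.mp hσ).1 (gal_ne K L hγ σ 1 (sub_eq_zero.mp h0).symm)
  have hD0 : (D : L) ≠ 0 := by
    rw [hDdef, aeval_derivative K L hγ]
    exact Finset.prod_ne_zero_iff.mpr hne
  have hDv : val π (D : L) =
      ∑ σ ∈ Finset.univ.erase (1 : L ≃ₐ[K] L), val π ((γ : L) - σ (γ : L)) := by
    rw [hDdef, aeval_derivative K L hγ, val_prod K hπ _ _ hne]
  obtain ⟨a, ha⟩ := h _ hD0
  have ha0 : 0 ≤ a := by
    have h1 := (val_nonneg_iff K hπ hD0).mpr D.2
    have he' : (0 : ℚ) < e := by exact_mod_cast he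
    rw [ha, div_nonneg_iff] at h1
    rcases h1 with h1 | h1
    · exact_mod_cast h1.1
    · exact absurd h1.2 (not_le.mpr he')
  obtain ⟨d, rfl⟩ := Int.eq_ofNat_of_zero_le ha0
  refine ⟨d, ?_, ?_⟩
  · rw [differentIdeal_eq_span K L hγ]
    ext x
    rw [mem_span_iff K L hπ hD0, mem_pow_iff K L hπ he ht0 ht h P, ha]
    rfl
  · rw [← hDv, ha]
    rfl

/-- Elements of the Galois group congruent to the identity. -/
theorem le_val_of_trivial {π : O} (hπ : Irreducible π) {e : ℕ} (he : 0 < e)
    {t : integralClosure O L} (ht0 : (t : L) ≠ 0) (ht : val π (t : L) = 1 / e)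
    (h : ∀ x : L, x ≠ 0 → ∃ a : ℤ, val π x = a / e) (P : Ideal (integralClosure O L))
    [hP : P.IsMaximal] {γ : integralClosure O L} (hγ : Algebra.adjoin O {γ} = ⊤)
    (σ : L ≃ₐ[K] L) (hσ : σ ≠ 1) (j : ℕ)
    (hj : ∀ x : integralClosure O L, ∃ y ∈ P ^ j, algebraMap (integralClosure O L) L y =
      σ (algebraMap (integralClosure O L) L x) - algebraMap (integralClosure O L) L x) :
    (j : ℚ) / e ≤ val π ((γ : L) - σ (γ : L)) := by
  obtain ⟨y, hy, hy'⟩ := hj γ
  have h1 : (y : L) = σ (γ : L) - γ := hy'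
  have h2 := (mem_pow_iff K L hπ he ht0 ht h P j y).mp hy
  have h3 : σ (γ : L) - γ ≠ 0 := fun h0 => hσ (gal_ne K L hγ σ 1 (sub_eq_zero.mp h0))
  rw [h1] at h2
  rw [val_sub_comm K hπ]
  exact h2.resolve_left h3

theorem perfectField_residueField [PerfectField (ResidueField O)] :
    PerfectField (maximalIdeal O).ResidueField := by
  let _ : Field (O ⧸ maximalIdeal O) := Ideal.Quotient.field _
  have : PerfectField (O ⧸ maximalIdeal O) := inferInstanceAs (PerfectField (ResidueField O))
  have h1 : Function.Bijective (algebraMap (O ⧸ maximalIdeal O) (maximalIdeal O).ResidueField) :=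
    Ideal.bijective_algebraMap_quotient_residueField _
  have h2 : Algebra.IsAlgebraic (O ⧸ maximalIdeal O) (maximalIdeal O).ResidueField := by
    constructor
    intro x
    obtain ⟨y, rfl⟩ := h1.2 x
    exact isAlgebraic_algebraMap y
  exact Algebra.IsAlgebraic.perfectField (K := O ⧸ maximalIdeal O)

theorem card_inertia [PerfectField (ResidueField O)] {π : O} (hπ : Irreducible π) {e : ℕ}
    (he : 0 < e)
    {t : integralClosure O L} (ht0 : (t : L) ≠ 0) (ht : val π (t : L) = 1 / e)
    (h : ∀ x : L, x ≠ 0 → ∃ a : ℤ, val π x = a / e)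
    {γ : integralClosure O L} (hγ : Algebra.adjoin O {γ} = ⊤) :
    Nat.card {σ : L ≃ₐ[K] L // σ = 1 ∨ 0 < val π ((γ : L) - σ (γ : L))} = e := by
  have hD := IntCl.isDVR O K L
  have hfin := IntCl.finite O K L
  have hF := IntCl.isFractionRing O K L
  let S := integralClosure O L
  let P : Ideal S := maximalIdeal S
  have hlo : P.LiesOver (maximalIdeal O) := liesOver K L P
  let _ : MulSemiringAction (L ≃ₐ[K] L) S := IsIntegralClosure.MulSemiringAction O K L S
  have hG : IsGaloisGroup (L ≃ₐ[K] L) O S := IsGaloisGroup.of_isFractionRing _ _ _ K L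
  have hperf := perfectField_residueField (O := O) K
  have hfs : FaithfulSMul O S := (faithfulSMul_iff_algebraMap_injective O S).mpr
    (IntCl.algebraMap_injective O K L)
  have htf : Module.IsTorsionFree O S := inferInstance
  have hflat : Module.Flat O S := inferInstance
  have h1 := Ideal.card_inertia_eq_ramificationIdxIn (G := (L ≃ₐ[K] L)) (maximalIdeal O) P
  rw [Ideal.ramificationIdxIn_eq_ramificationIdx (maximalIdeal O) P (L ≃ₐ[K] L),
    ramificationIdx_eq K L hπ he ht0 ht h P] at h1
  rw [← h1]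
  refine Nat.card_congr (Equiv.subtypeEquivRight fun σ => ?_)
  have hact : ∀ x : S, ((σ • x : S) : L) = σ (x : L) := by
    intro x
    exact algebraMap_galRestrict_apply O σ x
  have hmem1 : ∀ (x : S), x ∈ P ↔ Ge π (1 / e : ℚ) (x : L) := by
    intro x
    have := mem_pow_iff K L hπ he ht0 ht h P 1 x
    rwa [pow_one, Nat.cast_one] at this
  have he' : (0 : ℚ) < e := by exact_mod_cast he
  constructor
  · intro hσ x
    change σ • x - x ∈ P
    rcases eq_or_ne σ 1 with rfl | hσ1
    · rw [one_smul, sub_self]; exact P.zero_mem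
    have hv := hσ.resolve_left hσ1
    -- `γ - σ γ ∈ P`
    have hγP : σ • γ - γ ∈ P := by
      rw [hmem1]
      right
      change 1 / (e : ℚ) ≤ val π (((σ • γ : S) : L) - (γ : L))
      rw [hact, val_sub_comm K hπ]
      have hne : (γ : L) - σ (γ : L) ≠ 0 := by
        intro h0
        rw [h0, val_zero] at hv
        exact lt_irrefl _ hv
      obtain ⟨a, ha⟩ := h _ hne
      rw [ha] at hv ⊢
      rw [div_le_div_iff_of_pos_right he']
      have h2 : (0 : ℚ) < a := by
        by_contra hc
        push Not at hc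
        exact absurd hv (not_lt.mpr (div_nonpos_of_nonpos_of_nonneg hc he'.le))
      have h3 : (0 : ℤ) < a := by exact_mod_cast h2
      have h4 : (1 : ℤ) ≤ a := by omega
      exact_mod_cast h4
    have hx : x ∈ Algebra.adjoin O {γ} := by rw [hγ]; trivial
    obtain ⟨q, rfl⟩ := Algebra.adjoin_mem_exists_aeval _ γ hx
    have h5 : σ • (aeval γ q : S) = aeval (σ • γ) q := by
      apply Subtype.ext
      rw [hact]
      have h6 : ∀ y : S, ((aeval y q : S) : L) = aeval (y : L) q := by
        intro y
        change (integralClosure O L).val (aeval y q) = _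
        rw [← Polynomial.aeval_algHom_apply]
        rfl
      rw [h6, h6, hact]
      exact (Polynomial.aeval_algHom_apply (σ.toAlgHom.restrictScalars O) (γ : L) q).symm
    rw [h5]
    have h7 : σ • γ - γ ∣ aeval (σ • γ) q - aeval γ q := by
      rw [Polynomial.aeval_def, Polynomial.aeval_def, ← Polynomial.eval_map, ← Polynomial.eval_map]
      exact Polynomial.sub_dvd_eval_sub _ _ _
    exact P.mem_of_dvd h7 hγP
  · intro hσ
    by_cases hσ1 : σ = 1
    · exact Or.inl hσ1
    right
    have h2 : σ • γ - γ ∈ P := hσ γ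
    rw [hmem1] at h2
    have h3 : σ (γ : L) - γ ≠ 0 := fun h0 => hσ1 (gal_ne K L hγ σ 1 (sub_eq_zero.mp h0))
    have h4 : Ge π (1 / e : ℚ) (σ (γ : L) - γ) := by
      rw [← hact]; exact h2
    have h5 := h4.resolve_left h3
    rw [val_sub_comm K hπ]
    exact lt_of_lt_of_le (by positivity) h5

end K956.FVal
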