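import Mathlib
import Groth.Agent.Font.K956.Diff2

/-!
# The test fields
-/

set_option autoImplicit false
set_option linter.unusedSectionVars false
set_option linter.deprecated false
universe u

open IsLocalRing Polynomial

namespace K956.FVal

variable {O : Type u} [CommRing O] [IsDomain O] [IsDiscreteValuationRing O]
  (K : Type u) [Field K] [Algebra O K] [IsFractionRing O K]
  [IsAdicComplete (maximalIdeal O) O] [CharZero K]
  {Ω : Type u} [Field Ω] [Algebra K Ω] [Algebra O Ω] [IsScalarTower O K Ω]
  [Algebra.IsAlgebraic K Ω] [IsAlgClosed Ω]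

include K

theorem exists_test (π : O) (F g : O[X]) (hF : F.Monic) (hg : g.Monic) (h q s : ℕ) (hh : 0 < h)
    (hdeg : g.natDegree * s < F.natDegree) :
    ∃ (ρ γ' : Ω) (E : IntermediateField K Ω), ρ ^ h = algebraMap O Ω π ∧
      aeval γ' F = ρ ^ q * aeval γ' g ^ s ∧ IsIntegral O γ' ∧ FiniteDimensional K E ∧
      ρ ∈ E ∧ γ' ∈ E ∧ Module.finrank K E ≤ h * F.natDegree := by
  obtain ⟨ρ, hρ⟩ := IsAlgClosed.exists_pow_nat_eq (algebraMap O Ω π) hh
  have hρint : IsIntegral O ρ := by
    refine IsIntegral.of_pow hh ?_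
    rw [hρ]; exact isIntegral_algebraMap
  let K1 : IntermediateField K Ω := IntermediateField.adjoin K {ρ}
  let ρ1 : K1 := ⟨ρ, IntermediateField.mem_adjoin_simple_self K ρ⟩
  have htower : IsScalarTower O K1 Ω := IsScalarTower.of_algebraMap_eq fun x => rfl
  have hgd : (g ^ s).natDegree < F.natDegree := by
    rw [hg.natDegree_pow]; rwa [mul_comm]
  -- the polynomial over a general `O`-algebra
  have hmon : ∀ (R : Type u) [CommRing R] [Nontrivial R] [Algebra O R] (r : R),
      (F.map (algebraMap O R) - C (r ^ q) * (g.map (algebraMap O R)) ^ s).Monic ∧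
      (F.map (algebraMap O R) - C (r ^ q) * (g.map (algebraMap O R)) ^ s).natDegree =
        F.natDegree := by
    intro R _ _ _ r
    have h0 : (C (r ^ q) * (g.map (algebraMap O R)) ^ s).degree <
        (F.map (algebraMap O R)).degree := by
      rw [hF.degree_map]
      rw [← Polynomial.smul_eq_C_mul]
      refine lt_of_le_of_lt (Polynomial.degree_smul_le _ _) ?_
      rw [← Polynomial.map_pow]
      refine lt_of_le_of_lt Polynomial.degree_map_le ?_
      rw [Polynomial.degree_eq_natDegree (hg.pow s).ne_zero, Polynomial.degree_eq_natDegree hF.ne_zero]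
      exact_mod_cast hgd
    refine ⟨(hF.map _).sub_of_left h0, ?_⟩
    rw [Polynomial.natDegree_sub_eq_left_of_natDegree_lt, hF.natDegree_map]
    by_cases hz : C (r ^ q) * (g.map (algebraMap O R)) ^ s = 0
    · rw [hz, Polynomial.natDegree_zero, hF.natDegree_map]
      omega
    · exact Polynomial.natDegree_lt_natDegree hz h0
  -- the root
  have hroot : ∃ γ' : Ω, (F.map (algebraMap O Ω) - C (ρ ^ q) * (g.map (algebraMap O Ω)) ^ s).IsRoot γ' := by
    apply IsAlgClosed.exists_root
    have h1 := hmon Ω ρ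
    rw [Polynomial.degree_eq_natDegree h1.1.ne_zero, h1.2]
    have : F.natDegree ≠ 0 := by omega
    exact_mod_cast this
  obtain ⟨γ', hγ'⟩ := hroot
  have hrel : aeval γ' F = ρ ^ q * aeval γ' g ^ s := by
    rw [Polynomial.IsRoot.def, Polynomial.eval_sub, Polynomial.eval_mul, Polynomial.eval_C,
      Polynomial.eval_pow, Polynomial.eval_map, Polynomial.eval_map, sub_eq_zero] at hγ'
    exact hγ'
  have hint : IsIntegral O γ' := by
    let Ob : Subalgebra O Ω := integralClosure O Ω
    let ρb : Ob := ⟨ρ, hρint⟩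
    have h1 := hmon Ob ρb
    have h2 : IsIntegral Ob γ' := by
      refine ⟨_, h1.1, ?_⟩
      rw [Polynomial.eval₂_sub, Polynomial.eval₂_mul, Polynomial.eval₂_C, Polynomial.eval₂_pow,
        Polynomial.eval₂_map, Polynomial.eval₂_map, ← IsScalarTower.algebraMap_eq]
      change aeval γ' F - ρ ^ q * aeval γ' g ^ s = 0
      rw [hrel, sub_self]
    exact isIntegral_trans (R := O) (A := Ob) γ' h2
  have hK1 : FiniteDimensional K K1 :=
    IntermediateField.adjoin.finiteDimensional (Algebra.IsIntegral.isIntegral ρ)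
  let E1 : IntermediateField K1 Ω := IntermediateField.adjoin K1 {γ'}
  have hγK1 : IsIntegral K1 γ' := Algebra.IsIntegral.isIntegral γ'
  have hE1 : FiniteDimensional K1 E1 := IntermediateField.adjoin.finiteDimensional hγK1
  have hρK : IsIntegral K ρ := Algebra.IsIntegral.isIntegral ρ
  have hd1 : Module.finrank K K1 ≤ h := by
    rw [IntermediateField.adjoin.finrank hρK]
    have h1 : (X ^ h - C (algebraMap O K π) : K[X]).natDegree = h := Polynomial.natDegree_X_pow_sub_C
    have h2 : minpoly K ρ ∣ (X ^ h - C (algebraMap O K π) : K[X]) := by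
      apply minpoly.dvd
      rw [map_sub, map_pow, aeval_X, aeval_C, hρ, ← IsScalarTower.algebraMap_apply, sub_self]
    have h3 := Polynomial.natDegree_le_of_dvd h2 (Polynomial.X_pow_sub_C_ne_zero hh _)
    omega
  have hd2 : Module.finrank K1 E1 ≤ F.natDegree := by
    rw [IntermediateField.adjoin.finrank hγK1]
    have h1 := hmon K1 ρ1
    have h2 : minpoly K1 γ' ∣ (F.map (algebraMap O K1) - C (ρ1 ^ q) * (g.map (algebraMap O K1)) ^ s) := by
      apply minpoly.dvd
      rw [map_sub, map_mul, aeval_C, Polynomial.aeval_map_algebraMap, map_pow (aeval γ'),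
        Polynomial.aeval_map_algebraMap, hrel, map_pow (algebraMap K1 Ω)]
      change ρ ^ q * aeval γ' g ^ s - ρ ^ q * aeval γ' g ^ s = 0
      rw [sub_self]
    have h3 := Polynomial.natDegree_le_of_dvd h2 h1.1.ne_zero
    rwa [h1.2] at h3
  refine ⟨ρ, γ', E1.restrictScalars K, hρ, hrel, hint, ?_, ?_, ?_, ?_⟩
  · have : FiniteDimensional K E1 := Module.Finite.trans K1 E1
    exact this
  · have : ((algebraMap K1 E1 ρ1 : E1) : Ω) = ρ := rfl
    rw [IntermediateField.mem_restrictScalars, ← this]
    exact (algebraMap K1 E1 ρ1).2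
  · rw [IntermediateField.mem_restrictScalars]
    exact IntermediateField.mem_adjoin_simple_self K1 γ'
  · have h1 : Module.finrank K (E1.restrictScalars K) = Module.finrank K E1 := rfl
    rw [h1, ← Module.finrank_mul_finrank K K1 E1]
    exact Nat.mul_le_mul hd1 hd2

/-- The norm argument. -/
theorem exists_val_mul {π : O} (hπ : Irreducible π) (L E : IntermediateField K Ω)
    [FiniteDimensional K L] [FiniteDimensional K E] (hLE : L ≤ E) {e : ℕ}
    (h : ∀ x : L, x ≠ 0 → ∃ a : ℤ, val π x = a / e) :
    ∃ n : ℕ, 0 < n ∧ Module.finrank K L * n = Module.finrank K E ∧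
      ∀ y : Ω, y ∈ E → y ≠ 0 → ∃ a : ℤ, (n : ℚ) * val π y = a / e := by
  let _ : Algebra L E := (IntermediateField.inclusion hLE).toAlgebra
  have h1 : IsScalarTower K L E := IsScalarTower.of_algebraMap_eq fun x =>
    ((IntermediateField.inclusion hLE).commutes x).symm
  have h2 : IsScalarTower L E Ω := IsScalarTower.of_algebraMap_eq fun x => rfl
  have hfd : FiniteDimensional L E := Module.Finite.of_restrictScalars_finite K L E
  refine ⟨Module.finrank L E, Module.finrank_pos, Module.finrank_mul_finrank K L E, ?_⟩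
  intro y hy hy0
  let y' : E := ⟨y, hy⟩
  have hy'0 : y' ≠ 0 := fun h => hy0 (congrArg Subtype.val h)
  have hN := Algebra.norm_eq_prod_embeddings L Ω y'
  have hN0 : Algebra.norm L y' ≠ 0 := (Algebra.norm_ne_zero_iff).mpr hy'0
  obtain ⟨a, ha⟩ := h _ hN0
  refine ⟨a, ?_⟩
  rw [← ha]
  have h3 : val π (Algebra.norm L y') = val π (algebraMap L Ω (Algebra.norm L y')) :=
    (val_map π (L.val.restrictScalars O) _).symm
  rw [h3, hN, val_prod K hπ _ _ (fun σ _ => by
    rw [Ne, map_eq_zero_iff σ σ.toRingHom.injective]; exact hy'0)]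
  have h4 : ∀ σ : E →ₐ[L] Ω, val π (σ y') = val π y := by
    intro σ
    let σK : E →ₐ[K] Ω := σ.restrictScalars K
    have h5 : val π (σK.restrictScalars O y') = val π y' := val_map π _ _
    have h6 : val π (E.val.restrictScalars O y') = val π y' := val_map π _ _
    have h7 : (σK.restrictScalars O) y' = σ y' := rfl
    have h8 : (E.val.restrictScalars O) y' = y := rfl
    rw [h7] at h5
    rw [h8] at h6
    rw [h5, h6]
  rw [Finset.sum_congr rfl fun σ _ => h4 σ, Finset.sum_const, Finset.card_univ, nsmul_eq_mul]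
  congr 2
  rw [← AlgHom.card L E Ω]

end K956.FVal
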