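import Mathlib
import Groth.Agent.Font.K956.Test

/-!
# From property `(P_m)` to the bound on the ramification
-/

set_option autoImplicit false
set_option linter.unusedSectionVars false
set_option linter.deprecated false
universe u

open IsLocalRing Polynomial

namespace K956.FVal

variable {O : Type u} [CommRing O] [IsDomain O] [IsDiscreteValuationRing O]
  (K : Type u) [Field K] [Algebra O K] [IsFractionRing O K]
  [IsAdicComplete (maximalIdeal O) O] [CharZero K]
  {Ω : Type u} [Field Ω] [Algebra K Ω] [Algebra O Ω] [IsScalarTower O K Ω]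
  [Algebra.IsAlgebraic K Ω] [IsAlgClosed Ω]

include K

/-- Evaluation at close integral elements. -/
theorem ge_aeval_sub {π : O} (hπ : Irreducible π) (g : O[X]) {x y : Ω} (hx : IsIntegral O x)
    (hy : IsIntegral O y) {i : ℚ} (hi : Ge π i (x - y)) : Ge π i (aeval x g - aeval y g) := by
  let Ob : Subalgebra O Ω := integralClosure O Ω
  let xb : Ob := ⟨x, hx⟩
  let yb : Ob := ⟨y, hy⟩
  obtain ⟨c, hc⟩ : xb - yb ∣ aeval xb g - aeval yb g := by
    rw [Polynomial.aeval_def, Polynomial.aeval_def, ← Polynomial.eval_map, ← Polynomial.eval_map]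
    exact Polynomial.sub_dvd_eval_sub _ _ _
  have h1 : ∀ z : Ob, ((aeval z g : Ob) : Ω) = aeval (z : Ω) g := by
    intro z
    change Ob.val (aeval z g) = _
    rw [← Polynomial.aeval_algHom_apply]
    rfl
  have h2 : aeval x g - aeval y g = (x - y) * (c : Ω) := by
    have := congrArg (Subtype.val : Ob → Ω) hc
    change ((aeval xb g : Ob) : Ω) - ((aeval yb g : Ob) : Ω) = (x - y) * (c : Ω) at this
    rwa [h1, h1] at this
  rw [h2]
  exact hi.mul_integral K hπ c.2

theorem bound {π : O} (hπ : Irreducible π) (L : IntermediateField K Ω) [FiniteDimensional K L]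
    [IsGalois K L] {e : ℕ} (he : 0 < e) (h : ∀ x : L, x ≠ 0 → ∃ a : ℤ, val π x = a / e)
    {γ : integralClosure O L} (hγ : Algebra.adjoin O {γ} = ⊤) {g : O[X]} (hg : g.Monic)
    (hg1 : 0 < g.natDegree) (hgd : g.natDegree * e = Module.finrank K L)
    (hg0 : ((aeval γ g : integralClosure O L) : L) ≠ 0)
    (hgv : val π ((aeval γ g : integralClosure O L) : L) = 1 / e)
    (hcard : Nat.card {σ : L ≃ₐ[K] L // σ = 1 ∨ 0 < val π ((γ : L) - σ (γ : L))} = e)
    {M : ℚ} (hM : 1 ≤ M) [DecidableEq (L ≃ₐ[K] L)]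
    (hP : ∀ (m : ℚ), M < m → ∀ (E : IntermediateField K Ω) [FiniteDimensional K E],
      (integralClosure O L →ₐ[O] (integralClosure O E ⧸ ball K π hπ m E)) → L ≤ E)
    (τ₀ : L ≃ₐ[K] L) (hτ₀ : τ₀ ≠ 1) :
    val π ((γ : L) - τ₀ (γ : L)) +
      ∑ σ ∈ Finset.univ.erase (1 : L ≃ₐ[K] L), val π ((γ : L) - σ (γ : L)) ≤ M := by
  classical
  set w : (L ≃ₐ[K] L) → ℚ := fun σ => val π ((γ : L) - σ (γ : L)) with hw
  have he' : (0 : ℚ) < e := by exact_mod_cast he
  have hwne : ∀ σ : L ≃ₐ[K] L, σ ≠ 1 → (γ : L) - σ (γ : L) ≠ 0 := fun σ hσ h0 =>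
    hσ (gal_ne K L hγ σ 1 (sub_eq_zero.mp h0).symm)
  have hwint : ∀ σ : L ≃ₐ[K] L, σ ≠ 1 → ∃ a : ℤ, w σ = a / e := fun σ hσ => h _ (hwne σ hσ)
  -- the maximal one
  obtain ⟨τ, hτmem, hτmax⟩ := Finset.exists_max_image (Finset.univ.erase (1 : L ≃ₐ[K] L)) w
    ⟨τ₀, Finset.mem_erase.mpr ⟨hτ₀, Finset.mem_univ _⟩⟩
  have hτ1 : τ ≠ 1 := (Finset.mem_erase.mp hτmem).1
  set W : ℚ := ∑ σ ∈ Finset.univ.erase (1 : L ≃ₐ[K] L), w σ with hW
  have hτ₀le : w τ₀ ≤ w τ := hτmax τ₀ (Finset.mem_erase.mpr ⟨hτ₀, Finset.mem_univ _⟩)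
  refine le_trans (add_le_add_left hτ₀le W) ?_
  by_contra hlt
  push Not at hlt
  -- integrality of `e u`
  obtain ⟨U, hU⟩ : ∃ U : ℤ, w τ + W = U / e := by
    have h1 : ∀ s : Finset (L ≃ₐ[K] L), (∀ σ ∈ s, σ ≠ 1) → ∃ a : ℤ, ∑ σ ∈ s, w σ = a / e := by
      intro s
      induction s using Finset.induction_on with
      | empty => exact fun _ => ⟨0, by simp⟩
      | insert a s ha ih =>
        intro hs
        obtain ⟨b, hb⟩ := ih fun σ hσ => hs σ (Finset.mem_insert_of_mem hσ)
        obtain ⟨c, hc⟩ := hwint a (hs a (Finset.mem_insert_self a s))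
        refine ⟨c + b, ?_⟩
        rw [Finset.sum_insert ha, hb, hc]
        push_cast; ring
    obtain ⟨a, ha⟩ := h1 (Finset.univ.erase 1) fun σ hσ => (Finset.mem_erase.mp hσ).1
    obtain ⟨c, hc⟩ := hwint τ hτ1
    exact ⟨c + a, by rw [hW, ha, hc]; push_cast; ring⟩
  have hUe : (e : ℤ) < U := by
    have h1 : (1 : ℚ) < U / e := by rw [← hU]; linarith
    rw [lt_div_iff₀ he', one_mul] at h1
    exact_mod_cast h1
  obtain ⟨V, hV⟩ : ∃ V : ℕ, U = V + 1 := ⟨(U - 1).toNat, by omega⟩
  have hVe : e ≤ V := by omega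
  -- the choice of `h`
  obtain ⟨k, hk⟩ := exists_nat_gt (1 / (w τ + W - M))
  have hd : 0 < w τ + W - M := by linarith
  set hh : ℕ := e * k + 1 with hhh
  have hh0 : 0 < hh := Nat.succ_pos _
  have hh0' : (0 : ℚ) < hh := by exact_mod_cast hh0
  have hbig : 1 < (w τ + W - M) * (e * hh) := by
    rw [div_lt_iff₀ hd] at hk
    have h1 : (k : ℚ) ≤ e * hh := by
      have : k ≤ e * hh := by
        rw [hhh]
        calc k ≤ e * k := Nat.le_mul_of_pos_left k he
          _ ≤ e * k + 1 := Nat.le_succ _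
          _ ≤ e * (e * k + 1) := Nat.le_mul_of_pos_left _ he
      exact_mod_cast this
    calc 1 < k * (w τ + W - M) := hk
      _ ≤ (e * hh) * (w τ + W - M) := mul_le_mul_of_nonneg_right h1 hd.le
      _ = _ := by ring
  set r : ℕ := V / e with hr
  set s : ℕ := V % e with hs
  have hVrs : V = e * r + s := (Nat.div_add_mod V e).symm
  have hse : s < e := Nat.mod_lt _ he
  set q : ℕ := r + k + e * r * k with hq
  have hcop : Nat.Coprime hh e := by
    rw [hhh]
    unfold Nat.Coprime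
    rw [Nat.gcd_comm]
    simp
  set m : ℚ := q / hh + s / e with hm
  have hmu : m = w τ + W - 1 / (e * hh) := by
    rw [hU, hV, hm, hq]
    have h1 : ((V : ℤ) : ℚ) = e * r + s := by rw [hVrs]; push_cast; ring
    have h2 : (hh : ℚ) = e * k + 1 := by rw [hhh]; push_cast; ring
    push_cast
    have h3 : (V : ℚ) = e * r + s := by exact_mod_cast h1
    rw [h3]
    field_simp
    rw [h2]
    ring
  have hmM : M < m := by
    rw [hmu]
    have h1 : 1 / ((e : ℚ) * hh) < w τ + W - M := by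
      rw [div_lt_iff₀ (mul_pos he' hh0')]
      exact hbig
    linarith
  -- the test field
  set F : O[X] := minpoly O γ with hF
  have hfin := IntCl.finite O K L
  have hγint : IsIntegral O γ := Algebra.IsIntegral.isIntegral γ
  have hFmon : F.Monic := minpoly.monic hγint
  have hFdeg : F.natDegree = Module.finrank K L := natDegree_minpoly K L hγ
  obtain ⟨ρ, γ', E, hρ, hrel, hγ'int, hEfin, hρE, hγ'E, hEdeg⟩ := exists_test (Ω := Ω) K π F g hFmon
    hg hh q s hh0 (by
      rw [hFdeg, ← hgd]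
      exact Nat.mul_lt_mul_of_pos_left hse hg1)
  have hp := pi_ne_zero (K := K) (Ω := Ω) hπ
  have hρ0 : ρ ≠ 0 := by
    rintro rfl
    rw [zero_pow hh0.ne'] at hρ
    exact hp hρ.symm
  have hρv : val π ρ = 1 / hh := by
    have h1 := val_pow K hπ hρ0 hh
    rw [hρ, val_pi K hπ] at h1
    rw [eq_div_iff hh0'.ne']
    linarith
  -- conjugates
  let ι : L →ₐ[O] Ω := L.val.restrictScalars O
  have hcoe : ∀ x : L, ι x = (x : Ω) := fun x => rfl
  have hvalL : ∀ x : L, val π (x : Ω) = val π x := fun x => val_map π ι x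
  have hconjint : ∀ σ : L ≃ₐ[K] L, IsIntegral O ((σ (γ : L) : L) : Ω) := by
    intro σ
    exact (gal_integral K L γ σ).map ι
  have hgσ : ∀ σ : L ≃ₐ[K] L, aeval ((σ (γ : L) : L) : Ω) g ≠ 0 ∧
      val π (aeval ((σ (γ : L) : L) : Ω) g) = 1 / e := by
    intro σ
    have h1 : aeval ((σ (γ : L) : L) : Ω) g =
        ι (σ.toAlgHom.restrictScalars O ((aeval γ g : integralClosure O L) : L)) := by
      have h2 : ((aeval γ g : integralClosure O L) : L) = aeval (γ : L) g := by
        change (integralClosure O L).val (aeval γ g) = _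
        rw [← Polynomial.aeval_algHom_apply]
        rfl
      rw [h2, ← Polynomial.aeval_algHom_apply, ← Polynomial.aeval_algHom_apply]
      rfl
    rw [h1, val_map, val_map, hgv]
    refine ⟨?_, rfl⟩
    have hι : Function.Injective ι := ι.toRingHom.injective
    have hσ : Function.Injective (σ.toAlgHom.restrictScalars O) :=
      (σ.toAlgHom.restrictScalars O).toRingHom.injective
    exact (map_ne_zero_iff ι hι).mpr ((map_ne_zero_iff _ hσ).mpr hg0)
  have hFprod := aeval_minpoly K L hγ ι γ'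
  have hF0 : aeval γ' F ≠ 0 := by
    intro h0
    rw [hFprod, Finset.prod_eq_zero_iff] at h0
    obtain ⟨σ, -, hσ⟩ := h0
    have h1 : γ' = ((σ (γ : L) : L) : Ω) := sub_eq_zero.mp hσ
    have h2 : aeval γ' F = 0 := by
      rw [hFprod]
      exact Finset.prod_eq_zero (Finset.mem_univ σ) hσ
    rw [hrel] at h2
    refine mul_ne_zero (pow_ne_zero _ hρ0) (pow_ne_zero _ ?_) h2
    rw [h1]
    exact (hgσ σ).1
  have hbne : ∀ σ : L ≃ₐ[K] L, γ' - ((σ (γ : L) : L) : Ω) ≠ 0 := by
    intro σ h0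
    apply hF0
    rw [hFprod]
    exact Finset.prod_eq_zero (Finset.mem_univ σ) h0
  let b : (L ≃ₐ[K] L) → ℚ := fun σ => val π (γ' - ((σ (γ : L) : L) : Ω))
  have hbsum : val π (aeval γ' F) = ∑ σ : L ≃ₐ[K] L, b σ := by
    rw [hFprod]
    exact val_prod K hπ Finset.univ (fun σ : L ≃ₐ[K] L => γ' - ι (σ (γ : L))) fun σ _ => hbne σ
  obtain ⟨σ₀, -, hσ₀⟩ := Finset.exists_max_image (Finset.univ : Finset (L ≃ₐ[K] L)) b
    ⟨1, Finset.mem_univ _⟩
  set i₀ : ℚ := b σ₀ with hi₀
  have hA : ∀ τ : L ≃ₐ[K] L, τ ≠ 1 → b (σ₀ * τ) = min i₀ (w τ) := by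
    intro τ hτ
    have h1 : γ' - (((σ₀ * τ) (γ : L) : L) : Ω) =
        (γ' - ((σ₀ (γ : L) : L) : Ω)) + ((σ₀ ((γ : L) - τ (γ : L)) : L) : Ω) := by
      rw [map_sub, AlgEquiv.mul_apply]
      push_cast
      ring
    have h2 : val π ((σ₀ ((γ : L) - τ (γ : L)) : L) : Ω) = w τ := by
      rw [hvalL]
      exact val_map π (σ₀.toAlgHom.restrictScalars O) _
    have h3 : ((σ₀ ((γ : L) - τ (γ : L)) : L) : Ω) ≠ 0 := by
      intro h0
      have h4 : σ₀ ((γ : L) - τ (γ : L)) = 0 := by
        exact_mod_cast h0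
      exact hwne τ hτ ((map_eq_zero_iff σ₀ σ₀.injective).mp h4)
    change val π (γ' - (((σ₀ * τ) (γ : L) : L) : Ω)) = _
    rw [h1]
    rcases lt_or_ge (w τ) i₀ with h5 | h5
    · rw [min_eq_right h5.le, add_comm]
      have := val_add_eq K hπ h3 (y := γ' - ((σ₀ (γ : L) : L) : Ω)) (Or.inr (by rw [h2]; exact h5))
      rw [this.2, h2]
    · rw [min_eq_left h5]
      apply le_antisymm
      · have := hσ₀ (σ₀ * τ) (Finset.mem_univ _)
        change val π (γ' - (((σ₀ * τ) (γ : L) : L) : Ω)) ≤ i₀ at this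
        rwa [h1] at this
      · have h6 := val_add K hπ (hbne σ₀) h3 (by rw [← h1]; exact hbne _)
        rw [h2] at h6
        refine le_trans (le_min le_rfl h5) h6
  have hsum : val π (aeval γ' F) =
      i₀ + ∑ τ ∈ Finset.univ.erase (1 : L ≃ₐ[K] L), min i₀ (w τ) := by
    rw [hbsum, ← Equiv.sum_comp (Equiv.mulLeft σ₀) b,
      ← Finset.add_sum_erase _ _ (Finset.mem_univ (1 : L ≃ₐ[K] L))]
    have h1 : b ((Equiv.mulLeft σ₀) 1) = i₀ := by
      change b (σ₀ * 1) = i₀
      rw [mul_one]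
    rw [h1]
    congr 1
    refine Finset.sum_congr rfl fun τ hτ => ?_
    rw [Equiv.coe_mulLeft]
    exact hA τ (Finset.mem_erase.mp hτ).1
  -- closeness of the values of `g`
  have hgclose : Ge π i₀ (aeval γ' g - aeval ((σ₀ (γ : L) : L) : Ω) g) :=
    ge_aeval_sub K hπ g hγ'int (hconjint σ₀) (Or.inr le_rfl)
  have hsplit : aeval γ' g = aeval ((σ₀ (γ : L) : L) : Ω) g +
      (aeval γ' g - aeval ((σ₀ (γ : L) : L) : Ω) g) := by ring
  have hi₀e : 1 / (e : ℚ) < i₀ := by
    by_contra hc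
    push Not at hc
    -- upper bound for the sum
    have h1 : val π (aeval γ' F) ≤ e * i₀ := by
      rw [hsum]
      have h2 : ∀ τ ∈ Finset.univ.erase (1 : L ≃ₐ[K] L),
          min i₀ (w τ) ≤ if 0 < w τ then i₀ else 0 := by
        intro τ _
        split_ifs with h3
        · exact min_le_left _ _
        · exact (min_le_right _ _).trans (not_lt.mp h3)
      have h3 := Finset.sum_le_sum h2
      rw [← Finset.sum_filter, Finset.sum_const, nsmul_eq_mul] at h3
      have h4 : (((Finset.univ.erase (1 : L ≃ₐ[K] L)).filter (fun τ => 0 < w τ)).card : ℚ) + 1 = e := by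
        have h5 : (insert (1 : L ≃ₐ[K] L) ((Finset.univ.erase (1 : L ≃ₐ[K] L)).filter
            (fun τ => 0 < w τ))).card = e := by
          rw [← hcard, Nat.card_eq_fintype_card, Fintype.card_subtype]
          congr 1
          ext σ
          simp only [Finset.mem_insert, Finset.mem_filter, Finset.mem_erase, Finset.mem_univ,
            and_true, true_and]
          by_cases hσ : σ = 1
          · simp [hσ]
          · simp [hσ, hw]
        rw [Finset.card_insert_of_notMem (by simp)] at h5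
        exact_mod_cast h5
      have h6 : (((Finset.univ.erase (1 : L ≃ₐ[K] L)).filter (fun τ => 0 < w τ)).card : ℚ) = e - 1 := by
        linarith
      rw [h6] at h3
      linarith
    -- lower bound
    have h2 : (q : ℚ) / hh + s * i₀ ≤ val π (aeval γ' F) := by
      rw [hrel]
      by_cases hs0 : s = 0
      · rw [hs0, pow_zero, mul_one, val_pow K hπ hρ0, hρv]
        push_cast
        rw [mul_one_div, zero_mul, add_zero]
      · have hg0' : aeval γ' g ≠ 0 := by
          intro h0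
          apply hF0
          rw [hrel, h0, zero_pow hs0, mul_zero]
        rw [val_mul K hπ (pow_ne_zero _ hρ0) (pow_ne_zero _ hg0'), val_pow K hπ hρ0,
          val_pow K hπ hg0', hρv, mul_one_div]
        have h3 : i₀ ≤ val π (aeval γ' g) := by
          have h4 : Ge π i₀ (aeval γ' g) := by
            rw [hsplit]
            refine Ge.add K hπ (Or.inr ?_) hgclose
            rw [(hgσ σ₀).2]; exact hc
          exact h4.resolve_left hg0'
        have h5 : (s : ℚ) * i₀ ≤ s * val π (aeval γ' g) :=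
          mul_le_mul_of_nonneg_left h3 (Nat.cast_nonneg s)
        linarith
    have h3 : (q : ℚ) / hh ≤ (e - s) * i₀ := by linarith
    have h4 : (0 : ℚ) ≤ e - s := by
      have : (s : ℚ) ≤ e := by exact_mod_cast hse.le
      linarith
    have h5 : (q : ℚ) / hh ≤ (e - s) * (1 / e) := h3.trans (mul_le_mul_of_nonneg_left hc h4)
    have h6 : ((e : ℚ) - s) * (1 / e) = 1 - s / e := by field_simp
    rw [h6] at h5
    have h7 : m ≤ 1 := by rw [hm]; linarith
    linarith
  have hgv' : aeval γ' g ≠ 0 ∧ val π (aeval γ' g) = 1 / e := by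
    rw [hsplit]
    have := val_add_eq K hπ (hgσ σ₀).1
      (y := aeval γ' g - aeval ((σ₀ (γ : L) : L) : Ω) g) (by
      rcases hgclose with h1 | h1
      · exact Or.inl h1
      · right
        rw [(hgσ σ₀).2]
        exact lt_of_lt_of_le hi₀e h1)
    rw [(hgσ σ₀).2] at this
    exact this
  have hvF : val π (aeval γ' F) = m := by
    rw [hrel, val_mul K hπ (pow_ne_zero _ hρ0) (pow_ne_zero _ hgv'.1), val_pow K hπ hρ0,
      val_pow K hπ hgv'.1, hρv, hgv'.2, hm]
    ring
  -- the homomorphism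
  let γE : integralClosure O E := ⟨⟨γ', hγ'E⟩, by
    have : IsIntegral O ((E.val.restrictScalars O) ⟨γ', hγ'E⟩) := hγ'int
    exact (isIntegral_algHom_iff (E.val.restrictScalars O)
      (E.val.restrictScalars O).toRingHom.injective).mp this⟩
  have hinj : Function.Injective (algebraMap O (integralClosure O L)) :=
    IntCl.algebraMap_injective O K L
  have hfs : FaithfulSMul O (integralClosure O L) := (faithfulSMul_iff_algebraMap_injective O _).mpr hinj
  let pb : PowerBasis O (integralClosure O L) := PowerBasis.ofAdjoinEqTop' hγint hγ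
  have hpb : pb.gen = γ := PowerBasis.ofAdjoinEqTop'_gen hγint hγ
  have hroot : aeval (Ideal.Quotient.mk (ball K π hπ m E) γE) (minpoly O pb.gen) = 0 := by
    rw [hpb]
    have h1 : aeval (Ideal.Quotient.mk (ball K π hπ m E) γE) F =
        Ideal.Quotient.mkₐ O (ball K π hπ m E) (aeval γE F) := by
      rw [← Polynomial.aeval_algHom_apply]
      rfl
    rw [h1]
    refine Ideal.Quotient.eq_zero_iff_mem.mpr ?_
    rw [mem_ball]
    have h2 : (((aeval γE F : integralClosure O E) : E) : Ω) = aeval γ' F := by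
      change (E.val.restrictScalars O) ((integralClosure O E).val (aeval γE F)) = _
      rw [← Polynomial.aeval_algHom_apply, ← Polynomial.aeval_algHom_apply]
      rfl
    right
    have h3 : val π ((aeval γE F : integralClosure O E) : E) = val π (aeval γ' F) := by
      rw [← h2]
      exact (val_map π (E.val.restrictScalars O) _).symm
    rw [h3, hvF]
  have hLE : L ≤ E := hP m hmM E (pb.lift _ hroot)
  -- values on `E`
  obtain ⟨n, hn0, hn, hnv⟩ := exists_val_mul K hπ L E hLE h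
  have hnhh : n = hh := by
    have h1 : n ≤ hh := by
      have h2 : Module.finrank K L * n ≤ Module.finrank K L * hh := by
        rw [hn, ← hFdeg, mul_comm F.natDegree]
        exact hEdeg
      have h3 : 0 < Module.finrank K L := Module.finrank_pos
      exact Nat.le_of_mul_le_mul_left h2 h3
    obtain ⟨a, ha⟩ := hnv ρ hρE hρ0
    rw [hρv] at ha
    have h2 : (e : ℤ) * n = a * hh := by
      have h3 : (e : ℚ) * n = a * hh := by
        field_simp at ha
        linarith
      exact_mod_cast h3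
    have h3 : hh ∣ e * n := by
      have : (hh : ℤ) ∣ (e : ℤ) * n := ⟨a, by rw [h2]; ring⟩
      exact_mod_cast this
    have h4 : hh ∣ n := hcop.dvd_of_dvd_mul_left h3
    exact le_antisymm h1 (Nat.le_of_dvd hn0 h4)
  subst hnhh
  have hi₀int : ∃ a : ℤ, i₀ = a / (e * hh) := by
    have h1 : γ' - ((σ₀ (γ : L) : L) : Ω) ∈ E := sub_mem hγ'E (hLE (σ₀ (γ : L)).2)
    obtain ⟨a, ha⟩ := hnv _ h1 (hbne σ₀)
    refine ⟨a, ?_⟩
    have h2 : (hh : ℚ) * i₀ = a / e := ha
    have h3 : (0 : ℚ) < hh := hh0'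
    field_simp at h2 ⊢
    linarith
  have hiL : ∃ c : ℤ, w τ = c / (e * hh) := by
    obtain ⟨c, hc⟩ := hwint τ hτ1
    refine ⟨c * hh, ?_⟩
    have h3 : (0 : ℚ) < hh := hh0'
    rw [hc]
    push_cast
    field_simp
  rw [hvF] at hsum
  have hi₀lt : i₀ < w τ := by
    by_contra hc
    push Not at hc
    have h1 : ∑ σ ∈ Finset.univ.erase (1 : L ≃ₐ[K] L), min i₀ (w σ) = W := by
      rw [hW]
      refine Finset.sum_congr rfl fun σ hσ => ?_
      exact min_eq_right ((hτmax σ hσ).trans hc)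
    rw [h1, hmu] at hsum
    have h2 : (0 : ℚ) < 1 / (e * hh) := by positivity
    linarith
  have hgap : i₀ + 1 / (e * hh) ≤ w τ := by
    obtain ⟨a, ha⟩ := hi₀int
    obtain ⟨c, hc⟩ := hiL
    have h3 : (0 : ℚ) < e * hh := mul_pos he' hh0'
    rw [ha, hc] at hi₀lt ⊢
    rw [div_lt_div_iff_of_pos_right h3] at hi₀lt
    rw [← add_div, div_le_div_iff_of_pos_right h3]
    have h4 : a < c := by exact_mod_cast hi₀lt
    have h5 : a + 1 ≤ c := h4
    exact_mod_cast h5
  have hlast : ∑ σ ∈ Finset.univ.erase (1 : L ≃ₐ[K] L), min i₀ (w σ) ≤ W - 1 / (e * hh) := by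
    rw [hW, ← Finset.add_sum_erase _ _ hτmem, ← Finset.add_sum_erase _ w hτmem]
    have h1 : ∑ σ ∈ (Finset.univ.erase (1 : L ≃ₐ[K] L)).erase τ, min i₀ (w σ) ≤
        ∑ σ ∈ (Finset.univ.erase (1 : L ≃ₐ[K] L)).erase τ, w σ :=
      Finset.sum_le_sum fun σ _ => min_le_right _ _
    have h2 : min i₀ (w τ) ≤ w τ - 1 / (e * hh) := (min_le_left _ _).trans (by linarith)
    linarith
  have h9 : (0 : ℚ) < 1 / (e * hh) := by positivity
  rw [hmu] at hsum
  linarith

end K956.FVal
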