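import Mathlib

/-!
# `p`-power roots of elements close to one

`W` is a commutative ring, `t`-torsion free and `t`-adically complete, `p = u t ^ e'` with `u` a
unit and `e' < (p - 1) s`.  Then `x ↦ x ^ (p ^ n)` is a bijection from `1 + t ^ s W` onto
`1 + p ^ n t ^ s W`.
-/

set_option autoImplicit false
set_option linter.unusedSectionVars false

open Polynomial

namespace K956.Root

variable {W : Type*} [CommRing W] (t : W)

/-- Fixed points of contractions. -/
theorem exists_fixed [IsAdicComplete (Ideal.span {t}) W] (G : W[X]) (c : W) :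
    ∃ x, x + t * G.eval x = c := by
  let f : ℕ → W := fun n => Nat.rec 0 (fun _ x => c - t * G.eval x) n
  have hf0 : f 0 = 0 := rfl
  have hf : ∀ n, f (n + 1) = c - t * G.eval (f n) := fun n => rfl
  have hd : ∀ n, t ^ n ∣ f (n + 1) - f n := by
    intro n
    induction n with
    | zero => rw [pow_zero]; exact one_dvd _
    | succ n ih =>
      rw [hf (n + 1)]
      nth_rewrite 2 [hf n]
      have h1 : c - t * G.eval (f (n + 1)) - (c - t * G.eval (f n)) =
          -(t * (G.eval (f (n + 1)) - G.eval (f n))) := by ring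
      rw [h1, dvd_neg, pow_succ']
      exact mul_dvd_mul_left _ (ih.trans (Polynomial.sub_dvd_eval_sub _ _ _))
  have hd' : ∀ m n, m ≤ n → t ^ m ∣ f n - f m := by
    intro m n hmn
    induction n, hmn using Nat.le_induction with
    | base => rw [sub_self]; exact dvd_zero _
    | succ n hmn ih =>
      have : f (n + 1) - f m = (f (n + 1) - f n) + (f n - f m) := by ring
      rw [this]
      exact dvd_add ((pow_dvd_pow t hmn).trans (hd n)) ih
  obtain ⟨L, hL⟩ := IsPrecomplete.prec' (I := Ideal.span {t}) (M := W) f (by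
    intro m n hmn
    rw [SModEq.sub_mem, smul_eq_mul, Ideal.mul_top, Ideal.span_singleton_pow,
      Ideal.mem_span_singleton, ← dvd_neg, neg_sub]
    exact hd' m n hmn)
  have hL' : ∀ n, t ^ n ∣ f n - L := by
    intro n
    have := hL n
    rwa [SModEq.sub_mem, smul_eq_mul, Ideal.mul_top, Ideal.span_singleton_pow,
      Ideal.mem_span_singleton] at this
  refine ⟨L, ?_⟩
  rw [← sub_eq_zero]
  apply IsHausdorff.haus' (I := Ideal.span {t}) (M := W)
  intro n
  rw [SModEq.zero, smul_eq_mul, Ideal.mul_top, Ideal.span_singleton_pow, Ideal.mem_span_singleton]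
  have h1 : L + t * G.eval L - c = -(f (n + 1) - L) + t * (G.eval L - G.eval (f n)) := by
    rw [hf]; ring
  rw [h1]
  refine dvd_add ?_ ?_
  · rw [dvd_neg]; exact (pow_dvd_pow t (Nat.le_succ n)).trans (hL' (n + 1))
  · refine Dvd.dvd.mul_left ?_ _
    refine dvd_trans ?_ (Polynomial.sub_dvd_eval_sub L (f n) G)
    rw [← dvd_neg, neg_sub]
    exact hL' n

theorem isUnit_one_add [IsAdicComplete (Ideal.span {t}) W] (q : W) : IsUnit (1 + t * q) := by
  have := IsAdicComplete.le_jacobson_bot (Ideal.span {t})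
  have h1 : t * q ∈ Ideal.jacobson (⊥ : Ideal W) :=
    this (Ideal.mul_mem_right _ _ (Ideal.mem_span_singleton_self t))
  have := Ideal.mem_jacobson_bot.mp h1 1
  rwa [mul_one, add_comm] at this

variable {t} {p : ℕ} (hp : p.Prime) {u : W} {e' s : ℕ} (hu : IsUnit u) (hpu : (p : W) = u * t ^ e')
  (hs : e' < (p - 1) * s)

include hp hu hpu hs in
theorem exists_G : ∃ G : W[X], ∀ x, (1 + t ^ s * x) ^ p = 1 + p * t ^ s * (x + t * G.eval x) := by
  obtain ⟨v, hv⟩ := hu.exists_left_inv
  have hs0 : 0 < s := by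
    rcases Nat.eq_zero_or_pos s with h | h
    · subst h; simp at hs
    · exact h
  have hp2 := hp.two_le
  -- the coefficients
  have hk : ∀ k ∈ Finset.Ico 2 (p + 1), ∃ g : W, (p.choose k : W) * (t ^ s) ^ k =
      p * t ^ s * (t * g) := by
    intro k hk
    rw [Finset.mem_Ico] at hk
    rcases Nat.lt_or_ge k p with h | h
    · obtain ⟨c, hc⟩ := hp.dvd_choose_self (by omega) h
      refine ⟨c * t ^ (s * (k - 1) - 1), ?_⟩
      have h1 : (t ^ s) ^ k = t ^ s * (t * t ^ (s * (k - 1) - 1)) := by
        rw [← pow_mul, ← pow_succ', ← pow_add]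
        congr 1
        obtain ⟨j, rfl⟩ : ∃ j, k = j + 2 := ⟨k - 2, by omega⟩
        have : 1 ≤ s * (j + 2 - 1) := by
          apply Nat.one_le_iff_ne_zero.mpr
          apply Nat.mul_ne_zero hs0.ne'; omega
        have h2 : j + 2 - 1 = j + 1 := rfl
        rw [h2] at this ⊢
        rw [Nat.sub_add_cancel this]
        ring
      rw [hc, h1]
      push_cast
      ring
    · have hkp : k = p := by omega
      subst hkp
      refine ⟨v * t ^ ((k - 1) * s - e' - 1), ?_⟩
      have h1 : (t ^ s) ^ k = t ^ s * (t ^ e' * (t * t ^ ((k - 1) * s - e' - 1))) := by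
        rw [← pow_mul, ← pow_succ', ← pow_add, ← pow_add]
        congr 1
        obtain ⟨j, rfl⟩ : ∃ j, k = j + 1 := ⟨k - 1, by omega⟩
        have h2 : j + 1 - 1 = j := rfl
        rw [h2] at hs ⊢
        have h3 : s * (j + 1) = j * s + s := by ring
        rw [h3]
        omega
      rw [Nat.choose_self, h1, hpu]
      push_cast
      calc 1 * (t ^ s * (t ^ e' * (t * t ^ ((k - 1) * s - e' - 1))))
          = (v * u) * (t ^ s * (t ^ e' * (t * t ^ ((k - 1) * s - e' - 1)))) := by rw [hv]
        _ = _ := by ring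
  choose! g hg using hk
  refine ⟨∑ k ∈ Finset.Ico 2 (p + 1), C (g k) * X ^ k, fun x => ?_⟩
  have h1 : (1 + t ^ s * x) ^ p = ∑ k ∈ Finset.range (p + 1), (t ^ s * x) ^ k * p.choose k := by
    rw [add_comm, add_pow]
    simp
  have h2 : Finset.range (p + 1) = insert 0 (insert 1 (Finset.Ico 2 (p + 1))) := by
    ext k
    simp only [Finset.mem_range, Finset.mem_insert, Finset.mem_Ico]
    omega
  rw [h1, h2, Finset.sum_insert (by simp), Finset.sum_insert (by simp), Polynomial.eval_finsetSum]
  simp only [eval_mul, eval_C, eval_pow, eval_X]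
  have h3 : ∑ k ∈ Finset.Ico 2 (p + 1), (t ^ s * x) ^ k * (p.choose k : W) =
      ∑ k ∈ Finset.Ico 2 (p + 1), p * t ^ s * (t * (g k * x ^ k)) := by
    refine Finset.sum_congr rfl fun k hk => ?_
    rw [mul_pow]
    calc (t ^ s) ^ k * x ^ k * (p.choose k : W) = ((p.choose k : W) * (t ^ s) ^ k) * x ^ k := by ring
      _ = _ := by rw [hg k hk]; ring
  rw [h3, ← Finset.mul_sum, ← Finset.mul_sum]
  simp only [pow_zero, Nat.choose_zero_right, Nat.cast_one, mul_one, pow_one, Nat.choose_one_right]
  ring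

variable [IsAdicComplete (Ideal.span {t}) W]

include hp hu hpu hs in
theorem exists_root_one (c : W) : ∃ x, (1 + t ^ s * x) ^ p = 1 + p * t ^ s * c := by
  obtain ⟨G, hG⟩ := exists_G hp hu hpu hs
  obtain ⟨x, hx⟩ := exists_fixed t G c
  exact ⟨x, by rw [hG, hx]⟩

variable (htf : ∀ x : W, t * x = 0 → x = 0)

include htf in
theorem torsionFree_pow (k : ℕ) (x : W) (h : t ^ k * x = 0) : x = 0 := by
  induction k with
  | zero => rwa [pow_zero, one_mul] at h
  | succ k ih =>
    rw [pow_succ', mul_assoc] at h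
    exact ih (htf _ h)

include hp hu hpu hs htf in
theorem root_one_unique {x : W} (h : (1 + t ^ s * x) ^ p = 1) : x = 0 := by
  obtain ⟨G, hG⟩ := exists_G hp hu hpu hs
  have h0 : (1 + t ^ s * (0 : W)) ^ p = 1 := by rw [mul_zero, add_zero, one_pow]
  have key : ∀ y : W, (1 + t ^ s * y) ^ p = 1 → y + t * G.eval y = 0 := by
    intro y hy
    rw [hG] at hy
    have h1 : (p : W) * t ^ s * (y + t * G.eval y) = 0 := by
      have := sub_eq_zero.mpr hy
      linear_combination this
    obtain ⟨v, hv⟩ := hu.exists_left_inv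
    have h2 : t ^ (e' + s) * (y + t * G.eval y) = 0 := by
      calc t ^ (e' + s) * (y + t * G.eval y) = (v * u) * (t ^ (e' + s) * (y + t * G.eval y)) := by
            rw [hv, one_mul]
        _ = v * ((u * t ^ e') * t ^ s * (y + t * G.eval y)) := by rw [pow_add]; ring
        _ = 0 := by rw [← hpu, h1, mul_zero]
    exact torsionFree_pow htf _ _ h2
  have hx := key x h
  have h00 := key 0 h0
  obtain ⟨q, hq⟩ := Polynomial.sub_dvd_eval_sub x 0 G
  have h3 : x * (1 + t * q) = 0 := by
    have : x * (1 + t * q) = (x + t * G.eval x) - (0 + t * G.eval 0) := by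
      rw [sub_zero] at hq
      linear_combination -t * hq
    rw [this, hx, h00, sub_zero]
  exact ((isUnit_one_add t q).mul_left_eq_zero).mp h3

include hp hu hpu hs in
/-- Existence of `p ^ n`-th roots. -/
theorem exists_root (n : ℕ) (c : W) : ∃ x, (1 + t ^ s * x) ^ p ^ n = 1 + p ^ n * t ^ s * c := by
  obtain ⟨v, hv⟩ := hu.exists_left_inv
  induction n generalizing c with
  | zero => exact ⟨c, by simp⟩
  | succ n ih =>
    have hs' : e' < (p - 1) * (n * e' + s) := by
      refine hs.trans_le (Nat.mul_le_mul_left _ (Nat.le_add_left _ _))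
    obtain ⟨x', hx'⟩ := exists_root_one (s := n * e' + s) hp hu hpu hs' (u ^ n * c)
    obtain ⟨x, hx⟩ := ih (v ^ n * x')
    refine ⟨x, ?_⟩
    have h1 : (p : W) ^ n * t ^ s * (v ^ n * x') = t ^ (n * e' + s) * x' := by
      rw [hpu, mul_pow, ← pow_mul, mul_comm e' n, pow_add]
      have : v ^ n * u ^ n = 1 := by rw [← mul_pow, hv, one_pow]
      linear_combination t ^ (n * e') * t ^ s * x' * this
    rw [pow_succ, pow_mul, hx, h1, hx']
    have h2 : (p : W) ^ (n + 1) * t ^ s * c = p * t ^ (n * e' + s) * (u ^ n * c) := by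
      rw [pow_succ]
      nth_rewrite 1 [hpu]
      rw [mul_pow, ← pow_mul, mul_comm e' n, pow_add]
      ring
    rw [h2]

theorem exists_pow_eq (t : W) (s k : ℕ) (x : W) : ∃ y, (1 + t ^ s * x) ^ k = 1 + t ^ s * y := by
  induction k with
  | zero => exact ⟨0, by simp⟩
  | succ k ih =>
    obtain ⟨y, hy⟩ := ih
    exact ⟨y + x + t ^ s * y * x, by rw [pow_succ, hy]; ring⟩

include hp hu hpu hs htf in
/-- Uniqueness of `p ^ n`-th roots. -/
theorem root_unique (n : ℕ) {x : W} (h : (1 + t ^ s * x) ^ p ^ n = 1) : x = 0 := by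
  induction n with
  | zero =>
    rw [pow_zero, pow_one, add_eq_left] at h
    exact torsionFree_pow htf _ _ h
  | succ n ih =>
    rw [pow_succ, pow_mul] at h
    obtain ⟨y, hy⟩ := exists_pow_eq t s (p ^ n) x
    rw [hy] at h
    have := root_one_unique hp hu hpu hs htf h
    rw [this, mul_zero, add_zero] at hy
    exact ih hy

end K956.Root
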