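import Mathlib
import Groth.Agent.Font.K956.Root
import Groth.Prelude.Def_SGA3b

/-!
# Lifting points of finite flat group schemes killed by `p ^ n`

`A` is a commutative cocommutative Hopf algebra over `O` with `[p ^ n] = 1`, projective as an
`O`-module, `S` an `O`-algebra which is `ϖ`-torsion free and `ϖ`-adically complete, with
`p = u ϖ ^ e'`, `u` a unit, `e' < (p - 1) s`.  Then two points of `Spec A` in `S` which agree modulo
`ϖ ^ s` are equal, and every point modulo `p ^ n ϖ ^ s` agrees modulo `ϖ ^ s` with a point in `S`.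
-/

set_option autoImplicit false
set_option linter.unusedSectionVars false
universe u

open TensorProduct Coalgebra WithConv

namespace K956.HLift

section conv

variable {O C S : Type*} [CommRing O] [AddCommGroup C] [Module O C] [Coalgebra O C]
  [Coalgebra.IsCocomm O C] [CommRing S] [Algebra O S]

/-- The convolution algebra of linear maps. -/
abbrev W (O C S : Type*) [CommRing O] [AddCommGroup C] [Module O C] [Coalgebra O C]
    [Coalgebra.IsCocomm O C] [CommRing S] [Algebra O S] := WithConv (C →ₗ[O] S)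

theorem algebraMap_mul_apply (d : S) (f : W O C S) (c : C) :
    (algebraMap S (W O C S) d * f).ofConv c = d * f.ofConv c := by
  rw [← Algebra.smul_def]
  rfl

theorem dvd_iff {d : S} (hd : ∀ x : S, d * x = 0 → x = 0) (f : W O C S) :
    algebraMap S (W O C S) d ∣ f ↔ ∀ c : C, d ∣ f.ofConv c := by
  constructor
  · rintro ⟨g, rfl⟩ c
    rw [algebraMap_mul_apply]
    exact dvd_mul_right _ _
  · intro h
    choose g hg using h
    have hinj : ∀ x y : S, d * x = d * y → x = y := by
      intro x y hxy
      rw [← sub_eq_zero]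
      apply hd
      rw [mul_sub, hxy, sub_self]
    refine ⟨toConv { toFun := g, map_add' := ?_, map_smul' := ?_ }, ?_⟩
    · intro x y
      apply hinj
      rw [← hg, map_add, hg, hg, mul_add]
    · intro r x
      apply hinj
      rw [← hg, map_smul, hg, RingHom.id_apply, mul_smul_comm]
    · ext c
      rw [algebraMap_mul_apply]
      exact hg c

theorem torsionFree {d : S} (hd : ∀ x : S, d * x = 0 → x = 0) (f : W O C S)
    (h : algebraMap S (W O C S) d * f = 0) : f = 0 := by
  ext c
  apply hd
  have := congrArg (fun g : W O C S => g.ofConv c) h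
  rw [← algebraMap_mul_apply (O := O) (C := C)]
  exact this

theorem isAdicComplete {d : S} (hd : ∀ x : S, d * x = 0 → x = 0)
    [hc : IsAdicComplete (Ideal.span {d}) S] :
    IsAdicComplete (Ideal.span {algebraMap S (W O C S) d}) (W O C S) := by
  have hdk : ∀ (k : ℕ) (x : S), d ^ k * x = 0 → x = 0 := by
    intro k x
    exact Root.torsionFree_pow (t := d) hd k x
  refine { haus' := fun f hf => ?_, prec' := fun f hf => ?_ }
  · ext c
    apply IsHausdorff.haus' (I := Ideal.span {d}) (M := S)
    intro n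
    have := hf n
    rw [SModEq.zero, smul_eq_mul, Ideal.mul_top, Ideal.span_singleton_pow,
      Ideal.mem_span_singleton] at this ⊢
    rw [← map_pow, dvd_iff (hdk n)] at this
    exact this c
  · have hf' : ∀ m n, m ≤ n → ∀ c, d ^ m ∣ (f m).ofConv c - (f n).ofConv c := by
      intro m n hmn c
      have := hf hmn
      rw [SModEq.sub_mem, smul_eq_mul, Ideal.mul_top, Ideal.span_singleton_pow,
        Ideal.mem_span_singleton, ← map_pow, dvd_iff (hdk m)] at this
      exact this c
    have hlim : ∀ c, ∃ L : S, ∀ n, d ^ n ∣ (f n).ofConv c - L := by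
      intro c
      obtain ⟨L, hL⟩ := IsPrecomplete.prec' (I := Ideal.span {d}) (M := S)
        (fun n => (f n).ofConv c) (by
          intro m n hmn
          rw [SModEq.sub_mem, smul_eq_mul, Ideal.mul_top, Ideal.span_singleton_pow,
            Ideal.mem_span_singleton]
          exact hf' m n hmn c)
      refine ⟨L, fun n => ?_⟩
      have := hL n
      rwa [SModEq.sub_mem, smul_eq_mul, Ideal.mul_top, Ideal.span_singleton_pow,
        Ideal.mem_span_singleton] at this
    choose L hL using hlim
    have huniq : ∀ x y : S, (∀ n, d ^ n ∣ x - y) → x = y := by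
      intro x y h
      rw [← sub_eq_zero]
      apply IsHausdorff.haus' (I := Ideal.span {d}) (M := S)
      intro n
      rw [SModEq.zero, smul_eq_mul, Ideal.mul_top, Ideal.span_singleton_pow,
        Ideal.mem_span_singleton]
      exact h n
    refine ⟨toConv { toFun := L, map_add' := ?_, map_smul' := ?_ }, fun n => ?_⟩
    · intro x y
      apply huniq
      intro n
      have h1 : L (x + y) - (L x + L y) = -((f n).ofConv (x + y) - L (x + y)) +
          ((f n).ofConv x - L x) + ((f n).ofConv y - L y) := by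
        rw [map_add]; ring
      rw [h1]
      exact dvd_add (dvd_add ((dvd_neg).mpr (hL _ n)) (hL _ n)) (hL _ n)
    · intro r x
      apply huniq
      intro n
      have h1 : L (r • x) - r • L x = -((f n).ofConv (r • x) - L (r • x)) +
          algebraMap O S r * ((f n).ofConv x - L x) := by
        rw [map_smul, Algebra.smul_def, Algebra.smul_def]; ring
      rw [RingHom.id_apply, h1]
      exact dvd_add ((dvd_neg).mpr (hL _ n)) (Dvd.dvd.mul_left (hL _ n) _)
    · rw [SModEq.sub_mem, smul_eq_mul, Ideal.mul_top, Ideal.span_singleton_pow,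
        Ideal.mem_span_singleton, ← map_pow, dvd_iff (hdk n)]
      intro c
      exact hL c n

/-- Reduction of convolution algebras along an algebra map. -/
noncomputable def post {S' : Type*} [CommRing S'] [Algebra O S'] (h : S →ₐ[O] S') :
    W O C S →+* W O C S' where
  toFun f := toConv (h.toLinearMap ∘ₗ f.ofConv)
  map_one' := by ext c; simp
  map_mul' f g := by
    rw [LinearMap.algHom_comp_convMul_distrib]
  map_zero' := by ext c; simp
  map_add' f g := by ext c; simp

theorem post_apply {S' : Type*} [CommRing S'] [Algebra O S'] (h : S →ₐ[O] S') (f : W O C S) (c : C) :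
    (post h f).ofConv c = h (f.ofConv c) := rfl

theorem post_mk_eq_iff {d : S} (hd : ∀ x : S, d * x = 0 → x = 0) (f g : W O C S) :
    post (Ideal.Quotient.mkₐ O (Ideal.span {d})) f = post (Ideal.Quotient.mkₐ O (Ideal.span {d})) g ↔
      algebraMap S (W O C S) d ∣ f - g := by
  rw [dvd_iff hd]
  constructor
  · intro h c
    have h1 := congrArg (fun k : W O C (S ⧸ Ideal.span {d}) => k.ofConv c) h
    have h2 : Ideal.Quotient.mk (Ideal.span {d}) (f.ofConv c) = Ideal.Quotient.mk _ (g.ofConv c) := h1
    rw [Ideal.Quotient.mk_eq_mk_iff_sub_mem, Ideal.mem_span_singleton] at h2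
    exact h2
  · intro h
    ext c
    change Ideal.Quotient.mk (Ideal.span {d}) (f.ofConv c) = Ideal.Quotient.mk _ (g.ofConv c)
    rw [Ideal.Quotient.mk_eq_mk_iff_sub_mem, Ideal.mem_span_singleton]
    exact h c

end conv

section bialg

variable {O A S : Type*} [CommRing O] [CommRing A] [Bialgebra O A]
  [Coalgebra.IsCocomm O A] [CommRing S] [Algebra O S]

/-- `w ↦ (a ⊗ b ↦ w (a b))`. -/
noncomputable def del : W O A S →+* W O (A ⊗[O] A) S where
  toFun f := toConv (f.ofConv ∘ₗ (Bialgebra.mulCoalgHom O A).toLinearMap)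
  map_one' := by ext c; simp [mul_comm]
  map_mul' f g := by rw [LinearMap.convMul_comp_coalgHom_distrib]
  map_zero' := by ext c; simp
  map_add' f g := by ext c; simp

theorem del_apply (f : W O A S) (a b : A) : (del f).ofConv (a ⊗ₜ b) = f.ofConv (a * b) := by
  change f.ofConv (Bialgebra.mulCoalgHom O A (a ⊗ₜ b)) = _
  rfl

/-- `w ↦ (a ⊗ b ↦ w a w b)`. -/
noncomputable def ext2 : W O A S →* W O (A ⊗[O] A) S where
  toFun f := toConv ((Algebra.TensorProduct.lmul' O (S := S)).toLinearMap ∘ₗ
    TensorProduct.map f.ofConv f.ofConv)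
  map_one' := by ext c; simp [mul_comm]
  map_mul' f g := by
    have h := TensorProduct.map_convMul_map (f := f) (g := f) (h := g) (k := g)
    rw [← WithConv.ofConv_toConv (TensorProduct.map (f * g).ofConv (f * g).ofConv), ← h,
      LinearMap.algHom_comp_convMul_distrib]

theorem ext2_apply (f : W O A S) (a b : A) :
    (ext2 f).ofConv (a ⊗ₜ b) = f.ofConv a * f.ofConv b := by
  change Algebra.TensorProduct.lmul' O (S := S) (f.ofConv a ⊗ₜ f.ofConv b) = _
  rw [Algebra.TensorProduct.lmul'_apply_tmul]

theorem eq_of_tmul {f g : W O (A ⊗[O] A) S}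
    (h : ∀ a b : A, f.ofConv (a ⊗ₜ b) = g.ofConv (a ⊗ₜ b)) : f = g := by
  ext a b
  exact h a b

theorem post_del {S' : Type*} [CommRing S'] [Algebra O S'] (h : S →ₐ[O] S') (f : W O A S) :
    post h (del f) = del (post h f) := by
  refine eq_of_tmul fun a b => ?_
  rw [post_apply, del_apply, del_apply, post_apply]

theorem post_ext2 {S' : Type*} [CommRing S'] [Algebra O S'] (h : S →ₐ[O] S') (f : W O A S) :
    post h (ext2 f) = ext2 (post h f) := by
  refine eq_of_tmul fun a b => ?_
  rw [post_apply, ext2_apply, ext2_apply, post_apply, post_apply, map_mul]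

/-- The element of the convolution algebra attached to a point. -/
noncomputable def pt (φ : A →ₐ[O] S) : W O A S := toConv φ.toLinearMap

theorem pt_apply (φ : A →ₐ[O] S) (a : A) : (pt φ).ofConv a = φ a := rfl

theorem ext2_pt (φ : A →ₐ[O] S) : ext2 (pt φ) = del (pt φ) := by
  refine eq_of_tmul fun a b => ?_
  rw [del_apply, ext2_apply, pt_apply, pt_apply, pt_apply, map_mul]

theorem post_pt {S' : Type*} [CommRing S'] [Algebra O S'] (h : S →ₐ[O] S') (φ : A →ₐ[O] S) :
    post h (pt φ) = pt (h.comp φ) := rfl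

theorem pt_pow {N : ℕ} (hN : (toConv (AlgHom.id O A)) ^ N = 1) (φ : A →ₐ[O] S) : pt φ ^ N = 1 := by
  have key : ∀ n : ℕ, toConv φ ^ n =
      toConv (φ.comp ((toConv (AlgHom.id O A)) ^ n).ofConv) := by
    intro n
    induction n with
    | zero =>
      rw [pow_zero, pow_zero]
      apply WithConv.ofConv_injective
      ext a
      change algebraMap O S (counit a) = φ (algebraMap O A (counit a))
      rw [AlgHom.commutes]
    | succ n ih =>
      rw [pow_succ, pow_succ, AlgHom.comp_convMul_distrib, ih]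
      rfl
  have h1 := AlgHom.toLinearMap_convPow (toConv φ) N
  change _ = pt φ ^ N at h1
  rw [← h1, key, hN]
  ext a
  change φ (algebraMap O A (counit a)) = algebraMap O S (counit a)
  rw [AlgHom.commutes]

/-- Multiplicative elements with unit value at `1` are points. -/
theorem exists_point {N : ℕ} (hN0 : 0 < N) (w : W O A S) (hw : w ^ N = 1) (h : ext2 w = del w) :
    ∃ φ : A →ₐ[O] S, pt φ = w := by
  have hmul : ∀ a b : A, w.ofConv (a * b) = w.ofConv a * w.ofConv b := by
    intro a b
    rw [← del_apply, ← h, ext2_apply]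
  have hpow : ∀ n : ℕ, (w ^ n).ofConv 1 = w.ofConv 1 ^ n := by
    intro n
    induction n with
    | zero =>
      rw [pow_zero, pow_zero, LinearMap.convOne_apply, Bialgebra.counit_one, map_one]
    | succ n ih =>
      rw [pow_succ, pow_succ, ← ih]
      rw [LinearMap.convMul_apply, Bialgebra.comul_one, Algebra.TensorProduct.one_def,
        TensorProduct.map_tmul, LinearMap.mul'_apply]
  have hunit : w.ofConv 1 ^ N = 1 := by
    rw [← hpow, hw, LinearMap.convOne_apply, Bialgebra.counit_one, map_one]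
  have hone : w.ofConv 1 = 1 := by
    have h1 : w.ofConv 1 * w.ofConv 1 = w.ofConv 1 := by rw [← hmul, one_mul]
    have h2 : IsUnit (w.ofConv 1) := by
      refine IsUnit.of_mul_eq_one (w.ofConv 1 ^ (N - 1)) ?_
      rw [← pow_succ', Nat.sub_add_cancel hN0, hunit]
    exact h2.mul_left_cancel (by rw [h1, mul_one])
  exact ⟨AlgHom.ofLinearMap w.ofConv hone hmul, rfl⟩

end bialg

section main

variable {O A S : Type*} [CommRing O] [CommRing A] [Bialgebra O A]
  [Coalgebra.IsCocomm O A] [CommRing S] [Algebra O S] {d : S} (hd : ∀ x : S, d * x = 0 → x = 0)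
  [IsAdicComplete (Ideal.span {d}) S] {p : ℕ} (hp : p.Prime) {u : S} {e' s n : ℕ} (hu : IsUnit u)
  (hpu : (p : S) = u * d ^ e') (hs : e' < (p - 1) * s)
  (hN : (toConv (AlgHom.id O A)) ^ (p ^ n) = 1)

include hd hp hu hpu hs hN

/-- Key uniqueness: `z ^ (p ^ n) = 1` and `z ≡ 1 mod d ^ s` imply `z = 1`. -/
theorem eq_one {C : Type*} [AddCommGroup C] [Module O C] [Coalgebra O C] [Coalgebra.IsCocomm O C]
    (z : W O C S) (hz : z ^ (p ^ n) = 1)
    (hz1 : algebraMap S (W O C S) (d ^ s) ∣ z - 1) : z = 1 := by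
  have hc := isAdicComplete (O := O) (C := C) hd
  obtain ⟨y, hy⟩ := hz1
  have h1 : z = 1 + algebraMap S (W O C S) d ^ s * y := by
    rw [map_pow] at hy
    rw [← hy]; ring
  rw [h1] at hz
  have h2 := Root.root_unique (t := algebraMap S (W O C S) d) (u := algebraMap S (W O C S) u) hp
    (hu.map _) (by rw [← map_pow, ← map_mul, ← hpu, map_natCast]) hs
    (fun x hx => torsionFree hd x hx) n hz
  rw [h1, h2, mul_zero, add_zero]

theorem point_unique (φ ψ : A →ₐ[O] S)
    (h : (Ideal.Quotient.mkₐ O (Ideal.span {d ^ s})).comp φ =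
      (Ideal.Quotient.mkₐ O (Ideal.span {d ^ s})).comp ψ) : φ = ψ := by
  have hds : ∀ x : S, d ^ s * x = 0 → x = 0 := Root.torsionFree_pow hd s
  have hpos : 0 < p ^ n := pow_pos hp.pos n
  have h1 : pt φ * pt ψ ^ (p ^ n - 1) = 1 := by
    refine eq_one (O := O) (A := A) (n := n) hd hp hu hpu hs hN _ ?_ ?_
    · rw [mul_pow, pt_pow hN, one_mul, ← pow_mul, mul_comm, pow_mul, pt_pow hN, one_pow]
    · rw [← post_mk_eq_iff hds, map_mul, map_pow, post_pt, h, ← post_pt, map_one]
      rw [← map_pow, ← map_mul, ← pow_succ', Nat.sub_add_cancel hpos, pt_pow hN, map_one]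
  have h2 : pt φ = pt ψ := by
    calc pt φ = pt φ * pt ψ ^ (p ^ n) := by rw [pt_pow hN, mul_one]
      _ = pt φ * pt ψ ^ (p ^ n - 1) * pt ψ := by
        rw [mul_assoc, ← pow_succ, Nat.sub_add_cancel hpos]
      _ = pt ψ := by rw [h1, one_mul]
  ext a
  rw [← pt_apply, h2, pt_apply]

theorem exists_lift [Module.Projective O A] (ψ : A →ₐ[O] S ⧸ Ideal.span {(p : S) ^ n * d ^ s}) :
    ∃ φ : A →ₐ[O] S, ∀ a : A, ∀ x : S, Ideal.Quotient.mk (Ideal.span {(p : S) ^ n * d ^ s}) x = ψ a →
      d ^ s ∣ φ a - x := by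
  classical
  have hdk : ∀ (k : ℕ) (x : S), d ^ k * x = 0 → x = 0 := fun k => Root.torsionFree_pow hd k
  have hpos : 0 < p ^ n := pow_pos hp.pos n
  -- `d` divides in the Jacobson radical
  have hs0 : s ≠ 0 := by rintro rfl; simp at hs
  have hq0 : ∀ x : S, ((p : S) ^ n * d ^ s) * x = 0 → x = 0 := by
    intro x hx
    obtain ⟨v, hv⟩ := hu.exists_left_inv
    apply hdk (e' * n + s)
    have h1 : v ^ n * (((p : S) ^ n * d ^ s) * x) = d ^ (e' * n + s) * x := by
      rw [hpu, mul_pow, ← pow_mul, pow_add]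
      have : v ^ n * u ^ n = 1 := by rw [← mul_pow, hv, one_pow]
      linear_combination d ^ (e' * n) * d ^ s * x * this
    rw [← h1, hx, mul_zero]
  -- a linear lift
  obtain ⟨x, hx⟩ := Module.projective_lifting_property
    (Ideal.Quotient.mkₐ O (Ideal.span {(p : S) ^ n * d ^ s})).toLinearMap ψ.toLinearMap
    Ideal.Quotient.mk_surjective
  let X : W O A S := toConv x
  have hX : post (Ideal.Quotient.mkₐ O (Ideal.span {(p : S) ^ n * d ^ s})) X = pt ψ := by
    ext a
    exact congrArg (fun f : A →ₗ[O] _ => f a) hx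
  have hc := isAdicComplete (O := O) (C := A) hd
  -- `X ^ N ∈ 1 + p ^ n d ^ s W`
  have h1 : algebraMap S (W O A S) ((p : S) ^ n * d ^ s) ∣ X ^ (p ^ n) - 1 := by
    rw [← post_mk_eq_iff hq0, map_pow, hX, map_one, pt_pow hN]
  obtain ⟨c, hc'⟩ := h1
  have hXN : X ^ (p ^ n) = 1 + (p : W O A S) ^ n * algebraMap S (W O A S) d ^ s * c := by
    rw [map_mul, map_pow, map_pow, map_natCast] at hc'
    rw [← hc']; ring
  obtain ⟨y', hy'⟩ := Root.exists_root (t := algebraMap S (W O A S) d)
    (u := algebraMap S (W O A S) u) hp (hu.map _)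
    (by rw [← map_pow, ← map_mul, ← hpu, map_natCast]) hs n c
  let Y : W O A S := 1 + algebraMap S (W O A S) d ^ s * y'
  have hYX : Y ^ (p ^ n) = X ^ (p ^ n) := by rw [hXN]; exact hy'
  have hYu : IsUnit Y := by
    have := Root.isUnit_one_add (algebraMap S (W O A S) d) (algebraMap S (W O A S) d ^ (s - 1) * y')
    rw [← mul_assoc, ← pow_succ', Nat.sub_add_cancel (Nat.one_le_iff_ne_zero.mpr hs0)] at this
    exact this
  obtain ⟨Z, hZ⟩ := hYu.exists_right_inv
  let w : W O A S := X * Z
  have hw : w ^ (p ^ n) = 1 := by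
    change (X * Z) ^ (p ^ n) = 1
    rw [mul_pow, ← hYX, ← mul_pow, hZ, one_pow]
  have hds : ∀ x : S, d ^ s * x = 0 → x = 0 := hdk s
  have hwX : algebraMap S (W O A S) (d ^ s) ∣ w - X := by
    refine ⟨-(X * Z * y'), ?_⟩
    have : X = X * (Y * Z) := by rw [hZ, mul_one]
    calc w - X = X * Z - X * (Y * Z) := by rw [hZ, mul_one]
      _ = _ := by
        rw [map_pow]
        change X * Z - X * ((1 + algebraMap S (W O A S) d ^ s * y') * Z) = _
        ring
  -- factor map
  have hle : Ideal.span {(p : S) ^ n * d ^ s} ≤ Ideal.span {d ^ s} := by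
    rw [Ideal.span_singleton_le_iff_mem, Ideal.mem_span_singleton]
    exact dvd_mul_left _ _
  let q : (S ⧸ Ideal.span {(p : S) ^ n * d ^ s}) →ₐ[O] (S ⧸ Ideal.span {d ^ s}) :=
    Ideal.Quotient.factorₐ O hle
  have hqX : post (Ideal.Quotient.mkₐ O (Ideal.span {d ^ s})) X = pt (q.comp ψ) := by
    rw [← post_pt, ← hX]
    ext a
    rfl
  have hqw : post (Ideal.Quotient.mkₐ O (Ideal.span {d ^ s})) w = pt (q.comp ψ) := by
    rw [← hqX, post_mk_eq_iff hds]
    exact hwX
  -- multiplicativity
  have hmul : ext2 w * del w ^ (p ^ n - 1) = 1 := by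
    refine eq_one (O := O) (A := A) (n := n) hd hp hu hpu hs hN _ ?_ ?_
    · rw [mul_pow, ← map_pow, hw, map_one, one_mul, ← pow_mul, mul_comm, pow_mul, ← map_pow, hw,
        map_one, one_pow]
    · rw [← post_mk_eq_iff hds, map_mul, map_pow, post_ext2, post_del, hqw, ext2_pt, ← pow_succ',
        Nat.sub_add_cancel hpos, ← map_pow, pt_pow hN, map_one, map_one]
  have hmul' : ext2 w = del w := by
    calc ext2 w = ext2 w * del w ^ (p ^ n) := by rw [← map_pow, hw, map_one, mul_one]
      _ = ext2 w * del w ^ (p ^ n - 1) * del w := by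
        rw [mul_assoc, ← pow_succ, Nat.sub_add_cancel hpos]
      _ = del w := by rw [hmul, one_mul]
  obtain ⟨φ, hφ⟩ := exists_point hpos w hw hmul'
  refine ⟨φ, fun a z hz => ?_⟩
  have h3 : Ideal.Quotient.mk (Ideal.span {d ^ s}) (φ a) = Ideal.Quotient.mk _ z := by
    have h4 := congrArg (fun g : W O A (S ⧸ Ideal.span {d ^ s}) => g.ofConv a) hqw
    have h5 : Ideal.Quotient.mk (Ideal.span {d ^ s}) (w.ofConv a) = q (ψ a) := h4
    rw [← hφ] at h5
    rw [← hz] at h5
    exact h5
  rw [Ideal.Quotient.mk_eq_mk_iff_sub_mem, Ideal.mem_span_singleton] at h3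
  exact h3

end main

end K956.HLift
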