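import Mathlib
import Groth.Agent.Font.K956.Bound

/-!
# The property `(P_m)` from uniqueness and lifting of points
-/

set_option autoImplicit false
set_option linter.unusedSectionVars false
set_option linter.deprecated false
universe u

open IsLocalRing Polynomial

namespace K956.FVal

variable {O : Type u} [CommRing O] [IsDomain O] [IsDiscreteValuationRing O]
  (K : Type u) [Field K] [Algebra O K] [IsFractionRing O K]
  [IsAdicComplete (maximalIdeal O) O] [CharZero K]

include K

/-- The elements of valuation `< m` are detected modulo a ball of radius `m > 1`. -/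
theorem ge_of_lift (L E : Type u) [Field L] [Algebra K L] [Algebra O L] [IsScalarTower O K L]
    [FiniteDimensional K L]
    [Field E] [Algebra K E] [Algebra O E] [IsScalarTower O K E] [FiniteDimensional K E]
    {π : O} (hπ : Irreducible π) {m : ℚ} (hm : 1 < m)
    (θ : integralClosure O L →ₐ[O] (integralClosure O E ⧸ ball K π hπ m E))
    {t : ℚ} (htm : t ≤ m) (x : integralClosure O L) (y : integralClosure O E)
    (hy : Ideal.Quotient.mk _ y = θ x) (hyt : Ge π t (y : E)) : Ge π t (x : L) := by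
  by_contra hx
  have hx0 : (x : L) ≠ 0 := fun h => hx (Or.inl h)
  have hxt : val π (x : L) < t := by
    by_contra h
    exact hx (Or.inr (not_lt.mp h))
  obtain ⟨e, he, ⟨z, hz0, hzv⟩, hval⟩ := exists_valueGroup K L hπ
  have he' : (0 : ℚ) < e := by exact_mod_cast he
  obtain ⟨a, ha⟩ := hval _ hx0
  have ha0 : 0 ≤ a := by
    have h1 : 0 ≤ val π (x : L) := (val_nonneg_iff K hπ hx0).mpr x.2
    rw [ha] at h1
    have h2 : (0 : ℚ) ≤ a := by
      by_contra h3
      push Not at h3
      exact absurd h1 (not_le.mpr (div_neg_of_neg_of_pos h3 he'))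
    exact_mod_cast h2
  obtain ⟨k, rfl⟩ : ∃ k : ℕ, a = k := ⟨a.toNat, by omega⟩
  -- lifts of units
  have hloc := IntCl.isLocalRing O K E
  have hlift : ∀ v : integralClosure O L, IsUnit v → ∀ w : integralClosure O E,
      Ideal.Quotient.mk _ w = θ v → (w : E) ≠ 0 ∧ val π (w : E) = 0 := by
    intro v hv w hw
    rw [← isUnit_iff K E hπ w]
    obtain ⟨v', hv'⟩ := hv.exists_right_inv
    obtain ⟨w', hw'⟩ := Ideal.Quotient.mk_surjective (θ v')
    have h1 : w * w' - 1 ∈ ball K π hπ m E := by
      rw [← Ideal.Quotient.eq, map_mul, hw, hw', ← map_mul, hv', map_one, map_one]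
    rw [mem_ball] at h1
    by_contra hnu
    have h2 : IsUnit (w * w' - 1) := by
      have h3 : ¬ IsUnit (w * w') := fun h => hnu (isUnit_of_mul_isUnit_left h)
      have h4 : IsUnit (1 - w * w') := by
        rcases IsLocalRing.isUnit_or_isUnit_one_sub_self (w * w') with h5 | h5
        · exact absurd h5 h3
        · exact h5
      have := h4.neg
      rwa [neg_sub] at this
    have h3 := (isUnit_iff K E hπ _).mp h2
    have h4 := h1.resolve_left h3.1
    rw [h3.2] at h4
    linarith
  -- the uniformizer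
  have hp := pi_ne_zero (K := K) (Ω := L) hπ
  have hpE := pi_ne_zero (K := K) (Ω := E) hπ
  have hdiv : ∀ (p q : integralClosure O L), (p : L) ≠ 0 → (q : L) ≠ 0 →
      val π (p : L) = val π (q : L) → ∃ u : integralClosure O L, IsUnit u ∧ p = q * u := by
    intro p q hp0 hq0 hpq
    have h1 : val π ((p : L) / q) = 0 := by
      rw [val_div K hπ hp0 hq0, hpq, sub_self]
    have h2 : (p : L) / q ≠ 0 := div_ne_zero hp0 hq0
    have h3 : IsIntegral O ((p : L) / q) := (val_nonneg_iff K hπ h2).mp h1.ge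
    refine ⟨⟨(p : L) / q, h3⟩, (isUnit_iff K L hπ _).mpr ⟨h2, h1⟩, Subtype.ext ?_⟩
    change (p : L) = q * ((p : L) / q)
    field_simp
  obtain ⟨Z, hZ⟩ := Ideal.Quotient.mk_surjective (θ z)
  have hZe : (Z : E) ^ e ≠ 0 ∧ val π ((Z : E) ^ e) = 1 := by
    obtain ⟨u, hu, hzu⟩ := hdiv (z ^ e) (algebraMap O _ π) (pow_ne_zero e hz0) hp (by
      change val π ((z : L) ^ e) = val π (algebraMap O L π)
      rw [val_pow K hπ hz0, hzv, val_pi K hπ]
      field_simp)
    obtain ⟨U, hU⟩ := Ideal.Quotient.mk_surjective (θ u)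
    have h1 : Z ^ e - algebraMap O _ π * U ∈ ball K π hπ m E := by
      rw [← Ideal.Quotient.eq, map_pow, map_mul, hZ, hU, ← map_pow, hzu, map_mul, AlgHom.commutes]
      rfl
    rw [mem_ball] at h1
    have h2 := hlift u hu U hU
    have h3 : (Z : E) ^ e = algebraMap O E π * (U : E) + ((Z : E) ^ e - algebraMap O E π * (U : E)) := by
      ring
    have h4 : val π (algebraMap O E π * (U : E)) = 1 := by
      rw [val_mul K hπ hpE h2.1, val_pi K hπ, h2.2, add_zero]
    have h5 := val_add_eq K hπ (mul_ne_zero hpE h2.1)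
      (y := (Z : E) ^ e - algebraMap O E π * (U : E)) (by
        rcases h1 with h6 | h6
        · exact Or.inl h6
        · right
          rw [h4]
          exact lt_of_lt_of_le hm h6)
    rw [← h3, h4] at h5
    exact h5
  have hZ0 : (Z : E) ≠ 0 := by
    intro h0
    exact hZe.1 (by rw [h0, zero_pow he.ne'])
  have hZv : val π (Z : E) = 1 / e := by
    have := hZe.2
    rw [val_pow K hπ hZ0] at this
    rw [eq_div_iff he'.ne']
    linarith
  obtain ⟨v, hv, hxv⟩ := hdiv x (z ^ k) hx0 (pow_ne_zero k hz0) (by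
    change val π (x : L) = val π ((z : L) ^ k)
    rw [val_pow K hπ hz0, hzv, ha]
    push_cast
    ring)
  obtain ⟨V, hV⟩ := Ideal.Quotient.mk_surjective (θ v)
  have hV' := hlift v hv V hV
  have h1 : y - Z ^ k * V ∈ ball K π hπ m E := by
    rw [← Ideal.Quotient.eq, hy, map_mul, map_pow, hZ, hV, ← map_pow, ← map_mul, hxv]
  rw [mem_ball] at h1
  have h4 : val π ((Z : E) ^ k * (V : E)) = val π (x : L) := by
    rw [val_mul K hπ (pow_ne_zero k hZ0) hV'.1, val_pow K hπ hZ0, hZv, hV'.2, add_zero, ha]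
    push_cast
    ring
  have h5 := val_add_eq K hπ (mul_ne_zero (pow_ne_zero k hZ0) hV'.1)
    (y := (y : E) - (Z : E) ^ k * (V : E)) (by
      rcases h1 with h6 | h6
      · exact Or.inl h6
      · right
        rw [h4]
        exact lt_of_lt_of_le (lt_of_lt_of_le hxt htm) h6)
  have h6 : (Z : E) ^ k * (V : E) + ((y : E) - (Z : E) ^ k * (V : E)) = y := by ring
  rw [h6, h4] at h5
  have h7 := hyt.resolve_left h5.1
  linarith

variable {Ω : Type u} [Field Ω] [Algebra K Ω] [Algebra O Ω] [IsScalarTower O K Ω]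

/-- `(P_m)`. -/
theorem le_of_lift {A : Type u} [CommRing A] [Algebra O A] [Module.Finite O A]
    (L : IntermediateField K Ω) [FiniteDimensional K L]
    (hL : L = IntermediateField.adjoin K (⋃ φ : A →ₐ[O] Ω, Set.range φ))
    {π : O} (hπ : Irreducible π) {t₀ m : ℚ} (hm : 1 < m) (htm : t₀ ≤ m)
    (H1 : ∀ φ ψ : A →ₐ[O] integralClosure O L, (∀ a, Ge π t₀ ((φ a : L) - ψ a)) → φ = ψ)
    (E : IntermediateField K Ω) [FiniteDimensional K E]
    (H2 : ∀ ψ : A →ₐ[O] integralClosure O E ⧸ ball K π hπ m E,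
      ∃ φ : A →ₐ[O] integralClosure O E, ∀ a (x : integralClosure O E),
        Ideal.Quotient.mk _ x = ψ a → Ge π t₀ ((φ a : E) - x))
    (θ : integralClosure O L →ₐ[O] (integralClosure O E ⧸ ball K π hπ m E)) : L ≤ E := by
  classical
  have hmem : ∀ (φ : A →ₐ[O] Ω) (a : A), φ a ∈ L := by
    intro φ a
    rw [hL]
    exact IntermediateField.subset_adjoin K _ (Set.mem_iUnion.mpr ⟨φ, a, rfl⟩)
  have hint : ∀ (φ : A →ₐ[O] Ω) (a : A), IsIntegral O (⟨φ a, hmem φ a⟩ : L) := by
    intro φ a
    have h1 : IsIntegral O (φ a) := (Algebra.IsIntegral.isIntegral (R := O) a).map φ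
    have h2 : (L.val.restrictScalars O) (⟨φ a, hmem φ a⟩ : L) = φ a := rfl
    rw [← h2] at h1
    exact (isIntegral_algHom_iff (L.val.restrictScalars O) (L.val.restrictScalars O).toRingHom.injective).mp h1
  let toL : (A →ₐ[O] Ω) → (A →ₐ[O] integralClosure O L) := fun φ =>
    { toFun := fun a => ⟨⟨φ a, hmem φ a⟩, hint φ a⟩
      map_one' := by ext; simp
      map_mul' := fun a b => by ext; simp
      map_zero' := by ext; simp
      map_add' := fun a b => by ext; simp
      commutes' := fun r => by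
        ext
        simp only [AlgHom.commutes]
        rfl }
  have htoL : ∀ φ a, ((toL φ a : L) : Ω) = φ a := fun φ a => rfl
  choose lift hlift using H2
  let Φ : (A →ₐ[O] Ω) → (A →ₐ[O] Ω) := fun φ =>
    (E.val.restrictScalars O).comp ((integralClosure O E).val.comp (lift (θ.comp (toL φ))))
  have hinj : Function.Injective Φ := by
    intro φ₁ φ₂ h12
    have h1 : ∀ a, (lift (θ.comp (toL φ₁)) a : E) = lift (θ.comp (toL φ₂)) a := by
      intro a
      have := DFunLike.congr_fun h12 a
      exact Subtype.ext this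
    have h2 : toL φ₁ = toL φ₂ := by
      apply H1
      intro a
      obtain ⟨y₁, hy₁⟩ := Ideal.Quotient.mk_surjective (θ (toL φ₁ a))
      obtain ⟨y₂, hy₂⟩ := Ideal.Quotient.mk_surjective (θ (toL φ₂ a))
      have h3 := hlift (θ.comp (toL φ₁)) a y₁ hy₁
      have h4 := hlift (θ.comp (toL φ₂)) a y₂ hy₂
      have h5 : Ge π t₀ ((y₁ - y₂ : integralClosure O E) : E) := by
        have h6 := Ge.sub K hπ h4 h3
        rw [h1 a] at h6
        have h7 : ((lift (θ.comp (toL φ₂)) a : E) - y₂) - ((lift (θ.comp (toL φ₂)) a : E) - y₁) =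
            ((y₁ - y₂ : integralClosure O E) : E) := by
          push_cast; ring
        rwa [h7] at h6
      have h8 := ge_of_lift K L E hπ hm θ htm (toL φ₁ a - toL φ₂ a) (y₁ - y₂)
        (by rw [map_sub, map_sub, hy₁, hy₂]) h5
      exact h8
    ext a
    have := congrArg (fun f : A →ₐ[O] integralClosure O L => ((f a : L) : Ω)) h2
    exact this
  have hsurj : Function.Surjective Φ := Finite.surjective_of_injective hinj
  rw [hL, IntermediateField.adjoin_le_iff]
  rintro x hx
  obtain ⟨φ, a, rfl⟩ := Set.mem_iUnion.mp hx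
  obtain ⟨φ', rfl⟩ := hsurj φ
  exact (lift (θ.comp (toL φ')) a : E).2

end K956.FVal
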