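import Mathlib
import Groth.Agent.Font.K956.PM
import Groth.Agent.Font.K956.Mono
import Groth.Agent.Font.K956.Lift

/-!
# Balls as principal ideals, and the lifting of points of group schemes
-/

set_option autoImplicit false
set_option linter.unusedSectionVars false
set_option linter.deprecated false
universe u

open IsLocalRing Polynomial WithConv

namespace K956.FVal

theorem isAdicComplete_of_pow_le {R : Type*} [CommRing R] {I J : Ideal R} [IsAdicComplete I R]
    (h1 : I ≤ J) {k : ℕ} (h2 : J ^ k ≤ I) : IsAdicComplete J R := by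
  have hk : ∀ n : ℕ, J ^ ((k + 1) * n) ≤ I ^ n := by
    intro n
    rw [pow_mul]
    exact Ideal.pow_right_mono ((Ideal.pow_le_pow_right (Nat.le_succ k)).trans h2) n
  have hle : ∀ n : ℕ, n ≤ (k + 1) * n := fun n => Nat.le_mul_of_pos_left n (Nat.succ_pos k)
  refine { haus' := fun x hx => ?_, prec' := fun f hf => ?_ }
  · apply IsHausdorff.haus' (I := I)
    intro n
    have := hx ((k + 1) * n)
    rw [SModEq.zero, smul_eq_mul, Ideal.mul_top] at this ⊢
    exact hk n this
  · obtain ⟨L, hL⟩ := IsPrecomplete.prec' (I := I) (M := R) (fun n => f ((k + 1) * n)) (by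
      intro m n hmn
      have := hf (Nat.mul_le_mul_left (k + 1) hmn)
      rw [SModEq.sub_mem, smul_eq_mul, Ideal.mul_top] at this ⊢
      exact hk m this)
    refine ⟨L, fun n => ?_⟩
    have h3 := hf (hle n)
    have h4 := hL n
    rw [SModEq.sub_mem, smul_eq_mul, Ideal.mul_top] at h3 h4 ⊢
    have := add_mem h3 (Ideal.pow_right_mono h1 n h4)
    simpa using this

variable {O : Type u} [CommRing O] [IsDomain O] [IsDiscreteValuationRing O]
  (K : Type u) [Field K] [Algebra O K] [IsFractionRing O K]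
  [IsAdicComplete (maximalIdeal O) O] [CharZero K]
  (E : Type u) [Field E] [Algebra K E] [Algebra O E] [IsScalarTower O K E] [FiniteDimensional K E]

include K

theorem ge_iff_dvd {π : O} (hπ : Irreducible π) {z x : integralClosure O E} (hz : (z : E) ≠ 0) :
    Ge π (val π (z : E)) (x : E) ↔ z ∣ x := by
  constructor
  · exact fun h => dvd_of_ge K E hπ hz h
  · rintro ⟨y, rfl⟩
    exact Ge.mul_integral (K := K) hπ (Or.inr le_rfl) y.2

theorem exists_unif {π : O} (hπ : Irreducible π) :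
    ∃ (e : ℕ) (d : integralClosure O E), 0 < e ∧ (d : E) ≠ 0 ∧ val π (d : E) = 1 / e ∧
      (∀ x : E, x ≠ 0 → ∃ a : ℤ, val π x = a / e) ∧
      IsAdicComplete (Ideal.span {d}) (integralClosure O E) := by
  obtain ⟨e, he, ⟨d, hd0, hdv⟩, h⟩ := exists_valueGroup K E hπ
  refine ⟨e, d, he, hd0, hdv, h, ?_⟩
  have he' : (0 : ℚ) < e := by exact_mod_cast he
  have hc := IntCl.isAdicComplete_map O K E
  have hmap : (maximalIdeal O).map (algebraMap O (integralClosure O E)) =
      Ideal.span {algebraMap O (integralClosure O E) π} := by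
    rw [hπ.maximalIdeal_eq, Ideal.map_span, Set.image_singleton]
  rw [hmap] at hc
  have hpi0 : ((algebraMap O (integralClosure O E) π : integralClosure O E) : E) ≠ 0 :=
    pi_ne_zero (K := K) (Ω := E) hπ
  have hpv : val π ((algebraMap O (integralClosure O E) π : integralClosure O E) : E) = 1 :=
    val_pi (K := K) (Ω := E) hπ
  refine isAdicComplete_of_pow_le
    (I := Ideal.span {algebraMap O (integralClosure O E) π}) (k := e) ?_ ?_
  · rw [Ideal.span_singleton_le_iff_mem, Ideal.mem_span_singleton, ← ge_iff_dvd K E hπ hd0]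
    right
    rw [hdv, hpv, div_le_one he']
    exact_mod_cast he
  · rw [Ideal.span_singleton_pow, Ideal.span_singleton_le_iff_mem, Ideal.mem_span_singleton,
      ← ge_iff_dvd K E hπ hpi0]
    right
    rw [hpv]
    have : val π ((d ^ e : integralClosure O E) : E) = 1 := by
      change val π ((d : E) ^ e) = 1
      rw [val_pow K hπ hd0, hdv]
      field_simp
    rw [this]

theorem ge_iff_ceil {π : O} {e : ℕ} (he : 0 < e)
    (h : ∀ x : E, x ≠ 0 → ∃ a : ℤ, val π x = a / e) (t r : ℚ) (s : ℤ) (hs : s = ⌈(e : ℚ) * t⌉)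
    (hr : ∃ b : ℤ, r = b / e) (x : E) : Ge π (t + r) x ↔ Ge π (s / e + r) x := by
  have he' : (0 : ℚ) < e := by exact_mod_cast he
  unfold Ge
  rcases eq_or_ne x 0 with hx | hx
  · simp [hx]
  obtain ⟨a, ha⟩ := h x hx
  obtain ⟨b, hb⟩ := hr
  refine or_congr Iff.rfl ?_
  rw [ha, hb]
  have h1 : t + (b : ℚ) / e ≤ a / e ↔ (e : ℚ) * t ≤ ((a - b : ℤ) : ℚ) := by
    rw [← le_sub_iff_add_le, ← sub_div, le_div_iff₀ he', mul_comm]
    push_cast
    rfl
  have h2 : (s : ℚ) / e + (b : ℚ) / e ≤ a / e ↔ s ≤ a - b := by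
    rw [← add_div, div_le_div_iff_of_pos_right he', ← le_sub_iff_add_le]
    exact_mod_cast Iff.rfl
  rw [h1, h2, hs, Int.ceil_le]

section group

variable {A : Type u} [CommRing A] [Bialgebra O A] [Coalgebra.IsCocomm O A]

theorem val_p {π : O} (hπ : Irreducible π) {p eK : ℕ}
    (heK : Ideal.span {(p : O)} = maximalIdeal O ^ eK) :
    ((p : integralClosure O E) : E) ≠ 0 ∧ val π ((p : integralClosure O E) : E) = eK := by
  rw [hπ.maximalIdeal_eq, Ideal.span_singleton_pow, Ideal.span_singleton_eq_span_singleton] at heK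
  obtain ⟨u, hu⟩ := heK.symm
  have h1 : ((p : integralClosure O E) : E) = algebraMap O E π ^ eK * algebraMap O E u := by
    rw [← map_pow, ← map_mul, hu, map_natCast]
    rfl
  have hu' : IsU O E (algebraMap O E u) :=
    IsU.of_isUnit (O := O) (Ω := E) (Algebra.ofId O E) u.isUnit
  have hp0 := pi_ne_zero (K := K) (Ω := E) hπ
  rw [h1]
  refine ⟨mul_ne_zero (pow_ne_zero _ hp0) hu'.1, ?_⟩
  rw [val_mul K hπ (pow_ne_zero _ hp0) hu'.1, val_pow K hπ hp0, val_pi K hπ, val_isU K hπ hu']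
  ring

theorem lift_setup {π : O} (hπ : Irreducible π) {p eK : ℕ} (hp : p.Prime)
    (heK : Ideal.span {(p : O)} = maximalIdeal O ^ eK) {t₀ : ℚ} (ht₀ : eK < ((p : ℚ) - 1) * t₀) :
    ∃ (e s : ℕ) (d u : integralClosure O E), 0 < e ∧ (d : E) ≠ 0 ∧ val π (d : E) = 1 / e ∧
      (∀ x : E, x ≠ 0 → ∃ a : ℤ, val π x = a / e) ∧
      IsAdicComplete (Ideal.span {d}) (integralClosure O E) ∧ IsUnit u ∧
      (p : integralClosure O E) = u * d ^ (e * eK) ∧ e * eK < (p - 1) * s ∧
      (s : ℤ) = ⌈(e : ℚ) * t₀⌉ ∧ (∀ x : integralClosure O E, d * x = 0 → x = 0) := by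
  obtain ⟨e, d, he, hd0, hdv, h, hc⟩ := exists_unif K E hπ
  have he' : (0 : ℚ) < e := by exact_mod_cast he
  have hp1 : (0 : ℚ) < (p : ℚ) - 1 := by
    have : (1 : ℚ) < p := by exact_mod_cast hp.one_lt
    linarith
  have ht0 : 0 < t₀ := by
    have h1 : (0 : ℚ) ≤ eK := Nat.cast_nonneg _
    exact pos_of_mul_pos_right (lt_of_le_of_lt h1 ht₀) hp1.le
  obtain ⟨hpE, hpv⟩ := val_p K E hπ heK
  have hdp : val π ((d ^ (e * eK) : integralClosure O E) : E) = eK := by
    change val π ((d : E) ^ (e * eK)) = eK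
    rw [val_pow K hπ hd0, hdv]
    push_cast
    field_simp
  have hdp0 : ((d ^ (e * eK) : integralClosure O E) : E) ≠ 0 := pow_ne_zero _ hd0
  obtain ⟨u, hu⟩ : d ^ (e * eK) ∣ (p : integralClosure O E) := by
    rw [← ge_iff_dvd K E hπ hdp0, hdp]
    right
    rw [hpv]
  have hu0 : (u : E) ≠ 0 := by
    intro h0
    apply hpE
    rw [hu]
    change (d : E) ^ (e * eK) * (u : E) = 0
    rw [h0, mul_zero]
  refine ⟨e, ⌈(e : ℚ) * t₀⌉.toNat, d, u, he, hd0, hdv, h, hc, ?_, ?_, ?_, ?_, ?_⟩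
  · rw [isUnit_iff K E hπ]
    refine ⟨hu0, ?_⟩
    have h1 := val_mul K hπ hdp0 hu0
    have h2 : ((d ^ (e * eK) : integralClosure O E) : E) * (u : E) = ((p : integralClosure O E) : E) := by
      rw [hu]; rfl
    rw [h2, hpv, hdp] at h1
    linarith
  · rw [hu, mul_comm]
  · have h1 : (0 : ℤ) ≤ ⌈(e : ℚ) * t₀⌉ := Int.ceil_nonneg (by positivity)
    have h2 : ((⌈(e : ℚ) * t₀⌉.toNat : ℕ) : ℚ) = (⌈(e : ℚ) * t₀⌉ : ℤ) := by
      exact_mod_cast Int.toNat_of_nonneg h1
    have h3 : (e : ℚ) * eK < ((p - 1 : ℕ) : ℚ) * (⌈(e : ℚ) * t₀⌉.toNat : ℕ) := by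
      rw [h2, Nat.cast_sub hp.one_lt.le]
      push_cast
      calc (e : ℚ) * eK < e * (((p : ℚ) - 1) * t₀) := by
            exact mul_lt_mul_of_pos_left ht₀ he'
        _ = ((p : ℚ) - 1) * (e * t₀) := by ring
        _ ≤ _ := mul_le_mul_of_nonneg_left (Int.le_ceil _) hp1.le
    exact_mod_cast h3
  · exact Int.toNat_of_nonneg (Int.ceil_nonneg (by positivity))
  · intro x hx
    have h1 : (d : E) * (x : E) = 0 := congrArg (fun t : integralClosure O E => (t : E)) hx
    exact Subtype.ext ((mul_eq_zero.mp h1).resolve_left hd0)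

theorem point_unique {π : O} (hπ : Irreducible π) {p eK n : ℕ} (hp : p.Prime)
    (heK : Ideal.span {(p : O)} = maximalIdeal O ^ eK)
    (hN : (toConv (AlgHom.id O A)) ^ (p ^ n) = 1) {t₀ : ℚ} (ht₀ : eK < ((p : ℚ) - 1) * t₀)
    (φ ψ : A →ₐ[O] integralClosure O E) (h : ∀ a, Ge π t₀ ((φ a : E) - ψ a)) : φ = ψ := by
  obtain ⟨e, s, d, u, he, hd0, hdv, hval, hc, hu, hpu, hlt, hs, htf⟩ := lift_setup K E hπ hp heK ht₀
  refine HLift.point_unique htf hp hu hpu hlt hN φ ψ ?_
  ext a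
  change Ideal.Quotient.mk _ (φ a) = Ideal.Quotient.mk _ (ψ a)
  rw [Ideal.Quotient.mk_eq_mk_iff_sub_mem, Ideal.mem_span_singleton,
    ← ge_iff_dvd K E hπ (z := d ^ s) (pow_ne_zero _ hd0)]
  have h1 : val π ((d ^ s : integralClosure O E) : E) = (s : ℤ) / e + 0 := by
    change val π ((d : E) ^ s) = _
    rw [val_pow K hπ hd0, hdv]
    push_cast
    ring
  rw [h1, ← ge_iff_ceil K E he hval t₀ 0 s hs ⟨0, by simp⟩, add_zero]
  exact h a

theorem exists_lift [Module.Projective O A] {π : O} (hπ : Irreducible π) {p eK n : ℕ} (hp : p.Prime)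
    (heK : Ideal.span {(p : O)} = maximalIdeal O ^ eK)
    (hN : (toConv (AlgHom.id O A)) ^ (p ^ n) = 1) {t₀ : ℚ} (ht₀ : eK < ((p : ℚ) - 1) * t₀)
    (ψ : A →ₐ[O] integralClosure O E ⧸ ball K π hπ (t₀ + n * eK) E) :
    ∃ φ : A →ₐ[O] integralClosure O E, ∀ a (x : integralClosure O E),
      Ideal.Quotient.mk _ x = ψ a → Ge π t₀ ((φ a : E) - x) := by
  obtain ⟨e, s, d, u, he, hd0, hdv, hval, hc, hu, hpu, hlt, hs, htf⟩ := lift_setup K E hπ hp heK ht₀
  obtain ⟨hpE, hpv⟩ := val_p K E hπ heK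
  have he' : (0 : ℚ) < e := by exact_mod_cast he
  have hball : ball K π hπ (t₀ + n * eK) E =
      Ideal.span {(p : integralClosure O E) ^ n * d ^ s} := by
    ext x
    have h0 : (((p : integralClosure O E) ^ n * d ^ s : integralClosure O E) : E) ≠ 0 :=
      mul_ne_zero (pow_ne_zero _ hpE) (pow_ne_zero _ hd0)
    have h1 : val π (((p : integralClosure O E) ^ n * d ^ s : integralClosure O E) : E) =
        (s : ℤ) / e + n * eK := by
      change val π (((p : integralClosure O E) : E) ^ n * (d : E) ^ s) = _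
      rw [val_mul K hπ (pow_ne_zero _ hpE) (pow_ne_zero _ hd0), val_pow K hπ hpE, val_pow K hπ hd0,
        hdv, hpv]
      push_cast
      ring
    rw [mem_ball, Ideal.mem_span_singleton, ← ge_iff_dvd K E hπ h0, h1]
    exact ge_iff_ceil K E he hval t₀ (n * eK) s hs ⟨n * eK * e, by push_cast; field_simp⟩ x
  revert ψ
  rw [hball]
  intro ψ
  obtain ⟨φ, hφ⟩ := HLift.exists_lift htf hp hu hpu hlt hN ψ
  refine ⟨φ, fun a x hx => ?_⟩
  have h2 := hφ a x hx
  rw [← ge_iff_dvd K E hπ (z := d ^ s) (pow_ne_zero _ hd0)] at h2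
  have h1 : val π ((d ^ s : integralClosure O E) : E) = (s : ℤ) / e + 0 := by
    change val π ((d : E) ^ s) = _
    rw [val_pow K hπ hd0, hdv]
    push_cast
    ring
  rw [h1, ← ge_iff_ceil K E he hval t₀ 0 s hs ⟨0, by simp⟩, add_zero] at h2
  exact h2

end group

end K956.FVal
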