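import Mathlib
import Groth.Agent.Font.K956.Bridge
import Groth.Agent.Font.K956.Diff2

/-!
# The ramification bound for the field generated by the points of a finite algebra
-/

set_option autoImplicit false
set_option linter.unusedSectionVars false
set_option linter.deprecated false
universe u

open IsLocalRing Polynomial WithConv

namespace K956.FVal

variable {O : Type u} [CommRing O] [IsDomain O] [IsDiscreteValuationRing O]
  (K : Type u) [Field K] [Algebra O K] [IsFractionRing O K]
  [IsAdicComplete (maximalIdeal O) O] [CharZero K]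
  {Ω : Type u} [Field Ω] [Algebra K Ω] [Algebra O Ω] [IsScalarTower O K Ω]
  [Algebra.IsAlgebraic K Ω] [IsAlgClosed Ω]

include K

/-- The field generated by the points is Galois. -/
theorem isGalois_points {A : Type u} [CommRing A] [Algebra O A]
    (L : IntermediateField K Ω)
    (hL : L = IntermediateField.adjoin K (⋃ φ : A →ₐ[O] Ω, Set.range φ)) : IsGalois K L := by
  have hac : IsAlgClosure K Ω := ⟨inferInstance, inferInstance⟩
  have hn : Normal K Ω := IsAlgClosure.normal K Ω
  have hnL : Normal K L := by
    rw [IntermediateField.normal_iff_forall_map_le]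
    intro σ
    rw [hL, IntermediateField.adjoin_map]
    apply IntermediateField.adjoin.mono
    rintro _ ⟨x, hx, rfl⟩
    obtain ⟨φ, a, rfl⟩ := Set.mem_iUnion.mp hx
    exact Set.mem_iUnion.mpr ⟨(σ.restrictScalars O).comp φ, a, rfl⟩
  have hs : Algebra.IsSeparable K L := inferInstance
  exact ⟨⟩

omit [Algebra.IsAlgebraic K Ω] [IsAlgClosed Ω] in
theorem conclude (L : IntermediateField K Ω) [FiniteDimensional K L] [IsGalois K L]
    {π : O} (hπ : Irreducible π) {e : ℕ} (he : 0 < e)
    {t : integralClosure O L} (ht0 : (t : L) ≠ 0) (ht : val π (t : L) = 1 / e)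
    (h : ∀ x : L, x ≠ 0 → ∃ a : ℤ, val π x = a / e)
    {γ : integralClosure O L} (hγ : Algebra.adjoin O {γ} = ⊤) {M : ℚ}
    [DecidableEq (L ≃ₐ[K] L)]
    (hb : ∀ τ₀ : L ≃ₐ[K] L, τ₀ ≠ 1 → val π ((γ : L) - τ₀ (γ : L)) +
      ∑ σ ∈ Finset.univ.erase (1 : L ≃ₐ[K] L), val π ((γ : L) - σ (γ : L)) ≤ M)
    [IsDedekindDomain (integralClosure O L)]
    [Module.IsTorsionFree O (integralClosure O L)] (P : Ideal (integralClosure O L))
    [P.IsMaximal] :
    ∃ d : ℕ, differentIdeal O (integralClosure O L) = P ^ d ∧
      (0 < M → (d : ℚ) < (P.ramificationIdx O : ℚ) * M) ∧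
      ∀ σ : L ≃ₐ[K] L, σ ≠ AlgEquiv.refl → ∀ j : ℕ,
        (∀ x : (integralClosure O L), ∃ y ∈ P ^ j, algebraMap (integralClosure O L) L y = σ (algebraMap (integralClosure O L) L x) - algebraMap (integralClosure O L) L x) →
          (j : ℚ) + d ≤ (P.ramificationIdx O : ℚ) * M := by
  have he' : (0 : ℚ) < e := by exact_mod_cast he
  obtain ⟨d, hd, hde⟩ := exists_different K L hπ he ht0 ht h P hγ
  rw [ramificationIdx_eq K L hπ he ht0 ht h P]
  have hnn : ∀ σ : L ≃ₐ[K] L, 0 ≤ val π ((γ : L) - σ (γ : L)) := by
    intro σ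
    rcases eq_or_ne ((γ : L) - σ (γ : L)) 0 with h0 | h0
    · rw [h0, val_zero]
    · rw [val_nonneg_iff K hπ h0]
      exact γ.2.sub (gal_integral K L γ σ)
  refine ⟨d, hd, fun hM => ?_, fun σ hσ j hj => ?_⟩
  · by_cases hex : ∃ τ : L ≃ₐ[K] L, τ ≠ 1 ∧ 0 < val π ((γ : L) - τ (γ : L))
    · obtain ⟨τ, hτ, hτv⟩ := hex
      have h1 := hb τ hτ
      rw [← hde] at h1
      have h2 : (d : ℚ) / e < M := by linarith
      rw [div_lt_iff₀ he'] at h2
      linarith
    · push Not at hex
      have h1 : (d : ℚ) / e = 0 := by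
        rw [hde]
        refine Finset.sum_eq_zero fun σ hσ => ?_
        exact le_antisymm (hex σ (Finset.mem_erase.mp hσ).1) (hnn σ)
      rw [div_eq_zero_iff] at h1
      rw [h1.resolve_right he'.ne']
      positivity
  · have h1 := le_val_of_trivial K L hπ he ht0 ht h P hγ σ hσ j hj
    have h2 := hb σ hσ
    rw [← hde] at h2
    have h3 : (j : ℚ) / e + d / e ≤ M := by linarith
    rw [← add_div, div_le_iff₀ he'] at h3
    linarith

/-- The main bound, given uniqueness and lifting of points. -/
theorem main_bound [PerfectField (ResidueField O)] {A : Type u} [CommRing A] [Algebra O A]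
    [Module.Finite O A]
    (L : IntermediateField K Ω) [FiniteDimensional K L]
    (hL : L = IntermediateField.adjoin K (⋃ φ : A →ₐ[O] Ω, Set.range φ))
    {π : O} (hπ : Irreducible π) {M κ : ℚ} (hM : 1 ≤ M) (hκ : 0 ≤ κ)
    (H1 : ∀ t₀ : ℚ, M < t₀ + κ → ∀ φ ψ : A →ₐ[O] integralClosure O L,
      (∀ a, Ge π t₀ ((φ a : L) - ψ a)) → φ = ψ)
    (H2 : ∀ t₀ : ℚ, M < t₀ + κ → ∀ (E : IntermediateField K Ω) [FiniteDimensional K E],
      ∀ ψ : A →ₐ[O] integralClosure O E ⧸ ball K π hπ (t₀ + κ) E,
      ∃ φ : A →ₐ[O] integralClosure O E, ∀ a (x : integralClosure O E),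
        Ideal.Quotient.mk _ x = ψ a → Ge π t₀ ((φ a : E) - x))
    [IsDedekindDomain (integralClosure O L)]
    [Module.IsTorsionFree O (integralClosure O L)] (P : Ideal (integralClosure O L))
    [P.IsMaximal] :
    ∃ d : ℕ, differentIdeal O (integralClosure O L) = P ^ d ∧
      (d : ℚ) < (P.ramificationIdx O : ℚ) * M ∧
      ∀ σ : L ≃ₐ[K] L, σ ≠ AlgEquiv.refl → ∀ j : ℕ,
        (∀ x : (integralClosure O L), ∃ y ∈ P ^ j, algebraMap (integralClosure O L) L y = σ (algebraMap (integralClosure O L) L x) - algebraMap (integralClosure O L) L x) →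
          (j : ℚ) + d ≤ (P.ramificationIdx O : ℚ) * M := by
  classical
  have hG := isGalois_points K (A := A) L hL
  obtain ⟨e, he, ⟨t, ht0, ht⟩, h⟩ := exists_valueGroup K L hπ
  obtain ⟨γ, g, hg, hg1, hgd, hg0, hgv, hγ⟩ := exists_mono K L hπ he ht0 ht h
  have hcard := card_inertia K L hπ he ht0 ht h hγ
  have hb := bound (Ω := Ω) K hπ L he h hγ hg hg1 hgd hg0 hgv hcard hM (by
    intro m hm E _ θ
    have hm' : M < (m - κ) + κ := by rwa [sub_add_cancel]
    refine le_of_lift K (A := A) L hL hπ (t₀ := m - κ) (m := m) (lt_of_le_of_lt hM hm)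
      (by linarith) (H1 (m - κ) hm') E ?_ θ
    have := H2 (m - κ) hm' E
    rwa [sub_add_cancel] at this)
  obtain ⟨d, hd, h1, h2⟩ := conclude K L hπ he ht0 ht h hγ hb P
  exact ⟨d, hd, h1 (lt_of_lt_of_le one_pos hM), h2⟩

/-- The unramified case. -/
theorem main_unramified [PerfectField (ResidueField O)] {A : Type u} [CommRing A] [Algebra O A]
    [Module.Finite O A] [Algebra.FormallyUnramified O A]
    (L : IntermediateField K Ω) [FiniteDimensional K L]
    (hL : L = IntermediateField.adjoin K (⋃ φ : A →ₐ[O] Ω, Set.range φ))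
    {π : O} (hπ : Irreducible π) {M : ℚ} (hM : 0 ≤ M)
    [IsDedekindDomain (integralClosure O L)]
    [Module.IsTorsionFree O (integralClosure O L)] (P : Ideal (integralClosure O L))
    [P.IsMaximal] :
    ∃ d : ℕ, differentIdeal O (integralClosure O L) = P ^ d ∧
      ∀ σ : L ≃ₐ[K] L, σ ≠ AlgEquiv.refl → ∀ j : ℕ,
        (∀ x : (integralClosure O L), ∃ y ∈ P ^ j, algebraMap (integralClosure O L) L y = σ (algebraMap (integralClosure O L) L x) - algebraMap (integralClosure O L) L x) →
          (j : ℚ) + d ≤ (P.ramificationIdx O : ℚ) * M := by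
  classical
  have hG := isGalois_points K (A := A) L hL
  obtain ⟨e, he, ⟨t, ht0, ht⟩, h⟩ := exists_valueGroup K L hπ
  obtain ⟨γ, g, hg, hg1, hgd, hg0, hgv, hγ⟩ := exists_mono K L hπ he ht0 ht h
  have he' : (0 : ℚ) < e := by exact_mod_cast he
  have hD := IntCl.isDVR O K L
  -- no inertia
  have hw : ∀ σ : L ≃ₐ[K] L, val π ((γ : L) - σ (γ : L)) = 0 := by
    intro σ
    by_contra hne
    have h0 : (γ : L) - σ (γ : L) ≠ 0 := fun h0 => hne (by rw [h0, val_zero])
    have hpos : 0 < val π ((γ : L) - σ (γ : L)) :=
      lt_of_le_of_ne ((val_nonneg_iff K hπ h0).mpr (γ.2.sub (gal_integral K L γ σ))) (Ne.symm hne)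
    -- `σ` acts trivially modulo the ball
    set v := val π ((γ : L) - σ (γ : L)) with hv
    have htriv : ∀ x : integralClosure O L, Ge π v ((x : L) - σ (x : L)) := by
      intro x
      have hx : x ∈ Algebra.adjoin O {γ} := by rw [hγ]; trivial
      obtain ⟨q, rfl⟩ := Algebra.adjoin_mem_exists_aeval _ γ hx
      have h6 : ((aeval γ q : integralClosure O L) : L) = aeval (γ : L) q := by
        change (integralClosure O L).val (aeval γ q) = _
        rw [← Polynomial.aeval_algHom_apply]
        rfl
      have h7 : σ (aeval (γ : L) q) = aeval (σ (γ : L)) q :=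
        (Polynomial.aeval_algHom_apply (σ.toAlgHom.restrictScalars O) (γ : L) q).symm
      rw [h6, h7]
      have h8 : Ge π v ((γ : L) - σ (γ : L)) := Or.inr le_rfl
      obtain ⟨c, hc⟩ : γ - ⟨σ (γ : L), gal_integral K L γ σ⟩ ∣
          aeval γ q - aeval (⟨σ (γ : L), gal_integral K L γ σ⟩ : integralClosure O L) q := by
        rw [Polynomial.aeval_def, Polynomial.aeval_def, ← Polynomial.eval_map,
          ← Polynomial.eval_map]
        exact Polynomial.sub_dvd_eval_sub _ _ _
      have h9 : ((aeval (⟨σ (γ : L), gal_integral K L γ σ⟩ : integralClosure O L) q :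
          integralClosure O L) : L) = aeval (σ (γ : L)) q := by
        change (integralClosure O L).val (aeval _ q) = _
        rw [← Polynomial.aeval_algHom_apply]
        rfl
      have h10 := congrArg (fun z : integralClosure O L => (z : L)) hc
      change ((aeval γ q : integralClosure O L) : L) - ((aeval (⟨σ (γ : L), gal_integral K L γ σ⟩ : integralClosure O L) q :
          integralClosure O L) : L) = ((γ : L) - σ (γ : L)) * (c : L) at h10
      rw [h6, h9] at h10
      rw [h10]
      exact h8.mul_integral K hπ c.2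
    have hσ1 : σ = 1 := by
      -- it fixes all points
      have hfix : ∀ (φ : A →ₐ[O] Ω) (a : A) (ha : φ a ∈ L), σ ⟨φ a, ha⟩ = ⟨φ a, ha⟩ := by
        intro φ
        have hmem : ∀ (a : A), φ a ∈ L := by
          intro a
          rw [hL]
          exact IntermediateField.subset_adjoin K _ (Set.mem_iUnion.mpr ⟨φ, a, rfl⟩)
        have hint : ∀ (a : A), IsIntegral O (⟨φ a, hmem a⟩ : L) := by
          intro a
          have h1 : IsIntegral O (φ a) := (Algebra.IsIntegral.isIntegral (R := O) a).map φ
          have h2 : (L.val.restrictScalars O) (⟨φ a, hmem a⟩ : L) = φ a := rfl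
          rw [← h2] at h1
          exact (isIntegral_algHom_iff (L.val.restrictScalars O) (L.val.restrictScalars O).toRingHom.injective).mp h1
        let φL : A →ₐ[O] L :=
          { toFun := fun a => ⟨φ a, hmem a⟩
            map_one' := by ext; simp
            map_mul' := fun a b => by ext; simp
            map_zero' := by ext; simp
            map_add' := fun a b => by ext; simp
            commutes' := fun r => by
              ext
              simp only [AlgHom.commutes]
              rfl }
        let φ₁ : A →ₐ[O] integralClosure O L := φL.codRestrict (integralClosure O L) hint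
        let φ₂ : A →ₐ[O] integralClosure O L :=
          ((σ.toAlgHom.restrictScalars O).comp φL).codRestrict (integralClosure O L) (by
            intro a
            exact (hint a).map (σ.toAlgHom.restrictScalars O))
        have h12 : φ₁ = φ₂ := by
          refine Algebra.FormallyUnramified.ext_of_iInf (I := maximalIdeal (integralClosure O L))
            (Ideal.iInf_pow_eq_bot_of_isDomain _ (IsLocalRing.maximalIdeal.isMaximal _).ne_top) ?_
          intro a
          rw [Ideal.Quotient.mk_eq_mk_iff_sub_mem]
          have h1 := htriv (φ₁ a)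
          have h2 : Ge π v ((φ₁ a - φ₂ a : integralClosure O L) : L) := h1
          rw [IsLocalRing.mem_maximalIdeal, mem_nonunits_iff, isUnit_iff K L hπ]
          rintro ⟨h3, h4⟩
          have h5 := h2.resolve_left h3
          rw [h4] at h5
          exact absurd hpos (not_lt.mpr h5)
        intro a ha
        have := congrArg (fun f : A →ₐ[O] integralClosure O L => (f a : L)) h12
        exact this.symm
      have hfix' : ∀ x : L, σ x = x := by
        -- the fixed field contains all generators
        let F : IntermediateField K L := IntermediateField.fixedField (Subgroup.zpowers σ)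
        have hle : L ≤ F.map L.val := by
          conv_lhs => rw [hL]
          rw [IntermediateField.adjoin_le_iff]
          intro x hx
          obtain ⟨φ, a, rfl⟩ := Set.mem_iUnion.mp hx
          have hxL : φ a ∈ L := by
            rw [hL]
            exact IntermediateField.subset_adjoin K _ (Set.mem_iUnion.mpr ⟨φ, a, rfl⟩)
          refine ⟨⟨φ a, hxL⟩, ?_, rfl⟩
          change (⟨φ a, hxL⟩ : L) ∈ F
          rw [IntermediateField.mem_fixedField_iff]
          intro f hf
          have hfx : f ∈ MulAction.stabilizer (L ≃ₐ[K] L) (⟨φ a, hxL⟩ : L) := by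
            have : Subgroup.zpowers σ ≤ MulAction.stabilizer (L ≃ₐ[K] L) (⟨φ a, hxL⟩ : L) := by
              rw [Subgroup.zpowers_le]
              exact hfix φ a hxL
            exact this hf
          exact hfx
        intro x
        obtain ⟨y, hy, hyx⟩ := hle x.2
        have hyx' : y = x := Subtype.ext hyx
        subst hyx'
        have : y ∈ F := hy
        rw [IntermediateField.mem_fixedField_iff] at this
        exact this σ (Subgroup.mem_zpowers σ)
      exact AlgEquiv.ext hfix'
    apply h0
    rw [hσ1, AlgEquiv.one_apply, sub_self]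
  obtain ⟨d, hd, -, h2⟩ := conclude K L hπ he ht0 ht h hγ (M := M) (by
    intro τ₀ _
    rw [hw τ₀, Finset.sum_eq_zero fun σ _ => hw σ, add_zero]
    exact hM) P
  exact ⟨d, hd, h2⟩

end K956.FVal
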