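import Mathlib
import Groth.Prelude.Def_W4c1noabschz1DP

/-!
# The divided power filtration
-/

set_option autoImplicit false
set_option linter.unusedSectionVars false

open W4c1noabschz1 Finset

namespace K956.DP

variable {S : Type*} [CommRing S] {I : Ideal S} (hI : DividedPowers I)

theorem dpPow_anti {m n : ℕ} (h : m ≤ n) : dpPow hI n ≤ dpPow hI m :=
  Ideal.span_mono fun _ ⟨r, x, k, hx, hk, hz⟩ => ⟨r, x, k, hx, h.trans hk, hz⟩

theorem dpPow_zero : dpPow hI 0 = ⊤ := by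
  rw [Ideal.eq_top_iff_one]
  exact Ideal.subset_span ⟨0, Fin.elim0, Fin.elim0, fun i => i.elim0, Nat.zero_le _, by simp⟩

theorem dpow_mem_dpPow {x : S} (hx : x ∈ I) (n : ℕ) : hI.dpow n x ∈ dpPow hI n :=
  Ideal.subset_span ⟨1, fun _ => x, fun _ => n, fun _ => hx, by simp, by simp⟩

theorem dpPow_one : dpPow hI 1 = I := by
  apply le_antisymm
  · rw [dpPow, Ideal.span_le]
    rintro z ⟨r, x, k, hx, hk, rfl⟩
    obtain ⟨i, hi⟩ : ∃ i, k i ≠ 0 := by
      by_contra h
      push Not at h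
      simp [h] at hk
    exact Ideal.mem_of_dvd _ (Finset.dvd_prod_of_mem _ (Finset.mem_univ i))
      (hI.dpow_mem hi (hx i))
  · intro x hx
    have := dpow_mem_dpPow hI hx 1
    rwa [hI.dpow_one hx] at this

theorem dpPow_le {n : ℕ} (hn : n ≠ 0) : dpPow hI n ≤ I := by
  have := dpPow_anti hI (Nat.one_le_iff_ne_zero.mpr hn)
  rwa [dpPow_one] at this

theorem dpPow_mul (m n : ℕ) : dpPow hI m * dpPow hI n ≤ dpPow hI (m + n) := by
  rw [dpPow, dpPow, Ideal.span_mul_span', Ideal.span_le]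
  rintro _ ⟨_, ⟨r, x, k, hx, hk, rfl⟩, _, ⟨r', x', k', hx', hk', rfl⟩, rfl⟩
  refine Ideal.subset_span ⟨r + r', Fin.append x x', Fin.append k k', ?_, ?_, ?_⟩
  · intro i
    refine Fin.addCases (fun i => ?_) (fun i => ?_) i
    · rw [Fin.append_left]; exact hx i
    · rw [Fin.append_right]; exact hx' i
  · rw [Fin.sum_univ_add]
    simp only [Fin.append_left, Fin.append_right]
    exact add_le_add hk hk'
  · rw [Fin.prod_univ_add]
    simp only [Fin.append_left, Fin.append_right]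

theorem mul_mem_dpPow {m n : ℕ} {x y : S} (hx : x ∈ dpPow hI m) (hy : y ∈ dpPow hI n) :
    x * y ∈ dpPow hI (m + n) :=
  dpPow_mul hI m n (Ideal.mul_mem_mul hx hy)

theorem pow_mem_dpPow {m : ℕ} {x : S} (hx : x ∈ dpPow hI m) (k : ℕ) : x ^ k ∈ dpPow hI (k * m) := by
  induction k with
  | zero => rw [Nat.zero_mul, dpPow_zero]; trivial
  | succ k ih =>
    rw [pow_succ, Nat.succ_mul]
    exact mul_mem_dpPow hI ih hx

theorem prod_mem_dpPow {ι : Type*} (s : Finset ι) (x : ι → S) (n : ι → ℕ) (hx : ∀ i, x i ∈ I) :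
    ∏ i ∈ s, hI.dpow (n i) (x i) ∈ dpPow hI (∑ i ∈ s, n i) := by
  classical
  induction s using Finset.induction_on with
  | empty => rw [Finset.sum_empty, dpPow_zero]; trivial
  | insert a s ha ih =>
    rw [Finset.prod_insert ha, Finset.sum_insert ha]
    exact mul_mem_dpPow hI (dpow_mem_dpPow hI (hx a) _) ih

theorem dpow_mem {n : ℕ} (hn : n ≠ 0) {h : S} (hh : h ∈ dpPow hI n) (k : ℕ) :
    hI.dpow k h ∈ dpPow hI (k * n) := by
  classical
  have hle := dpPow_le hI hn
  rw [dpPow] at hh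
  revert k
  refine Submodule.span_induction (p := fun h _ => ∀ k, hI.dpow k h ∈ dpPow hI (k * n))
    ?_ ?_ ?_ ?_ hh
  · rintro _ ⟨r, x, m, hx, hm, rfl⟩ k
    obtain ⟨i, hi⟩ : ∃ i, m i ≠ 0 := by
      by_contra h
      push Not at h
      simp [h] at hm
      exact hn hm
    rw [← Finset.mul_prod_erase _ _ (Finset.mem_univ i),
      hI.dpow_mul_right (hI.dpow_mem hi (hx i)), hI.dpow_comp hi (hx i), mul_assoc]
    refine Ideal.mul_mem_left _ _ ?_
    have h1 := mul_mem_dpPow hI (dpow_mem_dpPow hI (hx i) (k * m i))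
      (pow_mem_dpPow hI (prod_mem_dpPow hI (Finset.univ.erase i) x m hx) k)
    refine dpPow_anti hI ?_ h1
    rw [← Nat.mul_add, Finset.add_sum_erase _ _ (Finset.mem_univ i)]
    exact Nat.mul_le_mul_left k hm
  · intro k
    rcases eq_or_ne k 0 with rfl | hk
    · rw [Nat.zero_mul, dpPow_zero]; trivial
    · rw [hI.dpow_eval_zero hk]; exact Ideal.zero_mem _
  · intro x y hx hy hx' hy' k
    rw [hI.dpow_add (hle hx) (hle hy)]
    refine Ideal.sum_mem _ fun ij hij => ?_
    have h1 := mul_mem_dpPow hI (hx' ij.1) (hy' ij.2)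
    rwa [← Nat.add_mul, Finset.HasAntidiagonal.mem_antidiagonal.mp hij] at h1
  · intro s x hx hx' k
    rw [smul_eq_mul, hI.dpow_mul (hle hx)]
    exact Ideal.mul_mem_left _ _ (hx' k)

end K956.DP
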