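import Mathlib
import Groth.Agent.Font.K956.DPFil

/-!
# Taylor expansions with divided powers
-/

set_option autoImplicit false
set_option linter.unusedSectionVars false

open W4c1noabschz1 Finset MvPolynomial

namespace K956.DP

variable {O S σ : Type*} [CommRing O] [CommRing S] [Algebra O S] {I : Ideal S}
  (hI : DividedPowers I)

theorem iterate_pderiv_mul_X (i k : σ) (g : MvPolynomial σ O) (j : ℕ) :
    (pderiv i)^[j + 1] (g * X k) =
      (pderiv i)^[j + 1] g * X k + ((j + 1 : ℕ) : MvPolynomial σ O) *
        ((pderiv i)^[j] g * pderiv i (X k)) := by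
  classical
  have h0 : pderiv i (pderiv i (X k : MvPolynomial σ O)) = 0 := by
    rw [pderiv_X]
    rcases eq_or_ne k i with h | h
    · subst h; simp
    · simp [Pi.single_eq_of_ne h]
  induction j with
  | zero =>
    simp only [zero_add, Function.iterate_one, Function.iterate_zero, id_eq, Nat.cast_one, one_mul]
    rw [Derivation.leibniz, smul_eq_mul, smul_eq_mul]
    ring
  | succ j ih =>
    rw [Function.iterate_succ_apply' (pderiv i) (j + 1) (g * X k), ih, map_add, Derivation.leibniz,
      Derivation.leibniz, Derivation.leibniz, h0, Derivation.map_natCast]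
    simp only [smul_eq_mul, mul_zero, add_zero, zero_add]
    rw [← Function.iterate_succ_apply' (pderiv i) (j + 1) g,
      ← Function.iterate_succ_apply' (pderiv i) j g]
    push_cast
    ring

theorem aeval_update [DecidableEq σ] (u : σ → S) (i : σ) {h : S} (hh : h ∈ I)
    (g : MvPolynomial σ O) :
    ∀ᶠ N in Filter.atTop, aeval (Function.update u i (u i + h)) g =
      ∑ j ∈ range N, aeval u ((pderiv i)^[j] g) * hI.dpow j h := by
  induction g using MvPolynomial.induction_on with
  | C c =>
    filter_upwards [Filter.eventually_ge_atTop 1] with N hN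
    obtain ⟨N, rfl⟩ := Nat.exists_eq_add_of_le' hN
    rw [Finset.sum_range_succ']
    have : ∀ j, (pderiv i)^[j + 1] (C c : MvPolynomial σ O) = 0 := by
      intro j
      rw [Function.iterate_succ_apply, pderiv_C]
      exact iterate_map_zero _ _
    simp only [this, map_zero, zero_mul, Finset.sum_const_zero, zero_add, Function.iterate_zero,
      id_eq, aeval_C, hI.dpow_zero hh, mul_one]
  | add p q hp hq =>
    filter_upwards [hp, hq] with N hp hq
    rw [map_add, hp, hq, ← Finset.sum_add_distrib]
    refine Finset.sum_congr rfl fun j _ => ?_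
    rw [iterate_map_add, map_add, add_mul]
  | mul_X p k ih =>
    obtain ⟨N₀, hN₀⟩ := Filter.eventually_atTop.mp ih
    filter_upwards [Filter.eventually_ge_atTop (N₀ + 1)] with N hN
    obtain ⟨N, rfl⟩ := Nat.exists_eq_add_of_le' (le_trans (Nat.le_add_left 1 N₀) hN)
    have h1 := hN₀ N (by omega)
    have h2 := hN₀ (N + 1) (by omega)
    have hX : aeval (Function.update u i (u i + h)) (X k : MvPolynomial σ O) =
        u k + h * aeval u (pderiv i (X k : MvPolynomial σ O)) := by
      rw [aeval_X, pderiv_X]
      rcases eq_or_ne k i with hk | hk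
      · subst hk; simp
      · simp [Function.update_of_ne hk, Pi.single_eq_of_ne hk]
    have hmul : ∀ j, ((j + 1 : ℕ) : S) * hI.dpow (j + 1) h = h * hI.dpow j h := by
      intro j
      have := hI.mul_dpow (m := 1) (n := j) hh
      rw [hI.dpow_one hh, Nat.choose_one_right, add_comm 1 j] at this
      exact this.symm
    rw [map_mul, hX, Finset.sum_range_succ']
    have h3 : ∀ j, aeval u ((pderiv i)^[j + 1] (p * X k)) * hI.dpow (j + 1) h =
        u k * (aeval u ((pderiv i)^[j + 1] p) * hI.dpow (j + 1) h) +
        h * aeval u (pderiv i (X k : MvPolynomial σ O)) *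
          (aeval u ((pderiv i)^[j] p) * hI.dpow j h) := by
      intro j
      rw [iterate_pderiv_mul_X, map_add, map_mul, map_mul, map_mul, aeval_X, map_natCast]
      linear_combination (aeval u ((pderiv i)^[j] p) *
        aeval u (pderiv i (X k : MvPolynomial σ O))) * hmul j
    simp only [h3]
    rw [Finset.sum_add_distrib, ← Finset.mul_sum, ← Finset.mul_sum, ← h1]
    rw [Finset.sum_range_succ'] at h2
    simp only [Function.iterate_zero, id_eq, map_mul, aeval_X] at h2 ⊢
    linear_combination u k * h2

theorem taylor [Fintype σ] {𝒟 : Ideal (MvPolynomial σ O)}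
    (h𝒟 : ∀ g ∈ 𝒟, ∀ i, pderiv i g ∈ 𝒟) {u : σ → S} {𝔡 : Ideal S}
    (hu : ∀ g ∈ 𝒟, aeval u g ∈ 𝔡) {H K : Ideal S} (hHI : H ≤ I) (hHH : H * H ≤ K)
    (hγ : ∀ h ∈ H, ∀ j, 2 ≤ j → hI.dpow j h ∈ K) {h : σ → S} (hh : ∀ i, h i ∈ H)
    {g : MvPolynomial σ O} (hg : g ∈ 𝒟) :
    aeval (fun i => u i + h i) g - aeval u g - ∑ i, h i * aeval u (pderiv i g) ∈ 𝔡 * K := by
  classical
  have key : ∀ (s : Finset σ) (g : MvPolynomial σ O), g ∈ 𝒟 →
      aeval (fun i => if i ∈ s then u i + h i else u i) g - aeval u g -
        ∑ i ∈ s, h i * aeval u (pderiv i g) ∈ 𝔡 * K := by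
    intro s
    induction s using Finset.induction_on with
    | empty => intro g _; simp
    | insert i s hi ih =>
      intro g hg
      set us : σ → S := fun i => if i ∈ s then u i + h i else u i with hus
      have husi : us i = u i := by simp [hus, hi]
      have hupd : (fun l => if l ∈ insert i s then u l + h l else u l) =
          Function.update us i (us i + h i) := by
        funext l
        rcases eq_or_ne l i with hl | hl
        · subst hl; simp [husi]
        · simp [hus, Finset.mem_insert, hl]
      clear_value us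
      obtain ⟨N, hN⟩ := Filter.eventually_atTop.mp (aeval_update hI us i (hHI (hh i)) g)
      have h1 := hN (N + 2) (by omega)
      rw [Finset.sum_range_succ', Finset.sum_range_succ'] at h1
      simp only [zero_add, Function.iterate_zero, Function.iterate_one, id_eq,
        hI.dpow_zero (hHI (hh i)), hI.dpow_one (hHI (hh i)), mul_one] at h1
      have hiter : ∀ j, (pderiv i)^[j] g ∈ 𝒟 := by
        intro j
        induction j with
        | zero => exact hg
        | succ j ihj => rw [Function.iterate_succ_apply']; exact h𝒟 _ ihj i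
      have husmem : ∀ g' ∈ 𝒟, aeval us g' ∈ 𝔡 := by
        intro g' hg'
        have h2 : aeval us g' - aeval u g' - ∑ i ∈ s, h i * aeval u (pderiv i g') ∈ 𝔡 :=
          (Ideal.mul_le_left : 𝔡 * K ≤ 𝔡) (ih g' hg')
        have h3 : ∑ i ∈ s, h i * aeval u (pderiv i g') ∈ 𝔡 :=
          Ideal.sum_mem _ fun l _ => Ideal.mul_mem_left _ _ (hu _ (h𝒟 g' hg' l))
        have h4 := 𝔡.add_mem (𝔡.add_mem h2 (hu g' hg')) h3
        rwa [show aeval us g' - aeval u g' - ∑ i ∈ s, h i * aeval u (pderiv i g') + aeval u g' +
          ∑ i ∈ s, h i * aeval u (pderiv i g') = aeval us g' by ring] at h4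
      have hT3 : ∑ j ∈ range N, aeval us ((pderiv i)^[j + 1 + 1] g) * hI.dpow (j + 1 + 1) (h i) ∈
          𝔡 * K :=
        Ideal.sum_mem _ fun j _ => Ideal.mul_mem_mul (husmem _ (hiter _))
          (hγ _ (hh i) _ (by omega))
      have hT1 := ih g hg
      have hT2 := ih (pderiv i g) (h𝒟 g hg i)
      have hT2' : h i * aeval us (pderiv i g) - h i * aeval u (pderiv i g) ∈ 𝔡 * K := by
        have h3 : h i * aeval us (pderiv i g) - h i * aeval u (pderiv i g) =
            h i * (aeval us (pderiv i g) - aeval u (pderiv i g) -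
              ∑ l ∈ s, h l * aeval u (pderiv l (pderiv i g))) +
            ∑ l ∈ s, aeval u (pderiv l (pderiv i g)) * (h i * h l) := by
          rw [mul_sub, mul_sub, Finset.mul_sum]
          have : ∑ l ∈ s, aeval u (pderiv l (pderiv i g)) * (h i * h l) =
              ∑ l ∈ s, h i * (h l * aeval u (pderiv l (pderiv i g))) :=
            Finset.sum_congr rfl fun l _ => by ring
          rw [this]; ring
        rw [h3]
        refine Ideal.add_mem _ (Ideal.mul_mem_left _ _ hT2) ?_
        exact Ideal.sum_mem _ fun l _ => Ideal.mul_mem_mul (hu _ (h𝒟 _ (h𝒟 g hg i) l))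
          (hHH (Ideal.mul_mem_mul (hh i) (hh l)))
      rw [hupd, Finset.sum_insert hi]
      have h4 : aeval (Function.update us i (us i + h i)) g - aeval u g -
          (h i * aeval u (pderiv i g) + ∑ l ∈ s, h l * aeval u (pderiv l g)) =
          (∑ j ∈ range N, aeval us ((pderiv i)^[j + 1 + 1] g) * hI.dpow (j + 1 + 1) (h i)) +
          (aeval us g - aeval u g - ∑ l ∈ s, h l * aeval u (pderiv l g)) +
          (h i * aeval us (pderiv i g) - h i * aeval u (pderiv i g)) := by
        rw [h1]; ring
      rw [h4]
      exact Ideal.add_mem _ (Ideal.add_mem _ hT3 hT1) hT2'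
  have := key Finset.univ g hg
  simpa using this

end K956.DP
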