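import Mathlib
import Groth.Agent.Font.K956.DPTaylor
import Groth.Agent.LoccohA.ChevalleyAdic
import Groth.Agent.FormalA.AdicFin

/-!
# Newton's method along an ideal with topologically nilpotent divided powers
-/

set_option autoImplicit false
set_option linter.unusedSectionVars false

open W4c1noabschz1 Finset MvPolynomial

namespace K956.DP

/-- Generators `x` of `A` over `O` adapted to `a`: the partial derivatives of all relations are
divisible by `a`, and the relations are generated, modulo products of relations, by relations `F j`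
with Jacobian matrix `a • 1`. -/
structure Pres {O A σ : Type*} [CommRing O] [CommRing A] [Algebra O A] (a : O) (x : σ → A)
    [DecidableEq σ] : Prop where
  surj : Function.Surjective (aeval x : MvPolynomial σ O →ₐ[O] A)
  deriv : ∀ g : MvPolynomial σ O, aeval x g = 0 → ∀ i, ∃ c : A, aeval x (pderiv i g) =
    algebraMap O A a * c
  exF : ∃ F : σ → MvPolynomial σ O, (∀ j, aeval x (F j) = 0) ∧
    (∀ i j, aeval x (pderiv i (F j)) = if i = j then algebraMap O A a else 0) ∧
    ∀ g : MvPolynomial σ O, aeval x g = 0 → g ∈ Ideal.span (Set.range F) ⊔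
      (RingHom.ker (aeval x : MvPolynomial σ O →ₐ[O] A)) ^ 2

variable {O A S σ : Type*} [CommRing O] [CommRing A] [CommRing S] [Algebra O A] [Algebra O S]
  [Fintype σ] [DecidableEq σ] {a : O} {x : σ → A} (hP : Pres a x)

/-- The differential ideal of relations modulo `a`. -/
noncomputable def dif (a : O) (x : σ → A) : Ideal (MvPolynomial σ O) :=
  RingHom.ker (aeval x : MvPolynomial σ O →ₐ[O] A) ⊔ Ideal.span {C a}

include hP in
theorem mem_dif {g : MvPolynomial σ O} {c : A} (h : aeval x g = algebraMap O A a * c) :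
    g ∈ dif a x := by
  obtain ⟨c', rfl⟩ := hP.surj c
  have h1 : g - C a * c' ∈ RingHom.ker (aeval x : MvPolynomial σ O →ₐ[O] A) := by
    rw [RingHom.mem_ker, map_sub, h, map_mul, aeval_C, sub_self]
  have h2 : g = (g - C a * c') + C a * c' := by ring
  rw [h2]
  exact Ideal.add_mem _ (Ideal.mem_sup_left h1)
    (Ideal.mem_sup_right (Ideal.mul_mem_right _ _ (Ideal.mem_span_singleton_self _)))

include hP in
theorem dif_stable : ∀ g ∈ dif a x, ∀ i, pderiv i g ∈ dif a x := by
  intro g hg i
  obtain ⟨g₁, hg₁, g₂, hg₂, rfl⟩ := Submodule.mem_sup.mp hg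
  obtain ⟨c, rfl⟩ := Ideal.mem_span_singleton'.mp hg₂
  rw [map_add, Derivation.leibniz, pderiv_C, smul_zero, zero_add, smul_eq_mul]
  obtain ⟨d, hd⟩ := hP.deriv g₁ hg₁ i
  exact Ideal.add_mem _ (mem_dif hP hd)
    (Ideal.mem_sup_right (Ideal.mul_mem_right _ _ (Ideal.mem_span_singleton_self _)))

theorem aeval_dif {u : σ → S} (hu : ∀ g : MvPolynomial σ O, aeval x g = 0 →
    aeval u g ∈ Ideal.span {algebraMap O S a}) {g : MvPolynomial σ O} (hg : g ∈ dif a x) :
    aeval u g ∈ Ideal.span {algebraMap O S a} := by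
  obtain ⟨g₁, hg₁, g₂, hg₂, rfl⟩ := Submodule.mem_sup.mp hg
  obtain ⟨c, rfl⟩ := Ideal.mem_span_singleton'.mp hg₂
  rw [map_add, map_mul, aeval_C]
  exact Ideal.add_mem _ (hu g₁ hg₁) (Ideal.mul_mem_left _ _ (Ideal.mem_span_singleton_self _))

section

variable {I : Ideal S} (hI : DividedPowers I)

theorem taylor' (hP : Pres a x) {u : σ → S} (hu : ∀ g : MvPolynomial σ O, aeval x g = 0 →
    aeval u g ∈ Ideal.span {algebraMap O S a}) {n : ℕ} (hn : n ≠ 0) {h : σ → S}
    (hh : ∀ i, h i ∈ dpPow hI n) {g : MvPolynomial σ O} (hg : aeval x g = 0) :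
    aeval (fun i => u i + h i) g - aeval u g - ∑ i, h i * aeval u (pderiv i g) ∈
      Ideal.span {algebraMap O S a} * dpPow hI (2 * n) := by
  refine taylor hI (𝒟 := dif a x) (dif_stable hP) (fun g hg => aeval_dif hu hg)
    (H := dpPow hI n) (dpPow_le hI hn) ?_ ?_ hh (Ideal.mem_sup_left hg)
  · rw [two_mul]; exact dpPow_mul hI n n
  · intro z hz j hj
    exact dpPow_anti hI (Nat.mul_le_mul_right n hj) (dpow_mem hI hn hz j)

include hP in
theorem unique (ha : ∀ s : S, algebraMap O S a * s = 0 → s = 0) (htn : IsDPTopNilpotent hI)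
    (φ ψ : A →ₐ[O] S) (h : ∀ b, φ b - ψ b ∈ I) : φ = ψ := by
  set u : σ → S := fun i => φ (x i) with hu
  set δ : σ → S := fun i => ψ (x i) - φ (x i) with hδ
  have hφ : ∀ g : MvPolynomial σ O, aeval u g = φ (aeval x g) := by
    intro g
    exact (MvPolynomial.comp_aeval_apply x φ g).symm
  have hψ : ∀ g : MvPolynomial σ O, aeval (fun i => u i + δ i) g = ψ (aeval x g) := by
    intro g
    have : (fun i => u i + δ i) = fun i => ψ (x i) := by
      funext i; simp [hu, hδ]
    rw [this]
    exact (MvPolynomial.comp_aeval_apply x ψ g).symm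
  obtain ⟨F, hF0, hFd, -⟩ := hP.exF
  have huJ : ∀ g : MvPolynomial σ O, aeval x g = 0 →
    aeval u g ∈ Ideal.span {algebraMap O S a} := by
    intro g hg
    rw [hφ, hg, map_zero]
    exact Ideal.zero_mem _
  have key : ∀ n, ∀ i, δ i ∈ dpPow hI (n + 1) := by
    intro n
    induction n with
    | zero =>
      intro i
      rw [zero_add, dpPow_one]
      have := I.neg_mem (h (x i))
      rwa [neg_sub] at this
    | succ n ih =>
      intro j
      have h1 := taylor' hI hP huJ (Nat.succ_ne_zero n) ih (hF0 j)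
      rw [hφ, hψ, hF0, map_zero, map_zero] at h1
      have h2 : ∑ i, δ i * aeval u (pderiv i (F j)) = algebraMap O S a * δ j := by
        rw [Finset.sum_eq_single j]
        · rw [hφ, hFd, if_pos rfl, AlgHom.commutes, mul_comm]
        · intro i _ hij
          rw [hφ, hFd, if_neg hij, map_zero, mul_zero]
        · intro hj; exact absurd (Finset.mem_univ j) hj
      rw [h2, sub_zero, zero_sub] at h1
      rw [Ideal.neg_mem_iff, Ideal.mem_span_singleton_mul] at h1
      obtain ⟨z, hz, hza⟩ := h1
      have h3 : z = δ j := by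
        have := ha (z - δ j) (by rw [mul_sub, hza, sub_self])
        exact sub_eq_zero.mp this
      rw [← h3]
      exact dpPow_anti hI (by omega) hz
  have hzero : ∀ i, δ i = 0 := by
    intro i
    have : δ i ∈ (⨅ m : ℕ, dpPow hI m) := by
      rw [Ideal.mem_iInf]
      intro m
      exact dpPow_anti hI (Nat.le_succ m) (key m i)
    rw [show (⨅ m : ℕ, dpPow hI m) = ⊥ from htn] at this
    exact this
  ext b
  obtain ⟨g, rfl⟩ := hP.surj b
  rw [← hφ, ← hψ]
  congr 2
  funext i
  rw [hzero, add_zero]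

/-- One step of Newton's method. -/
theorem newton_step (hP : Pres a x) {n : ℕ} (hn : n ≠ 0) (u : σ → S)
    (hu : ∀ g : MvPolynomial σ O, aeval x g = 0 →
      aeval u g ∈ Ideal.span {algebraMap O S a} * dpPow hI n) :
    ∃ u' : σ → S, (∀ i, u' i - u i ∈ dpPow hI n) ∧ ∀ g : MvPolynomial σ O, aeval x g = 0 →
      aeval u' g ∈ Ideal.span {algebraMap O S a} * dpPow hI (n + 1) := by
  obtain ⟨F, hF0, hFd, hFgen⟩ := hP.exF
  have hex : ∀ j, ∃ w ∈ dpPow hI n, algebraMap O S a * w = aeval u (F j) := fun j =>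
    Ideal.mem_span_singleton_mul.mp (hu (F j) (hF0 j))
  choose w hw hwF using hex
  set 𝔡 := Ideal.span {algebraMap O S a} with h𝔡
  have h2n : dpPow hI (2 * n) ≤ dpPow hI (n + 1) := dpPow_anti hI (by omega)
  have h2n' : dpPow hI (2 * n) ≤ dpPow hI n := dpPow_anti hI (by omega)
  have huJ : ∀ g : MvPolynomial σ O, aeval x g = 0 → aeval u g ∈ 𝔡 := fun g hg =>
    (Ideal.mul_le_left : 𝔡 * dpPow hI n ≤ 𝔡) (hu g hg)
  set u' : σ → S := fun i => u i + (- w i) with hu'
  have hT : ∀ g : MvPolynomial σ O, aeval x g = 0 →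
      aeval u' g - aeval u g - ∑ i, (- w i) * aeval u (pderiv i g) ∈ 𝔡 * dpPow hI (2 * n) :=
    fun g hg => taylor' hI hP huJ hn (h := fun i => - w i) (fun i => (dpPow hI n).neg_mem (hw i)) hg
  clear_value u'
  have hA : ∀ g : MvPolynomial σ O, aeval x g = 0 → aeval u' g ∈ 𝔡 * dpPow hI n := by
    intro g hg
    have h1 := Ideal.mul_mono_right (I := 𝔡) h2n' (hT g hg)
    have h2 : ∑ i, (- w i) * aeval u (pderiv i g) ∈ 𝔡 * dpPow hI n := by
      refine Ideal.sum_mem _ fun i _ => ?_
      rw [mul_comm (- w i)]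
      obtain ⟨c, hc⟩ := hP.deriv g hg i
      exact Ideal.mul_mem_mul (aeval_dif huJ (mem_dif hP hc)) ((dpPow hI n).neg_mem (hw i))
    have h3 := Ideal.add_mem _ (Ideal.add_mem _ h1 h2) (hu g hg)
    have h4 : aeval u' g - aeval u g - ∑ i, (- w i) * aeval u (pderiv i g) +
        ∑ i, (- w i) * aeval u (pderiv i g) + aeval u g = aeval u' g := by ring
    rwa [h4] at h3
  have hB : ∀ j, aeval u' (F j) ∈ 𝔡 * dpPow hI (2 * n) := by
    intro j
    have h1 := hT (F j) (hF0 j)
    have h2 : ∀ i, aeval u (pderiv i (F j)) - (if i = j then algebraMap O S a else 0) ∈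
        𝔡 * dpPow hI n := by
      intro i
      have h3 : aeval x (pderiv i (F j) - (if i = j then C a else 0)) = 0 := by
        rw [map_sub, hFd]
        split_ifs <;> simp
      have h4 := hu _ h3
      rw [map_sub] at h4
      have h5 : aeval u (if i = j then C a else 0 : MvPolynomial σ O) =
          if i = j then algebraMap O S a else 0 := by
        split_ifs <;> simp
      rwa [h5] at h4
    have h3 : ∑ i, (- w i) * (aeval u (pderiv i (F j)) - (if i = j then algebraMap O S a else 0)) ∈
        𝔡 * dpPow hI (2 * n) := by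
      refine Ideal.sum_mem _ fun i _ => ?_
      have h6 : (aeval u (pderiv i (F j)) - (if i = j then algebraMap O S a else 0)) * (- w i) ∈
          (𝔡 * dpPow hI n) * dpPow hI n :=
        Ideal.mul_mem_mul (h2 i) ((dpPow hI n).neg_mem (hw i))
      rw [mul_comm (- w i)]
      rw [mul_assoc] at h6
      refine Ideal.mul_mono_right ?_ h6
      rw [two_mul]; exact dpPow_mul hI n n
    have h4 := Ideal.add_mem _ h1 h3
    have h5 : ∑ i, (- w i) * (aeval u (pderiv i (F j)) - (if i = j then algebraMap O S a else 0)) =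
        ∑ i, (- w i) * aeval u (pderiv i (F j)) + aeval u (F j) := by
      simp only [mul_sub, Finset.sum_sub_distrib]
      rw [← hwF j, Finset.sum_eq_single (s := Finset.univ)
        (f := fun i => -w i * if i = j then algebraMap O S a else 0) j
        (fun i _ hij => by rw [if_neg hij, mul_zero])
        (fun hj => absurd (Finset.mem_univ j) hj), if_pos rfl]
      ring
    rw [h5] at h4
    have h6 : aeval u' (F j) - aeval u (F j) - ∑ i, (- w i) * aeval u (pderiv i (F j)) +
        (∑ i, (- w i) * aeval u (pderiv i (F j)) + aeval u (F j)) = aeval u' (F j) := by ring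
    rwa [h6] at h4
  refine ⟨u', ?_, ?_⟩
  · intro i
    rw [hu']
    have : u i + -w i - u i = - w i := by ring
    rw [this]
    exact (dpPow hI n).neg_mem (hw i)
  · intro g hg
    refine Ideal.mul_mono_right h2n ?_
    have h1 : Ideal.span (Set.range F) ⊔ (RingHom.ker (aeval x : MvPolynomial σ O →ₐ[O] A)) ^ 2 ≤
        Ideal.comap (aeval u' : MvPolynomial σ O →ₐ[O] S) (𝔡 * dpPow hI (2 * n)) := by
      refine sup_le ?_ ?_
      · rw [Ideal.span_le]
        rintro _ ⟨j, rfl⟩
        exact hB j
      · rw [← Ideal.map_le_iff_le_comap, Ideal.map_pow]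
        have h2 : Ideal.map (aeval u' : MvPolynomial σ O →ₐ[O] S)
            (RingHom.ker (aeval x : MvPolynomial σ O →ₐ[O] A)) ≤ 𝔡 * dpPow hI n := by
          rw [Ideal.map_le_iff_le_comap]
          exact fun g hg => hA g hg
        refine (Ideal.pow_right_mono h2 2).trans ?_
        rw [sq]
        calc 𝔡 * dpPow hI n * (𝔡 * dpPow hI n) = 𝔡 * (𝔡 * (dpPow hI n * dpPow hI n)) := by ring
          _ ≤ 𝔡 * (dpPow hI n * dpPow hI n) := Ideal.mul_mono_right Ideal.mul_le_right
          _ ≤ 𝔡 * dpPow hI (2 * n) := Ideal.mul_mono_right (by rw [two_mul]; exact dpPow_mul hI n n)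
    exact h1 (hFgen g hg)

end

end K956.DP
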