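import Mathlib
import Groth.Agent.Font.K956.DPNewton

/-!
# Lifting points along an ideal with topologically nilpotent divided powers
-/

set_option autoImplicit false
set_option linter.unusedSectionVars false

open W4c1noabschz1 Finset MvPolynomial IsLocalRing

namespace K956.DP

variable {O A S σ : Type*} [CommRing O] [CommRing A] [CommRing S] [Algebra O A] [Algebra O S]
  [Fintype σ] [DecidableEq σ] {a : O} {x : σ → A}

theorem aeval_sub_mem {J : Ideal S} {u v : σ → S} (h : ∀ i, u i - v i ∈ J)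
    (g : MvPolynomial σ O) : aeval u g - aeval v g ∈ J := by
  rw [← Ideal.Quotient.eq]
  have h1 : ∀ w : σ → S, Ideal.Quotient.mk J (aeval w g) =
      aeval (fun i => Ideal.Quotient.mk J (w i)) g := by
    intro w
    exact MvPolynomial.comp_aeval_apply w (Ideal.Quotient.mkₐ O J) g
  rw [h1, h1]
  congr 2
  funext i
  exact Ideal.Quotient.eq.mpr (h i)

variable {I : Ideal S} (hI : DividedPowers I)

theorem exists_lift [IsNoetherianRing O] [IsLocalRing O] [IsAdicComplete (maximalIdeal O) O]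
    [Module.Finite O S] (hP : Pres a x) (htn : IsDPTopNilpotent hI) {𝔡 : Ideal S}
    (h𝔡 : 𝔡 = Ideal.span {algebraMap O S a})
    (ψ : A →ₐ[O] S ⧸ (𝔡 * I)) :
    ∃ χ : A →ₐ[O] S, ∀ (b : A) (s : S), Ideal.Quotient.mk _ s = ψ b → χ b - s ∈ I := by
  classical
  have hex : ∀ i, ∃ s : S, Ideal.Quotient.mk (𝔡 * I) s = ψ (x i) := fun i =>
    Ideal.Quotient.mk_surjective _
  choose u₀ hu₀ using hex
  have hmk : ∀ g : MvPolynomial σ O, Ideal.Quotient.mk (𝔡 * I) (aeval u₀ g) = ψ (aeval x g) := by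
    intro g
    have h1 : Ideal.Quotient.mk (𝔡 * I) (aeval u₀ g) =
        aeval (fun i => Ideal.Quotient.mk (𝔡 * I) (u₀ i)) g :=
      MvPolynomial.comp_aeval_apply u₀ (Ideal.Quotient.mkₐ O (𝔡 * I)) g
    have h2 : ψ (aeval x g) = aeval (fun i => ψ (x i)) g := MvPolynomial.comp_aeval_apply x ψ g
    rw [h1, h2]
    congr 2
    funext i
    exact hu₀ i
  let Q : ℕ → Type _ := fun n => {u : σ → S // ∀ g : MvPolynomial σ O, aeval x g = 0 →
    aeval u g ∈ 𝔡 * dpPow hI (n + 1)}
  have hstep : ∀ (n : ℕ) (q : Q n), ∃ q' : Q (n + 1), ∀ i, q'.1 i - q.1 i ∈ dpPow hI (n + 1) := by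
    intro n q
    obtain ⟨u', h1, h2⟩ := newton_step hI hP (Nat.succ_ne_zero n) q.1
      (fun g hg => by rw [← h𝔡]; exact q.2 g hg)
    exact ⟨⟨u', fun g hg => by rw [h𝔡]; exact h2 g hg⟩, h1⟩
  choose step hstep' using hstep
  have h0 : ∀ g : MvPolynomial σ O, aeval x g = 0 → aeval u₀ g ∈ 𝔡 * dpPow hI (0 + 1) := by
    intro g hg
    rw [zero_add, dpPow_one, ← Ideal.Quotient.eq_zero_iff_mem, hmk, hg, map_zero]
  let seq : ∀ n, Q n := fun n => Nat.rec ⟨u₀, h0⟩ (fun n q => step n q) n
  have hseq0 : (seq 0).1 = u₀ := rfl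
  have hseq : ∀ n i, (seq (n + 1)).1 i - (seq n).1 i ∈ dpPow hI (n + 1) := fun n i =>
    hstep' n (seq n) i
  have hseq' : ∀ m n, m ≤ n → ∀ i, (seq n).1 i - (seq m).1 i ∈ dpPow hI (m + 1) := by
    intro m n hmn
    induction n, hmn using Nat.le_induction with
    | base => intro i; rw [sub_self]; exact Ideal.zero_mem _
    | succ n hmn ih =>
      intro i
      have h1 := Ideal.add_mem _ (dpPow_anti hI (Nat.succ_le_succ hmn) (hseq n i)) (ih i)
      rwa [sub_add_sub_cancel] at h1
  -- Chevalley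
  let J : ℕ → Submodule O S := fun n => (dpPow hI n).restrictScalars O
  have hJ : Antitone J := fun m n h z hz => dpPow_anti hI h hz
  have hbot : ⨅ n, J n = ⊥ := by
    rw [eq_bot_iff]
    intro z hz
    rw [Submodule.mem_iInf] at hz
    have : z ∈ (⨅ m : ℕ, dpPow hI m) := by
      rw [Ideal.mem_iInf]
      exact fun m => hz m
    rw [show (⨅ m : ℕ, dpPow hI m) = ⊥ from htn] at this
    exact this
  have hcomp : IsAdicComplete (maximalIdeal O) S :=
    Groth.Agent.FormalA.AdicFin.isAdicComplete_of_finite (maximalIdeal O)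
  have hchev := fun k => Groth.Agent.LoccohA.ChevalleyAdic.chevalley_local_module J hJ hbot k
  choose N hN using hchev
  let N' : ℕ → ℕ := fun k => k + (Finset.range (k + 1)).sup N
  have hN'mono : Monotone N' := by
    intro k l hkl
    exact Nat.add_le_add hkl (Finset.sup_mono (Finset.range_subset_range.mpr (by omega)))
  have hN'N : ∀ k, N k ≤ N' k := fun k =>
    (Finset.le_sup (f := N) (Finset.mem_range.mpr (Nat.lt_succ_self k))).trans (Nat.le_add_left _ _)
  have hN'k : ∀ k, k ≤ N' k := fun k => Nat.le_add_right _ _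
  have hlim : ∀ i, ∃ L : S, ∀ k, (seq (N' k)).1 i ≡ L [SMOD (maximalIdeal O ^ k • (⊤ : Submodule O S))] := by
    intro i
    apply IsPrecomplete.prec'
    intro k l hkl
    rw [SModEq.comm, SModEq.sub_mem]
    have h1 := hseq' (N' k) (N' l) (hN'mono hkl) i
    exact hN k (dpPow_anti hI ((hN'N k).trans (Nat.le_succ _)) h1)
  choose L hL using hlim
  have hLseq : ∀ n i, L i - (seq n).1 i ∈ dpPow hI (n + 1) := by
    intro n i
    have h1 := Groth.Agent.LoccohA.ChevalleyAdic.mem_of_forall_mem_sup_pow (maximalIdeal O)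
      (IsLocalRing.maximalIdeal_le_jacobson _) (J (n + 1)) (L i - (seq n).1 i) (by
        intro j
        have h2 := (hL i (max j n)).symm
        rw [SModEq.sub_mem] at h2
        have h3 := hseq' n (N' (max j n)) ((le_max_right j n).trans (hN'k _)) i
        have h4 : L i - (seq n).1 i = ((seq (N' (max j n))).1 i - (seq n).1 i) +
            (L i - (seq (N' (max j n))).1 i) := by ring
        rw [h4]
        refine Submodule.add_mem_sup h3 ?_
        exact Submodule.smul_mono_left (Ideal.pow_le_pow_right (le_max_left j n)) h2)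
    exact h1
  have hLker : ∀ g : MvPolynomial σ O, aeval x g = 0 → aeval L g = 0 := by
    intro g hg
    have h1 : aeval L g ∈ (⨅ m : ℕ, dpPow hI m) := by
      rw [Ideal.mem_iInf]
      intro n
      have h2 := aeval_sub_mem (fun i => hLseq n i) g
      have h3 := (Ideal.mul_le_right : 𝔡 * dpPow hI (n + 1) ≤ dpPow hI (n + 1)) ((seq n).2 g hg)
      have h4 := Ideal.add_mem _ h2 h3
      rw [sub_add_cancel] at h4
      exact dpPow_anti hI (Nat.le_succ n) h4
    rw [show (⨅ m : ℕ, dpPow hI m) = ⊥ from htn] at h1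
    exact h1
  let e := Ideal.quotientKerAlgEquivOfSurjective hP.surj
  let χ : A →ₐ[O] S := (Ideal.Quotient.liftₐ
    (RingHom.ker (aeval x : MvPolynomial σ O →ₐ[O] A)) (aeval L) (fun g hg => hLker g hg)).comp
    e.symm.toAlgHom
  have hχ : ∀ g : MvPolynomial σ O, χ (aeval x g) = aeval L g := by
    intro g
    have h1 : e.symm (aeval x g) = Ideal.Quotient.mk _ g := by
      rw [AlgEquiv.symm_apply_eq]
      rfl
    change Ideal.Quotient.liftₐ _ (aeval L) (fun g hg => hLker g hg) (e.symm (aeval x g)) = _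
    rw [h1]
    rfl
  refine ⟨χ, fun b s hs => ?_⟩
  obtain ⟨g, rfl⟩ := hP.surj b
  rw [hχ]
  have h1 : aeval L g - aeval u₀ g ∈ I := by
    have := aeval_sub_mem (u := L) (v := u₀) (J := dpPow hI 1) (fun i => hLseq 0 i) g
    rwa [dpPow_one] at this
  have h2 : aeval u₀ g - s ∈ 𝔡 * I := by
    rw [← Ideal.Quotient.eq, hmk, hs]
  have h3 := I.add_mem h1 ((Ideal.mul_le_right : 𝔡 * I ≤ I) h2)
  rwa [sub_add_sub_cancel] at h3

end K956.DP
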