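import Mathlib

/-!
# Jacobian relations and Kähler differentials
-/

set_option autoImplicit false
set_option linter.unusedSectionVars false

open Finset

namespace K956.Jac

section general

variable {O R A ι : Type*} [CommRing O] [CommRing R] [CommRing A] [Algebra O R] [Algebra O A]
  (q : R →ₐ[O] A) (D : ι → Derivation O R R)

/-- The submodule of gradients of relations. -/
def gradRel (hq : Function.Surjective q) : Submodule A (ι → A) where
  carrier := {v | ∃ g, q g = 0 ∧ ∀ i, q (D i g) = v i}
  add_mem' := by
    rintro v w ⟨g, hg, hgv⟩ ⟨h, hh, hhw⟩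
    exact ⟨g + h, by rw [map_add, hg, hh, add_zero], fun i => by
      rw [map_add, map_add, hgv, hhw]; rfl⟩
  zero_mem' := ⟨0, map_zero q, fun i => by rw [map_zero, map_zero]; rfl⟩
  smul_mem' := by
    rintro c v ⟨g, hg, hgv⟩
    obtain ⟨c, rfl⟩ := hq c
    refine ⟨c * g, by rw [map_mul, hg, mul_zero], fun i => ?_⟩
    rw [Derivation.leibniz, map_add, smul_eq_mul, smul_eq_mul, map_mul, map_mul, hg, zero_mul,
      add_zero, hgv]
    rfl

theorem mem_gradRel {hq : Function.Surjective q} {v : ι → A} :
    v ∈ gradRel q D hq ↔ ∃ g, q g = 0 ∧ ∀ i, q (D i g) = v i := Iff.rfl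

/-- The gradient as a derivation of `A`. -/
theorem exists_derivation (hq : Function.Surjective q) :
    ∃ δ : Derivation O A ((ι → A) ⧸ gradRel q D hq), ∀ h : R,
      δ (q h) = Submodule.Quotient.mk (fun i => q (D i h)) := by
  let N := gradRel q D hq
  let δ₀ : R → (ι → A) ⧸ N := fun h => Submodule.Quotient.mk (fun i => q (D i h))
  have hwd : ∀ h h' : R, q h = q h' → δ₀ h = δ₀ h' := by
    intro h h' hh
    refine (Submodule.Quotient.eq N).mpr ⟨h - h', by rw [map_sub, hh, sub_self], fun i => ?_⟩
    rw [map_sub, map_sub]; rfl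
  let s : A → R := Function.surjInv hq
  have hs : ∀ b, q (s b) = b := Function.surjInv_eq hq
  let L : A →ₗ[O] (ι → A) ⧸ N :=
    { toFun := fun b => δ₀ (s b)
      map_add' := fun b c => by
        rw [hwd (s (b + c)) (s b + s c) (by rw [map_add, hs, hs, hs])]
        change Submodule.Quotient.mk (fun i => q (D i (s b + s c))) = _
        have : (fun i => q (D i (s b + s c))) = (fun i => q (D i (s b))) + fun i => q (D i (s c)) := by
          funext i; simp
        rw [this, Submodule.Quotient.mk_add]
      map_smul' := fun r b => by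
        rw [hwd (s (r • b)) (r • s b) (by rw [map_smul, hs, hs])]
        change Submodule.Quotient.mk (fun i => q (D i (r • s b))) = _
        have : (fun i => q (D i (r • s b))) = r • (fun i => q (D i (s b))) := by
          funext i; simp
        rw [this, Submodule.Quotient.mk_smul]
        rfl }
  let δ : Derivation O A ((ι → A) ⧸ N) := Derivation.mk' L (fun b c => by
    change δ₀ (s (b * c)) = b • δ₀ (s c) + c • δ₀ (s b)
    rw [hwd (s (b * c)) (s b * s c) (by rw [map_mul, hs, hs, hs])]
    change Submodule.Quotient.mk (fun i => q (D i (s b * s c))) = _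
    have : (fun i => q (D i (s b * s c))) =
        b • (fun i => q (D i (s c))) + c • fun i => q (D i (s b)) := by
      funext i
      simp only [Derivation.leibniz, smul_eq_mul, map_add, map_mul, hs, Pi.add_apply,
        Pi.smul_apply]
    rw [this, Submodule.Quotient.mk_add, Submodule.Quotient.mk_smul, Submodule.Quotient.mk_smul])
  refine ⟨δ, fun h => ?_⟩
  exact hwd (s (q h)) h (hs _)

/-- A relation in the Kähler differentials comes from a relation in `A`. -/
theorem exists_rel (hq : Function.Surjective q) {a : O} {z : R}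
    (h : a • KaehlerDifferential.D O A (q z) = 0) :
    ∃ g, q g = 0 ∧ ∀ i, q (D i g) = algebraMap O A a * q (D i z) := by
  obtain ⟨δ, hδ⟩ := exists_derivation q D hq
  have h1 : δ.liftKaehlerDifferential (KaehlerDifferential.D O A (q z)) = δ (q z) :=
    Derivation.liftKaehlerDifferential_comp_D δ (q z)
  have h2 : algebraMap O A a • δ (q z) = 0 := by
    rw [← h1, ← map_smul, algebraMap_smul, h, map_zero]
  rw [hδ, ← Submodule.Quotient.mk_smul, Submodule.Quotient.mk_eq_zero] at h2
  exact h2

end general

section matrix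

variable {O R A : Type*} [CommRing O] [CommRing R] [CommRing A] [Algebra O R] [Algebra O A]
  (q : R →ₐ[O] A) {ι : Type*} [Fintype ι] [DecidableEq ι] (D : ι → Derivation O R R) (X : ι → R)

/-- With as many relations as variables, and `Ω` killed by a nonzerodivisor, an element of the ideal
of relations with vanishing gradient lies in the square of this ideal. -/
theorem mem_sq (hq : Function.Surjective q) (hX : ∀ i j, q (D i (X j)) = if i = j then 1 else 0)
    (f : ι → R) (hf : RingHom.ker q = Ideal.span (Set.range f)) {a : O}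
    (ha : ∀ b : A, algebraMap O A a * b = 0 → b = 0)
    (hΩ : ∀ b : A, a • KaehlerDifferential.D O A b = 0) {h : R} (hh : q h = 0)
    (hD : ∀ i, q (D i h) = 0) : h ∈ RingHom.ker q ^ 2 := by
  have hker : ∀ g, q g = 0 → ∃ c : ι → R, ∑ k, c k * f k = g := by
    intro g hg
    rw [← Ideal.mem_span_range_iff_exists_fun, ← hf]
    exact hg
  have hqf : ∀ k, q (f k) = 0 := by
    intro k
    have : f k ∈ RingHom.ker q := by
      rw [hf]; exact Ideal.subset_span ⟨k, rfl⟩
    exact this
  have hgrad : ∀ (c : ι → R) (i : ι), q (D i (∑ k, c k * f k)) = ∑ k, q (c k) * q (D i (f k)) := by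
    intro c i
    rw [map_sum, map_sum]
    refine Finset.sum_congr rfl fun k _ => ?_
    rw [Derivation.leibniz, map_add, smul_eq_mul, smul_eq_mul, map_mul, map_mul, hqf, zero_mul,
      add_zero]
  have hG : ∀ j, ∃ g, q g = 0 ∧ ∀ i, q (D i g) = algebraMap O A a * q (D i (X j)) := fun j =>
    exists_rel q D hq (hΩ _)
  choose G hG0 hGD using hG
  have hn := fun j => hker (G j) (hG0 j)
  choose n hn using hn
  let Nm : Matrix ι ι A := Matrix.of fun j k => q (n j k)
  let M : Matrix ι ι A := Matrix.of fun k i => q (D i (f k))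
  have hNM : Nm * M = algebraMap O A a • (1 : Matrix ι ι A) := by
    ext j i
    rw [Matrix.mul_apply, Matrix.smul_apply, Matrix.one_apply]
    have h1 := hgrad (n j) i
    rw [hn, hGD, hX] at h1
    change ∑ k, q (n j k) * q (D i (f k)) = _
    rw [← h1, smul_eq_mul]
    simp only [eq_comm]
  obtain ⟨c, hc⟩ := hker h hh
  have hcM : Matrix.vecMul (fun k => q (c k)) M = 0 := by
    funext i
    have h1 := hgrad c i
    rw [hc, hD] at h1
    exact h1.symm
  have hdet : ∀ k, M.det * q (c k) = 0 := by
    intro k
    have h1 : Matrix.vecMul (Matrix.vecMul (fun k => q (c k)) M) M.adjugate = 0 := by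
      rw [hcM, Matrix.zero_vecMul]
    rw [Matrix.vecMul_vecMul, Matrix.mul_adjugate] at h1
    have h2 := congrFun h1 k
    rw [Matrix.vecMul_smul, Matrix.vecMul_one] at h2
    exact h2
  have hdet2 : Nm.det * M.det = algebraMap O A a ^ Fintype.card ι := by
    rw [← Matrix.det_mul, hNM, Matrix.det_smul, Matrix.det_one, mul_one]
  have hpow : ∀ (m : ℕ) (b : A), algebraMap O A a ^ m * b = 0 → b = 0 := by
    intro m
    induction m with
    | zero => intro b hb; simpa using hb
    | succ m ih =>
      intro b hb
      rw [pow_succ, mul_assoc] at hb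
      exact ha _ (ih _ hb)
  have hc0 : ∀ k, q (c k) = 0 := by
    intro k
    apply hpow (Fintype.card ι)
    rw [← hdet2, mul_assoc, hdet, mul_zero]
  rw [← hc, sq]
  exact Ideal.sum_mem _ fun k _ => Ideal.mul_mem_mul (hc0 k) (hqf k)

end matrix

end K956.Jac
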