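import Mathlib
import Groth.Agent.Font.K956.Jac
import Groth.Agent.Font.K956.Bridge
import Groth.Agent.Ega41.PowEval
import Groth.Agent.Ega41.MvPS

/-!
# Comparing a power series presentation with a polynomial presentation
-/

set_option autoImplicit false
set_option linter.unusedSectionVars false

open Finset IsLocalRing

namespace K956.Jac

section taylor1

variable {O B σ : Type*} [CommRing O] [CommRing B] [Algebra O B] [Fintype σ]

theorem derivation_aeval (D : Derivation O B B) (l : σ → B) (g : MvPolynomial σ O) :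
    D (MvPolynomial.aeval l g) = ∑ i, MvPolynomial.aeval l (MvPolynomial.pderiv i g) * D (l i) := by
  classical
  induction g using MvPolynomial.induction_on with
  | C c => simp
  | add p q hp hq =>
    rw [map_add, map_add, hp, hq, ← Finset.sum_add_distrib]
    refine Finset.sum_congr rfl fun i _ => ?_
    rw [map_add, map_add, add_mul]
  | mul_X p k ih =>
    rw [map_mul, MvPolynomial.aeval_X, Derivation.leibniz, ih, smul_eq_mul, smul_eq_mul,
      Finset.mul_sum]
    have h1 : ∀ i, MvPolynomial.aeval l (MvPolynomial.pderiv i (p * MvPolynomial.X k)) * D (l i) =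
        (if i = k then MvPolynomial.aeval l p * D (l k) else 0) +
          l k * (MvPolynomial.aeval l (MvPolynomial.pderiv i p) * D (l i)) := by
      intro i
      rw [Derivation.leibniz, map_add, smul_eq_mul, smul_eq_mul, map_mul, map_mul,
        MvPolynomial.aeval_X, MvPolynomial.pderiv_X]
      rcases eq_or_ne i k with h | h
      · subst h; simp; ring
      · rw [Pi.single_eq_of_ne (Ne.symm h), if_neg h]; simp; ring
    simp only [h1]
    rw [Finset.sum_add_distrib, Finset.sum_ite_eq' Finset.univ k, if_pos (Finset.mem_univ k)]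

theorem aeval_first_order {K : Ideal B} (hK : K * K = ⊥) (E ρ : MvPolynomial σ O →ₐ[O] B)
    (h : ∀ i, E (MvPolynomial.X i) - ρ (MvPolynomial.X i) ∈ K) (g : MvPolynomial σ O) :
    E g = ρ g + ∑ i, ρ (MvPolynomial.pderiv i g) * (E (MvPolynomial.X i) - ρ (MvPolynomial.X i)) := by
  classical
  have hKK : ∀ a ∈ K, ∀ b ∈ K, a * b = 0 := by
    intro a ha b hb
    have := Ideal.mul_mem_mul ha hb
    rw [hK] at this
    exact this
  induction g using MvPolynomial.induction_on with
  | C c => simp [MvPolynomial.algHom_C]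
  | add p q hp hq =>
    rw [map_add, map_add, hp, hq]
    simp only [map_add, add_mul, Finset.sum_add_distrib]
    ring
  | mul_X p k ih =>
    have h1 : ∀ i, ρ (MvPolynomial.pderiv i (p * MvPolynomial.X k)) *
        (E (MvPolynomial.X i) - ρ (MvPolynomial.X i)) =
        (if i = k then ρ p * (E (MvPolynomial.X k) - ρ (MvPolynomial.X k)) else 0) +
          ρ (MvPolynomial.X k) * (ρ (MvPolynomial.pderiv i p) *
            (E (MvPolynomial.X i) - ρ (MvPolynomial.X i))) := by
      intro i
      rw [Derivation.leibniz, map_add, smul_eq_mul, smul_eq_mul, map_mul, map_mul,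
        MvPolynomial.pderiv_X]
      rcases eq_or_ne i k with h | h
      · subst h; simp; ring
      · rw [Pi.single_eq_of_ne (Ne.symm h), if_neg h]; simp; ring
    simp only [h1]
    rw [Finset.sum_add_distrib, Finset.sum_ite_eq' Finset.univ k, if_pos (Finset.mem_univ k),
      ← Finset.mul_sum, map_mul, map_mul, ih]
    have h2 : (∑ i, ρ (MvPolynomial.pderiv i p) *
        (E (MvPolynomial.X i) - ρ (MvPolynomial.X i))) *
          (E (MvPolynomial.X k) - ρ (MvPolynomial.X k)) = 0 :=
      hKK _ (K.sum_mem fun i _ => K.mul_mem_left _ (h i)) _ (h k)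
    linear_combination h2

end taylor1

section main

variable {O A : Type*} [CommRing O] [IsNoetherianRing O] [IsLocalRing O]
  [IsAdicComplete (maximalIdeal O) O] [CommRing A] [Algebra O A] [Module.Finite O A]
  [IsLocalRing A]

variable (O A) in
theorem map_le : (maximalIdeal O).map (algebraMap O A) ≤ maximalIdeal A := by
  have h1 : (maximalIdeal O).map (algebraMap O A) ≠ ⊤ := by
    intro h
    have h2 : (maximalIdeal O) • (⊤ : Submodule O A) = ⊤ := by
      rw [Ideal.smul_top_eq_map, h]; rfl
    have h3 : (⊤ : Submodule O A) = ⊥ :=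
      Submodule.eq_bot_of_le_smul_of_le_jacobson_bot (maximalIdeal O) ⊤ Module.Finite.fg_top
        h2.ge (IsLocalRing.maximalIdeal_le_jacobson _)
    have h4 : (1 : A) ∈ (⊥ : Submodule O A) := by rw [← h3]; trivial
    exact one_ne_zero h4
  exact IsLocalRing.le_maximalIdeal h1

variable (O A) in
theorem exists_pow_le : ∃ N, maximalIdeal A ^ N ≤ (maximalIdeal O).map (algebraMap O A) := by
  have : IsArtinianRing (A ⧸ (maximalIdeal O).map (algebraMap O A)) := by
    let _ : Field (O ⧸ maximalIdeal O) := Ideal.Quotient.field _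
    have h1 : Module.Finite (O ⧸ maximalIdeal O) (A ⧸ (maximalIdeal O).map (algebraMap O A)) :=
      Module.Finite.of_restrictScalars_finite O _ _
    exact IsArtinianRing.of_finite (O ⧸ maximalIdeal O) _
  exact IsLocalRing.exists_maximalIdeal_pow_le_of_isArtinianRing_quotient _

/-- Completeness of a square-zero extension for the preimage of the maximal ideal. -/
theorem isAdicComplete_comap {B : Type*} [CommRing B] [Algebra O B] [Module.Finite O B]
    (π₁ : B →ₐ[O] A) (hπ : Function.Surjective π₁) (hK : RingHom.ker π₁ * RingHom.ker π₁ = ⊥) :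
    IsAdicComplete ((maximalIdeal A).comap π₁) B := by
  obtain ⟨N, hN⟩ := exists_pow_le O A
  have hc := Groth.Agent.Ega3B.IdemLift.isAdicComplete_map O B (maximalIdeal O)
  refine K956.FVal.isAdicComplete_of_pow_le
    (I := (maximalIdeal O).map (algebraMap O B)) (k := N * 2) ?_ ?_
  · rw [Ideal.map_le_iff_le_comap]
    intro r hr
    change π₁ (algebraMap O B r) ∈ maximalIdeal A
    rw [AlgHom.commutes]
    exact map_le O A (Ideal.mem_map_of_mem _ hr)
  · have h1 : ((maximalIdeal A).comap π₁) ^ N ≤
        (maximalIdeal O).map (algebraMap O B) ⊔ RingHom.ker π₁ := by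
      have h2 : ((maximalIdeal A).comap π₁) ^ N ≤ (maximalIdeal A ^ N).comap π₁ :=
        Ideal.le_comap_pow _ _
      refine h2.trans ((Ideal.comap_mono hN).trans ?_)
      have h3 : (maximalIdeal O).map (algebraMap O A) =
          ((maximalIdeal O).map (algebraMap O B)).map π₁ := by
        change _ = ((maximalIdeal O).map (algebraMap O B)).map (π₁ : B →+* A)
        rw [Ideal.map_map, AlgHom.comp_algebraMap]
      rw [h3]
      rw [Ideal.comap_map_of_surjective π₁ hπ]
      exact le_rfl
    rw [pow_mul]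
    refine (Ideal.pow_right_mono h1 2).trans ?_
    rw [sq, Ideal.sup_mul, Ideal.mul_sup, Ideal.mul_sup, hK]
    refine sup_le (sup_le Ideal.mul_le_left Ideal.mul_le_left) (sup_le Ideal.mul_le_right bot_le)

theorem algHom_ext {m : ℕ} (f g : MvPowerSeries (Fin m) O →ₐ[O] A)
    (hm : ∀ j, f (MvPowerSeries.X j) ∈ maximalIdeal A)
    (h : ∀ j, f (MvPowerSeries.X j) = g (MvPowerSeries.X j)) : f = g := by
  have hpoly : ∀ p : MvPolynomial (Fin m) O,
      f (p : MvPowerSeries (Fin m) O) = g (p : MvPowerSeries (Fin m) O) := by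
    intro p
    have h1 : f.comp (MvPolynomial.coeToMvPowerSeries.algHom O) =
        g.comp (MvPolynomial.coeToMvPowerSeries.algHom O) := by
      apply MvPolynomial.algHom_ext
      intro j
      simp [h j]
    exact DFunLike.congr_fun h1 p
  have hvar : ∀ (f : MvPowerSeries (Fin m) O →ₐ[O] A),
      (∀ j, f (MvPowerSeries.X j) ∈ maximalIdeal A) → ∀ (n : ℕ)
      (p : MvPowerSeries (Fin m) O), p ∈ Groth.Agent.Ega41.MvPS.varIdeal (Fin m) O ^ n →
      f p ∈ maximalIdeal A ^ n := by
    intro f hf n p hp
    have h1 : (Groth.Agent.Ega41.MvPS.varIdeal (Fin m) O).map (f : MvPowerSeries (Fin m) O →+* A) ≤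
        maximalIdeal A := by
      rw [Groth.Agent.Ega41.MvPS.varIdeal, Ideal.map_span, Ideal.span_le]
      rintro _ ⟨_, ⟨j, rfl⟩, rfl⟩
      exact hf j
    have h2 := Ideal.pow_right_mono h1 n
    rw [← Ideal.map_pow] at h2
    exact h2 (Ideal.mem_map_of_mem _ hp)
  ext p
  have hA : IsNoetherianRing A := IsNoetherianRing.of_finite O A
  have hbot := Ideal.iInf_pow_eq_bot_of_isLocalRing (maximalIdeal A)
    (IsLocalRing.maximalIdeal.isMaximal A).ne_top
  have hmem : f p - g p ∈ (⨅ n : ℕ, maximalIdeal A ^ n) := by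
    rw [Ideal.mem_iInf]
    intro n
    have h1 := Groth.Agent.Ega41.MvPS.sub_truncTotal_mem n p
    have h2 := hvar f hm n _ h1
    have h3 := hvar g (fun j => by rw [← h j]; exact hm j) n _ h1
    rw [map_sub] at h2 h3
    have h4 := Ideal.sub_mem _ h2 h3
    rw [hpoly] at h4
    rwa [sub_sub_sub_cancel_right] at h4
  rw [hbot] at hmem
  exact sub_eq_zero.mp hmem

/-- A polynomial relation with vanishing gradient lies in the square of the ideal of relations. -/
theorem mem_ker_sq {m : ℕ} (q : MvPowerSeries (Fin m) O →ₐ[O] A) (hq : Function.Surjective q)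
    (hqm : ∀ j, q (MvPowerSeries.X j) ∈ maximalIdeal A)
    (f : Fin m → MvPowerSeries (Fin m) O) (hf : RingHom.ker q = Ideal.span (Set.range f)) {a : O}
    (ha : ∀ b : A, algebraMap O A a * b = 0 → b = 0)
    (hΩ : ∀ b : A, a • KaehlerDifferential.D O A b = 0)
    {σ : Type*} [Fintype σ] (x : σ → A)
    (hx : Function.Surjective (MvPolynomial.aeval x : MvPolynomial σ O →ₐ[O] A))
    (g : MvPolynomial σ O) (hg : MvPolynomial.aeval x g = 0)
    (hgd : ∀ i, MvPolynomial.aeval x (MvPolynomial.pderiv i g) = 0) :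
    g ∈ (RingHom.ker (MvPolynomial.aeval x : MvPolynomial σ O →ₐ[O] A)) ^ 2 := by
  classical
  set J : Ideal (MvPolynomial σ O) := RingHom.ker (MvPolynomial.aeval x : MvPolynomial σ O →ₐ[O] A)
    with hJ
  have hlx : ∀ i, ∃ l, q l = x i := fun i => hq (x i)
  choose l hl using hlx
  have hql : ∀ p : MvPolynomial σ O, q (MvPolynomial.aeval l p) = MvPolynomial.aeval x p := by
    intro p
    rw [show q (MvPolynomial.aeval l p) = MvPolynomial.aeval (fun i => q (l i)) p from
      MvPolynomial.comp_aeval_apply l q p]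
    congr 2
    funext i
    exact hl i
  -- the image of `g` lies in the square of the ideal of relations
  have h1 : MvPolynomial.aeval l g ∈ RingHom.ker q ^ 2 := by
    refine mem_sq q (fun i : Fin m => MvPowerSeries.pderiv O i) MvPowerSeries.X hq ?_ f hf ha hΩ ?_ ?_
    · intro i j
      rw [MvPowerSeries.pderiv_X]
      rcases eq_or_ne i j with h | h
      · subst h; simp
      · rw [if_neg h, Pi.single_eq_of_ne (Ne.symm h), map_zero]
    · rw [hql, hg]
    · intro j
      rw [derivation_aeval, map_sum]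
      refine Finset.sum_eq_zero fun i _ => ?_
      rw [map_mul, hql, hgd, zero_mul]
  -- the square zero extension
  let B := MvPolynomial σ O ⧸ J ^ 2
  let π₁ : B →ₐ[O] A := Ideal.Quotient.liftₐ (J ^ 2) (MvPolynomial.aeval x)
    (fun p hp => Ideal.pow_le_self two_ne_zero hp)
  have hπ₁ : ∀ p, π₁ (Ideal.Quotient.mk (J ^ 2) p) = MvPolynomial.aeval x p := fun p => rfl
  have hπs : Function.Surjective π₁ := by
    intro b
    obtain ⟨p, rfl⟩ := hx b
    exact ⟨Ideal.Quotient.mk _ p, rfl⟩
  have hker : RingHom.ker π₁ = J.map (Ideal.Quotient.mk (J ^ 2)) := by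
    apply le_antisymm
    · intro b hb
      obtain ⟨p, rfl⟩ := Ideal.Quotient.mk_surjective b
      exact Ideal.mem_map_of_mem _ hb
    · rw [Ideal.map_le_iff_le_comap]
      exact fun p hp => hp
  have hK : RingHom.ker π₁ * RingHom.ker π₁ = ⊥ := by
    rw [hker, ← Ideal.map_mul, ← sq, Ideal.map_quotient_self]
  have hBfin : Module.Finite O B := by
    refine Module.finite_of_surjective_of_ker_le_nilradical π₁ hπs ?_ ?_
    · intro b hb
      refine ⟨2, ?_⟩
      have := Ideal.mul_mem_mul hb hb
      rw [hK] at this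
      rw [sq b]; exact this
    · exact IsNoetherian.noetherian _
  have hcB := isAdicComplete_comap π₁ hπs hK
  have hy : ∀ j, ∃ y : B, π₁ y = q (MvPowerSeries.X j) := fun j => hπs _
  choose y hy using hy
  have hyn : ∀ j, y j ∈ (maximalIdeal A).comap π₁ := by
    intro j
    change π₁ (y j) ∈ maximalIdeal A
    rw [hy]; exact hqm j
  let μ : MvPowerSeries (Fin m) O →ₐ[O] B :=
    Groth.Agent.Ega41.PowEval.powEval ((maximalIdeal A).comap π₁) y hyn
  have hμX : ∀ j, μ (MvPowerSeries.X j) = y j := fun j =>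
    Groth.Agent.Ega41.PowEval.powEval_X _ y hyn j
  have hμ : π₁.comp μ = q := by
    apply algHom_ext
    · intro j
      rw [AlgHom.comp_apply, hμX, hy]; exact hqm j
    · intro j
      rw [AlgHom.comp_apply, hμX, hy]
  have hμ' : ∀ p, π₁ (μ p) = q p := fun p => DFunLike.congr_fun hμ p
  let E : MvPolynomial σ O →ₐ[O] B := μ.comp (MvPolynomial.aeval l)
  let ρ : MvPolynomial σ O →ₐ[O] B := Ideal.Quotient.mkₐ O (J ^ 2)
  have hEρ : ∀ i, E (MvPolynomial.X i) - ρ (MvPolynomial.X i) ∈ RingHom.ker π₁ := by
    intro i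
    rw [RingHom.mem_ker, map_sub]
    have e1 : π₁ (E (MvPolynomial.X i)) = x i := by
      change π₁ (μ (MvPolynomial.aeval l (MvPolynomial.X i))) = _
      rw [hμ', MvPolynomial.aeval_X, hl]
    have e2 : π₁ (ρ (MvPolynomial.X i)) = x i := by
      change MvPolynomial.aeval x (MvPolynomial.X i) = _
      rw [MvPolynomial.aeval_X]
    rw [e1, e2, sub_self]
  have h2 := aeval_first_order hK E ρ hEρ g
  have h3 : ∑ i, ρ (MvPolynomial.pderiv i g) * (E (MvPolynomial.X i) - ρ (MvPolynomial.X i)) = 0 := by
    refine Finset.sum_eq_zero fun i _ => ?_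
    have h4 : ρ (MvPolynomial.pderiv i g) ∈ RingHom.ker π₁ := hgd i
    have := Ideal.mul_mem_mul h4 (hEρ i)
    rw [hK] at this
    exact this
  have h5 : E g = 0 := by
    have h6 : (RingHom.ker q).map μ ≤ RingHom.ker π₁ := by
      rw [Ideal.map_le_iff_le_comap]
      intro p hp
      change π₁ (μ p) = 0
      rw [hμ']; exact hp
    have h7 : μ (MvPolynomial.aeval l g) ∈ ((RingHom.ker q) ^ 2).map μ := Ideal.mem_map_of_mem _ h1
    rw [Ideal.map_pow] at h7
    have h8 := Ideal.pow_right_mono h6 2 h7
    rw [sq (RingHom.ker π₁), hK] at h8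
    exact h8
  rw [h3, add_zero, h5] at h2
  exact Ideal.Quotient.eq_zero_iff_mem.mp h2.symm

end main

end K956.Jac
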