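import Mathlib
import Groth.Agent.Font.K956.Mu
import Groth.Agent.Font.K956.DPNewton

/-!
# Generators adapted to a free module of differentials over `A / a`
-/

set_option autoImplicit false
set_option linter.unusedSectionVars false

universe u v

open Finset IsLocalRing

namespace K956.Jac

section surj

variable {O A : Type*} [CommRing O] [CommRing A] [Algebra O A] [Module.Finite O A]
  [IsLocalRing A]

/-- Elements whose differentials generate `Ω` generate the algebra. -/
theorem aeval_surjective (hres : ∀ b : A, ∃ c : O, b - algebraMap O A c ∈ maximalIdeal A)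
    {σ : Type*} (x : σ → A)
    (hx : Submodule.span A (Set.range fun i => KaehlerDifferential.D O A (x i)) = ⊤) :
    Function.Surjective (MvPolynomial.aeval x : MvPolynomial σ O →ₐ[O] A) := by
  let B : Subalgebra O A := (MvPolynomial.aeval x : MvPolynomial σ O →ₐ[O] A).range
  have hxB : ∀ i, x i ∈ B := fun i => ⟨MvPolynomial.X i, by simp⟩
  have hfinB : Module.Finite B A := Module.Finite.of_restrictScalars_finite O B A
  have hfaith : FaithfulSMul B A := by
    rw [faithfulSMul_iff_algebraMap_injective]
    exact Subtype.val_injective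
  have hlh : IsLocalHom (algebraMap B A) := inferInstance
  have hBloc : IsLocalRing B := RingHom.domain_isLocalRing (algebraMap B A)
  have hunr : Algebra.FormallyUnramified B A := by
    constructor
    have hs : Function.Surjective (KaehlerDifferential.map O B A A) :=
      KaehlerDifferential.map_surjective O B A
    have h1 : LinearMap.range (KaehlerDifferential.map O B A A) = ⊥ := by
      rw [LinearMap.range_eq_map]
      have h2 : (⊤ : Submodule A (Ω[A⁄O])) =
        Submodule.span A (Set.range fun i => KaehlerDifferential.D O A (x i)) := hx.symm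
      rw [eq_bot_iff]
      rintro _ ⟨w, -, rfl⟩
      have hw : w ∈ Submodule.span A (Set.range fun i => KaehlerDifferential.D O A (x i)) := by
        rw [hx]; trivial
      refine Submodule.span_induction (p := fun w _ => KaehlerDifferential.map O B A A w ∈
        (⊥ : Submodule A (Ω[A⁄B]))) ?_ ?_ ?_ ?_ hw
      · rintro _ ⟨i, rfl⟩
        change KaehlerDifferential.map O B A A (KaehlerDifferential.D O A (x i)) ∈ _
        rw [KaehlerDifferential.map_D, Submodule.mem_bot]
        exact Derivation.map_algebraMap _ (⟨x i, hxB i⟩ : B)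
      · rw [map_zero]; exact Submodule.zero_mem _
      · intro a b _ _ ha hb; rw [map_add]; exact Submodule.add_mem _ ha hb
      · intro a b _ hb; rw [map_smul]; exact Submodule.smul_mem _ _ hb
    refine ⟨fun a b => ?_⟩
    obtain ⟨a, rfl⟩ := hs a
    obtain ⟨b, rfl⟩ := hs b
    have ha : KaehlerDifferential.map O B A A a ∈ (⊥ : Submodule A (Ω[A⁄B])) := by
      rw [← h1]; exact ⟨a, rfl⟩
    have hb : KaehlerDifferential.map O B A A b ∈ (⊥ : Submodule A (Ω[A⁄B])) := by
      rw [← h1]; exact ⟨b, rfl⟩
    rw [(Submodule.mem_bot A).mp ha, (Submodule.mem_bot A).mp hb]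
  have hmax : (maximalIdeal B).map (algebraMap B A) = maximalIdeal A :=
    Algebra.FormallyUnramified.map_maximalIdeal
  have hle : (⊤ : Submodule B A) ≤ LinearMap.range (Algebra.linearMap B A) := by
    refine Submodule.le_of_le_smul_of_le_jacobson_bot (I := maximalIdeal B) Module.Finite.fg_top
      (IsLocalRing.maximalIdeal_le_jacobson _) ?_
    intro b _
    obtain ⟨c, hc⟩ := hres b
    have h3 : b = algebraMap B A (algebraMap O B c) + (b - algebraMap O A c) := by
      have : algebraMap B A (algebraMap O B c) = algebraMap O A c := rfl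
      rw [this]; ring
    rw [h3]
    refine Submodule.add_mem_sup ⟨algebraMap O B c, rfl⟩ ?_
    rw [Ideal.smul_top_eq_map, hmax]
    exact hc
  intro b
  obtain ⟨⟨c, p, hp⟩, hc⟩ := hle (Submodule.mem_top (x := b))
  exact ⟨p, hp.trans hc⟩

end surj

section gen

variable {O : Type u} {A : Type v} [CommRing O] [CommRing A] [Algebra O A] [Module.Finite O A]
  [IsLocalRing A]

/-- Elements whose differentials form a basis of `Ω` over `A / a`. -/
theorem exists_gen {a : O} {r : ℕ}
    (e : KaehlerDifferential O A ≃ₗ[A] (Fin r → A ⧸ Ideal.span {algebraMap O A a})) :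
    ∃ (s : ℕ) (x : Fin s → A),
      Submodule.span A (Set.range fun i => KaehlerDifferential.D O A (x i)) = ⊤ ∧
      ∀ c : Fin s → A, ∑ i, c i • KaehlerDifferential.D O A (x i) = 0 →
        ∀ i, ∃ d, c i = algebraMap O A a * d := by
  rcases subsingleton_or_nontrivial (A ⧸ Ideal.span {algebraMap O A a}) with h | h
  · have hsub : Subsingleton (Ω[A⁄O]) := e.toEquiv.subsingleton
    refine ⟨0, Fin.elim0, ?_, fun c _ i => i.elim0⟩
    exact Subsingleton.elim _ _
  · have hloc : IsLocalRing (A ⧸ Ideal.span {algebraMap O A a}) :=
      IsLocalRing.of_surjective' (Ideal.Quotient.mk _) Ideal.Quotient.mk_surjective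
    set B := A ⧸ Ideal.span {algebraMap O A a} with hB
    let v : A → (Fin r → B) := fun b => e (KaehlerDifferential.D O A b)
    have hsurj : Function.Surjective (algebraMap A B) := Ideal.Quotient.mk_surjective
    have hA : Submodule.span A (Set.range v) = ⊤ := by
      have h1 := KaehlerDifferential.span_range_derivation O A
      have h2 := congrArg (Submodule.map e.toLinearMap) h1
      rw [Submodule.map_span, ← Set.range_comp, Submodule.map_top, LinearMap.range_eq_top.mpr
        e.surjective] at h2
      exact h2
    have hBs : Submodule.span B (Set.range v) = ⊤ := by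
      rw [eq_top_iff]
      intro w _
      have h1 : w ∈ Submodule.span A (Set.range v) := by rw [hA]; trivial
      exact Submodule.span_le_restrictScalars A B _ h1
    obtain ⟨κ, α, b, hb⟩ := Module.exists_basis_of_span_of_flat v hBs
    have hκ : Finite κ := Module.Finite.finite_basis b
    obtain ⟨s, ⟨ε⟩⟩ := Finite.exists_equiv_fin κ
    refine ⟨s, fun i => α (ε.symm i), ?_, ?_⟩
    · have h1 : Submodule.span A (Set.range b) = ⊤ := by
        have h2 := Submodule.restrictScalars_span A B hsurj (Set.range b)
        rw [b.span_eq, Submodule.restrictScalars_top] at h2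
        exact h2.symm
      have h3 : Submodule.map e.toLinearMap (Submodule.span A (Set.range fun i =>
          KaehlerDifferential.D O A (α (ε.symm i)))) = ⊤ := by
        rw [Submodule.map_span, ← Set.range_comp, ← h1]
        congr 1
        ext w
        constructor
        · rintro ⟨i, rfl⟩
          exact ⟨ε.symm i, hb _⟩
        · rintro ⟨k, rfl⟩
          refine ⟨ε k, ?_⟩
          change e (KaehlerDifferential.D O A (α (ε.symm (ε k)))) = _
          rw [ε.symm_apply_apply, hb]
      rw [eq_top_iff]
      intro w _
      have h4 : e w ∈ Submodule.map e.toLinearMap (Submodule.span A (Set.range fun i =>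
          KaehlerDifferential.D O A (α (ε.symm i)))) := by rw [h3]; trivial
      obtain ⟨w', hw', hww⟩ := h4
      rwa [← e.injective hww]
    · intro c hc i
      have h1 := congrArg e hc
      rw [map_sum, map_zero] at h1
      have h2 : ∑ i, (Ideal.Quotient.mk (Ideal.span {algebraMap O A a}) (c i) : B) •
          b (ε.symm i) = 0 := by
        rw [← h1]
        refine Finset.sum_congr rfl fun i _ => ?_
        rw [map_smul, hb]
        exact algebraMap_smul B (c i) (v (α (ε.symm i)))
      have hli : LinearIndependent B (fun i : Fin s => b (ε.symm i)) :=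
        b.linearIndependent.comp _ ε.symm.injective
      have h3 := Fintype.linearIndependent_iff.mp hli _ h2 i
      rw [Ideal.Quotient.eq_zero_iff_mem, Ideal.mem_span_singleton'] at h3
      obtain ⟨d, hd⟩ := h3
      exact ⟨d, by rw [← hd, mul_comm]⟩

end gen

section pres

variable {O : Type u} {A : Type v} [CommRing O] [IsNoetherianRing O] [IsLocalRing O]
  [IsAdicComplete (maximalIdeal O) O] [CommRing A] [Algebra O A] [Module.Finite O A]
  [IsLocalRing A]

theorem exists_pres {m : ℕ} (q : MvPowerSeries (Fin m) O →ₐ[O] A) (hq : Function.Surjective q)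
    (hqm : ∀ j, q (MvPowerSeries.X j) ∈ maximalIdeal A)
    (hres : ∀ b : A, ∃ c : O, b - algebraMap O A c ∈ maximalIdeal A)
    (f : Fin m → MvPowerSeries (Fin m) O) (hf : RingHom.ker q = Ideal.span (Set.range f)) {a : O}
    (ha : ∀ b : A, algebraMap O A a * b = 0 → b = 0) {r : ℕ}
    (e : KaehlerDifferential O A ≃ₗ[A] (Fin r → A ⧸ Ideal.span {algebraMap O A a})) :
    ∃ (s : ℕ) (x : Fin s → A), DP.Pres a x := by
  classical
  obtain ⟨s, x, hspan, hind⟩ := exists_gen e
  have hsurj := aeval_surjective hres x hspan
  refine ⟨s, x, ?_⟩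
  have hΩ' : ∀ w : Ω[A⁄O], a • w = 0 := by
    intro w
    apply e.injective
    rw [← algebraMap_smul A a w, map_smul, map_zero]
    funext i
    obtain ⟨c, hc⟩ := Ideal.Quotient.mk_surjective (e w i)
    rw [Pi.smul_apply, ← hc]
    change Ideal.Quotient.mk _ (algebraMap O A a * c) = 0
    rw [Ideal.Quotient.eq_zero_iff_mem]
    exact Ideal.mul_mem_right _ _ (Ideal.mem_span_singleton_self _)
  have hderiv : ∀ g : MvPolynomial (Fin s) O, MvPolynomial.aeval x g = 0 → ∀ i, ∃ c : A,
      MvPolynomial.aeval x (MvPolynomial.pderiv i g) = algebraMap O A a * c := by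
    intro g hg
    apply hind
    have h1 : KaehlerDifferential.D O A (MvPolynomial.aeval x g) = 0 := by rw [hg, map_zero]
    rw [← h1]
    clear h1 hg
    induction g using MvPolynomial.induction_on with
    | C c => simp
    | add p q hp hq =>
      rw [map_add, map_add, ← hp, ← hq, ← Finset.sum_add_distrib]
      refine Finset.sum_congr rfl fun i _ => ?_
      rw [map_add, map_add, add_smul]
    | mul_X p k ih =>
      rw [map_mul, MvPolynomial.aeval_X, Derivation.leibniz, ← ih]
      have h1 : ∀ i, MvPolynomial.aeval x (MvPolynomial.pderiv i (p * MvPolynomial.X k)) •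
          KaehlerDifferential.D O A (x i) =
          (if i = k then MvPolynomial.aeval x p • KaehlerDifferential.D O A (x k) else 0) +
            x k • (MvPolynomial.aeval x (MvPolynomial.pderiv i p) •
              KaehlerDifferential.D O A (x i)) := by
        intro i
        rw [Derivation.leibniz, map_add, smul_eq_mul, smul_eq_mul, map_mul, map_mul,
          MvPolynomial.aeval_X, MvPolynomial.pderiv_X, add_smul, smul_smul]
        rcases eq_or_ne i k with h | h
        · subst h; simp
        · rw [Pi.single_eq_of_ne (Ne.symm h), if_neg h]; simp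
      simp only [h1]
      rw [Finset.sum_add_distrib, Finset.sum_ite_eq' Finset.univ k, if_pos (Finset.mem_univ k),
        Finset.smul_sum]
  have hF : ∀ j : Fin s, ∃ g : MvPolynomial (Fin s) O, MvPolynomial.aeval x g = 0 ∧
      ∀ i, MvPolynomial.aeval x (MvPolynomial.pderiv i g) = algebraMap O A a *
        MvPolynomial.aeval x (MvPolynomial.pderiv i (MvPolynomial.X j)) := fun j =>
    exists_rel (MvPolynomial.aeval x : MvPolynomial (Fin s) O →ₐ[O] A)
      (fun i : Fin s => MvPolynomial.pderiv i) hsurj (hΩ' _)
  choose F hF0 hFd using hF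
  have hFd' : ∀ i j, MvPolynomial.aeval x (MvPolynomial.pderiv i (F j)) =
      if i = j then algebraMap O A a else 0 := by
    intro i j
    rw [hFd, MvPolynomial.pderiv_X]
    rcases eq_or_ne i j with h | h
    · subst h; simp
    · rw [if_neg h, Pi.single_eq_of_ne (Ne.symm h), map_zero, mul_zero]
  refine ⟨hsurj, hderiv, F, hF0, hFd', fun g hg => ?_⟩
  have hc := hderiv g hg
  choose c hc using hc
  have hC : ∀ i, ∃ C, MvPolynomial.aeval x C = c i := fun i => hsurj (c i)
  choose C hC using hC
  have h1 : g - ∑ i, C i * F i ∈
      (RingHom.ker (MvPolynomial.aeval x : MvPolynomial (Fin s) O →ₐ[O] A)) ^ 2 := by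
    refine mem_ker_sq q hq hqm f hf ha (fun b => hΩ' _) x hsurj _ ?_ ?_
    · rw [map_sub, hg, map_sum]
      simp only [map_mul, hF0, mul_zero, Finset.sum_const_zero, sub_zero]
    · intro j
      rw [map_sub, map_sub, hc, map_sum, map_sum]
      have h2 : ∀ i, MvPolynomial.aeval x (MvPolynomial.pderiv j (C i * F i)) =
          if i = j then algebraMap O A a * c j else 0 := by
        intro i
        rw [Derivation.leibniz, map_add, smul_eq_mul, smul_eq_mul, map_mul, map_mul, hF0, zero_mul,
          add_zero, hFd', hC]
        rcases eq_or_ne i j with h | h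
        · subst h; simp [mul_comm]
        · rw [if_neg h, if_neg (Ne.symm h), mul_zero]
      simp only [h2]
      rw [Finset.sum_ite_eq' Finset.univ j, if_pos (Finset.mem_univ j), sub_self]
  have h3 : g = (∑ i, C i * F i) + (g - ∑ i, C i * F i) := by ring
  rw [h3]
  refine Submodule.add_mem_sup ?_ h1
  exact Ideal.sum_mem _ fun i _ => Ideal.mul_mem_left _ _ (Ideal.subset_span ⟨i, rfl⟩)

end pres

end K956.Jac
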