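import Mathlib
import Groth.Agent.Font.K956.Gen
import Groth.Agent.Font.K956.DPLift

/-!
# Adapted generators of a finite flat quotient of a power series ring
-/

set_option autoImplicit false
set_option linter.unusedSectionVars false

universe u v w

open Finset IsLocalRing

namespace K956.Jac

theorem smul_torsionFree {O : Type*} [CommRing O] [IsDomain O] {A : Type*} [CommRing A]
    [Algebra O A] [Module.Flat O A] {a : O} (ha : a ≠ 0) (b : A)
    (h : algebraMap O A a * b = 0) : b = 0 := by
  have h2 : IsSMulRegular A a :=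
    Module.Flat.isSMulRegular_of_nonZeroDivisors (mem_nonZeroDivisors_of_ne_zero ha)
  apply h2
  simpa [Algebra.smul_def] using h

theorem exists_pres_of_quot {O : Type u} [CommRing O] [IsDomain O] [IsNoetherianRing O]
    [IsLocalRing O] [IsAdicComplete (maximalIdeal O) O] {m : ℕ}
    (f : Fin m → MvPowerSeries (Fin m) O) {A : Type v} [CommRing A] [Algebra O A]
    (e : (MvPowerSeries (Fin m) O ⧸ Ideal.span (Set.range f)) ≃ₐ[O] A)
    [Module.Finite O A] [Module.Flat O A] {a : O} (ha : a ≠ 0) {r : ℕ}
    (hΩ : Nonempty (KaehlerDifferential O A ≃ₗ[A] (Fin r → A ⧸ Ideal.span {algebraMap O A a}))) :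
    ∃ (s : ℕ) (x : Fin s → A), DP.Pres a x := by
  classical
  rcases subsingleton_or_nontrivial A with hA | hA
  · refine ⟨0, Fin.elim0, ?_, fun g _ i => i.elim0, Fin.elim0, fun i => i.elim0,
      fun i => i.elim0, fun g _ => ?_⟩
    · intro b
      exact ⟨0, Subsingleton.elim _ _⟩
    · have h1 : RingHom.ker (MvPolynomial.aeval (Fin.elim0 : Fin 0 → A) :
          MvPolynomial (Fin 0) O →ₐ[O] A) = ⊤ := by
        rw [Ideal.eq_top_iff_one, RingHom.mem_ker]
        exact Subsingleton.elim _ _
      rw [h1, sq, Ideal.top_mul]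
      exact Ideal.mem_sup_right trivial
  let q : MvPowerSeries (Fin m) O →ₐ[O] A :=
    e.toAlgHom.comp (Ideal.Quotient.mkₐ O (Ideal.span (Set.range f)))
  have hq : Function.Surjective q := e.surjective.comp Ideal.Quotient.mk_surjective
  have hker : RingHom.ker q = Ideal.span (Set.range f) := by
    ext g
    rw [RingHom.mem_ker]
    change e (Ideal.Quotient.mk _ g) = 0 ↔ _
    rw [map_eq_zero_iff e e.injective, Ideal.Quotient.eq_zero_iff_mem]
  have hAloc : IsLocalRing A := IsLocalRing.of_surjective' q.toRingHom hq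
  have hmem : ∀ g : MvPowerSeries (Fin m) O, MvPowerSeries.constantCoeff g = 0 →
      q g ∈ maximalIdeal A := by
    intro g hg
    rw [IsLocalRing.mem_maximalIdeal, mem_nonunits_iff]
    intro hu
    obtain ⟨b, hb⟩ := hu.exists_right_inv
    obtain ⟨h, rfl⟩ := hq b
    have h1 : IsUnit (1 - g * h) := by
      rw [MvPowerSeries.isUnit_iff_constantCoeff, map_sub, map_mul, hg, zero_mul, map_one, sub_zero]
      exact isUnit_one
    have h2 := h1.map q
    rw [map_sub, map_mul, hb, map_one, sub_self] at h2
    exact not_isUnit_zero h2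
  refine hΩ.elim fun e' => exists_pres q hq (fun j => hmem _ (MvPowerSeries.constantCoeff_X j)) ?_ f
    hker (fun b hb => smul_torsionFree ha b hb) e'
  intro b
  obtain ⟨g, rfl⟩ := hq b
  refine ⟨MvPowerSeries.constantCoeff g, ?_⟩
  rw [← q.commutes, ← map_sub]
  apply hmem
  rw [map_sub, ← MvPowerSeries.c_eq_algebraMap, MvPowerSeries.constantCoeff_C, sub_self]

end K956.Jac
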