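import Mathlib
import Groth.Agent.Font.K956.Final
import Groth.Agent.Font.K956.Quot

/-!
# Divided powers on balls of radius `> e / (p - 1)`
-/

set_option autoImplicit false
set_option linter.unusedSectionVars false
set_option linter.deprecated false
universe u

open IsLocalRing

namespace K956.FVal

open scoped Nat

variable {O : Type u} [CommRing O] [IsDomain O] [IsDiscreteValuationRing O]
  (K : Type u) [Field K] [Algebra O K] [IsFractionRing O K]
  [IsAdicComplete (maximalIdeal O) O] [CharZero K]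
  (E : Type u) [Field E] [Algebra K E] [Algebra O E] [IsScalarTower O K E] [FiniteDimensional K E]

include K

theorem val_natCast {π : O} (hπ : Irreducible π) {p eK : ℕ} [Fact p.Prime]
    [CharP (ResidueField O) p] [CharZero E]
    (heK : Ideal.span {(p : O)} = maximalIdeal O ^ eK) {n : ℕ} (hn : n ≠ 0) :
    val π (n : E) = eK * padicValNat p n := by
  have hp : p.Prime := Fact.out
  obtain ⟨hpE, hpv⟩ := val_p K E hπ heK
  have hpE' : (p : E) ≠ 0 := Nat.cast_ne_zero.mpr hp.ne_zero
  have hpv' : val π (p : E) = eK := hpv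
  obtain ⟨k, m, hm, rfl⟩ := Nat.exists_eq_pow_mul_and_not_dvd hn p hp.ne_one
  have hm0 : m ≠ 0 := by rintro rfl; simp at hm
  have hmE : (m : E) ≠ 0 := Nat.cast_ne_zero.mpr hm0
  have hmu : IsUnit (m : O) := by
    by_contra h
    have h1 : (m : O) ∈ maximalIdeal O := h
    have h2 : residue O (m : O) = 0 := (residue_eq_zero_iff _).mpr h1
    rw [map_natCast, CharP.cast_eq_zero_iff (ResidueField O) p] at h2
    exact hm h2
  have hmv : val π (m : E) = 0 := by
    have h1 : IsU O E ((Algebra.ofId O E) (m : O)) := IsU.of_isUnit (O := O) (Ω := E) (Algebra.ofId O E) hmu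
    have h2 := val_isU K hπ h1
    rwa [map_natCast] at h2
  rw [Nat.cast_mul, Nat.cast_pow, val_mul K hπ (pow_ne_zero _ hpE') hmE, val_pow K hπ hpE', hmv,
    hpv', padicValNat.mul (pow_ne_zero _ hp.ne_zero) hm0, padicValNat.prime_pow,
    padicValNat.eq_zero_of_not_dvd hm]
  push_cast
  ring

theorem val_factorial_le {π : O} (hπ : Irreducible π) {p eK : ℕ} [Fact p.Prime]
    [CharP (ResidueField O) p] [CharZero E]
    (heK : Ideal.span {(p : O)} = maximalIdeal O ^ eK) {n : ℕ} (hn : n ≠ 0) :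
    val π ((n ! : ℕ) : E) ≤ (n - 1) * (eK / ((p : ℚ) - 1)) := by
  have hp : p.Prime := Fact.out
  have hp1 : (0 : ℚ) < (p : ℚ) - 1 := by
    have : (1 : ℚ) < p := by exact_mod_cast hp.one_lt
    linarith
  rw [val_natCast K E hπ heK (Nat.factorial_ne_zero n)]
  have h1 := sub_one_mul_padicValNat_factorial_lt_of_ne_zero (p := p) hn
  have h2 : ((p : ℚ) - 1) * (padicValNat p n ! : ℚ) ≤ n - 1 := by
    have h3 : (p - 1) * padicValNat p n ! ≤ n - 1 := by omega
    have h4 : (((p - 1) * padicValNat p n ! : ℕ) : ℚ) ≤ ((n - 1 : ℕ) : ℚ) := by exact_mod_cast h3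
    rw [Nat.cast_mul, Nat.cast_sub hp.one_lt.le, Nat.cast_sub (Nat.one_le_iff_ne_zero.mpr hn)] at h4
    exact_mod_cast h4
  have h5 : (0 : ℚ) ≤ eK := Nat.cast_nonneg _
  rw [mul_div_assoc', le_div_iff₀ hp1]
  nlinarith

/-- The divided power estimate. -/
theorem ge_dpow {π : O} (hπ : Irreducible π) {p eK : ℕ} [Fact p.Prime]
    [CharP (ResidueField O) p] [CharZero E]
    (heK : Ideal.span {(p : O)} = maximalIdeal O ^ eK) {t : ℚ}
    {n : ℕ} (hn : n ≠ 0) {x : E} (hx : Ge π t x) :
    Ge π (t + (n - 1) * (t - eK / ((p : ℚ) - 1))) (((n ! : ℕ) : E)⁻¹ * x ^ n) := by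
  rcases hx with rfl | hx
  · rw [zero_pow hn, mul_zero]; exact Ge.zero
  rcases eq_or_ne x 0 with rfl | hx0
  · rw [zero_pow hn, mul_zero]; exact Ge.zero
  right
  have hfac : ((n ! : ℕ) : E) ≠ 0 := Nat.cast_ne_zero.mpr (Nat.factorial_ne_zero n)
  rw [val_mul K hπ (inv_ne_zero hfac) (pow_ne_zero _ hx0), val_inv K hπ, val_pow K hπ hx0]
  have h1 := val_factorial_le K E hπ heK hn
  have h2 : (n : ℚ) * t ≤ n * val π x := mul_le_mul_of_nonneg_left hx (Nat.cast_nonneg n)
  nlinarith

/-- The divided powers of a ball. -/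
theorem exists_dividedPowers {π : O} (hπ : Irreducible π) {p eK : ℕ} [Fact p.Prime]
    [CharP (ResidueField O) p]
    (heK : Ideal.span {(p : O)} = maximalIdeal O ^ eK) {t : ℚ} (ht : (eK : ℚ) / ((p : ℚ) - 1) < t) :
    ∃ hI : DividedPowers (ball K π hπ t E), ∀ (n : ℕ) (x : integralClosure O E),
      x ∈ ball K π hπ t E → ((hI.dpow n x : integralClosure O E) : E) =
        ((n ! : ℕ) : E)⁻¹ * (x : E) ^ n := by
  classical
  have hE0 : CharZero E := charZero_of_injective_algebraMap (algebraMap K E).injective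
  let _ : Algebra ℚ E := DivisionRing.toRatAlgebra
  have hp : p.Prime := Fact.out
  have hp1 : (0 : ℚ) < (p : ℚ) - 1 := by
    have : (1 : ℚ) < p := by exact_mod_cast hp.one_lt
    linarith
  have ht0 : 0 < t := lt_of_le_of_lt (div_nonneg (Nat.cast_nonneg _) hp1.le) ht
  have hIJ : (ball K π hπ t E).map (algebraMap (integralClosure O E) E) = ⊤ := by
    rw [Ideal.eq_top_iff_one]
    obtain ⟨N, hN⟩ := exists_nat_ge t
    have h1 : algebraMap O (integralClosure O E) π ^ N ∈ ball K π hπ t E := by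
      rw [mem_ball]
      right
      change t ≤ val π ((algebraMap O E π) ^ N)
      rw [val_pow K hπ (pi_ne_zero (K := K) (Ω := E) hπ), val_pi K hπ, mul_one]
      exact hN
    have h2 := Ideal.mem_map_of_mem (algebraMap (integralClosure O E) E) h1
    have h3 : algebraMap (integralClosure O E) E (algebraMap O (integralClosure O E) π ^ N) ≠ 0 := by
      rw [map_pow]
      have h5 : algebraMap (integralClosure O E) E (algebraMap O (integralClosure O E) π) ≠ 0 := by
        change algebraMap O E π ≠ 0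
        exact pi_ne_zero (K := K) (Ω := E) hπ
      exact pow_ne_zero _ h5
    have h4 := Ideal.mul_mem_left _ (algebraMap (integralClosure O E) E
      (algebraMap O (integralClosure O E) π ^ N))⁻¹ h2
    rwa [inv_mul_cancel₀ h3] at h4
  have hdp : ∀ (n : ℕ) (x : E), (DividedPowers.RatAlgebra.dividedPowers (⊤ : Ideal E)).dpow n x =
      ((n ! : ℕ) : E)⁻¹ * x ^ n := by
    intro n x
    rw [DividedPowers.RatAlgebra.dpow_apply, if_pos Submodule.mem_top, Ring.inverse_eq_inv']
  have hmem : ∀ (n : ℕ) {x : integralClosure O E} (_ : x ∈ ball K π hπ t E),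
      ∃ (y : integralClosure O E) (_ : n ≠ 0 → y ∈ ball K π hπ t E),
        algebraMap (integralClosure O E) E y =
          (DividedPowers.RatAlgebra.dividedPowers (⊤ : Ideal E)).dpow n
            (algebraMap (integralClosure O E) E x) := by
    intro n x hx
    rcases eq_or_ne n 0 with rfl | hn
    · refine ⟨1, fun h => absurd rfl h, ?_⟩
      rw [hdp, map_one]; simp
    · have h1 := ge_dpow K E hπ heK (t := t) hn hx
      have h2 : Ge π t (((n ! : ℕ) : E)⁻¹ * (x : E) ^ n) := by
        refine h1.mono ?_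
        have h3 : (1 : ℚ) ≤ n := by exact_mod_cast Nat.one_le_iff_ne_zero.mpr hn
        have h4 : (0 : ℚ) ≤ (n - 1) * (t - eK / ((p : ℚ) - 1)) :=
          mul_nonneg (by linarith) (by linarith)
        linarith
      have h3 : IsIntegral O (((n ! : ℕ) : E)⁻¹ * (x : E) ^ n) :=
        (ge_zero_iff K hπ).mp (h2.mono ht0.le)
      exact ⟨⟨_, h3⟩, fun _ => h2, (hdp n _).symm⟩
  refine ⟨DividedPowers.ofInjective (ball K π hπ t E) ⊤ (algebraMap (integralClosure O E) E)
    Subtype.val_injective (DividedPowers.RatAlgebra.dividedPowers (⊤ : Ideal E)) hIJ hmem, ?_⟩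
  intro n x hx
  change algebraMap (integralClosure O E) E (if hx : x ∈ ball K π hπ t E then
    Exists.choose (hmem n hx) else 0) = _
  rw [dif_pos hx, (Exists.choose_spec (hmem n hx)).2, hdp]
  rfl

/-- Topological nilpotence. -/
theorem isDPTopNilpotent {π : O} (hπ : Irreducible π) {p eK : ℕ} [Fact p.Prime]
    [CharP (ResidueField O) p]
    (heK : Ideal.span {(p : O)} = maximalIdeal O ^ eK) {t : ℚ} (ht : (eK : ℚ) / ((p : ℚ) - 1) < t)
    (hI : DividedPowers (ball K π hπ t E)) (h : ∀ (n : ℕ) (x : integralClosure O E),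
      x ∈ ball K π hπ t E → ((hI.dpow n x : integralClosure O E) : E) =
        ((n ! : ℕ) : E)⁻¹ * (x : E) ^ n) : W4c1noabschz1.IsDPTopNilpotent hI := by
  classical
  have hE0 : CharZero E := charZero_of_injective_algebraMap (algebraMap K E).injective
  have hp : p.Prime := Fact.out
  have hp1 : (0 : ℚ) < (p : ℚ) - 1 := by
    have : (1 : ℚ) < p := by exact_mod_cast hp.one_lt
    linarith
  set κ : ℚ := t - eK / ((p : ℚ) - 1) with hκ
  have hκ0 : 0 < κ := by rw [hκ]; linarith
  have hκt : κ ≤ t := by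
    rw [hκ]
    have : (0 : ℚ) ≤ eK / ((p : ℚ) - 1) := div_nonneg (Nat.cast_nonneg _) hp1.le
    linarith
  have h1 : ∀ (n : ℕ) (x : integralClosure O E), x ∈ ball K π hπ t E →
      Ge π (n * κ) ((hI.dpow n x : integralClosure O E) : E) := by
    intro n x hx
    rw [h n x hx]
    rcases eq_or_ne n 0 with rfl | hn
    · rw [Nat.factorial_zero, Nat.cast_one, inv_one, pow_zero, mul_one, Nat.cast_zero, zero_mul]
      exact Or.inr (val_one K hπ).ge
    · refine (ge_dpow K E hπ heK (t := t) hn hx).mono ?_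
      rw [← hκ]
      linarith
  have h2 : ∀ (r : ℕ) (x : Fin r → integralClosure O E) (n : Fin r → ℕ),
      (∀ i, x i ∈ ball K π hπ t E) →
      ∀ s : Finset (Fin r), Ge π ((∑ i ∈ s, n i : ℕ) * κ)
        ((∏ i ∈ s, hI.dpow (n i) (x i) : integralClosure O E) : E) := by
    intro r x n hx s
    induction s using Finset.induction_on with
    | empty =>
      simp only [Finset.sum_empty, Finset.prod_empty, Nat.cast_zero, zero_mul]
      exact Or.inr (val_one K hπ).ge
    | insert a s ha ih =>
      rw [Finset.sum_insert ha, Finset.prod_insert ha]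
      have h3 := Ge.mul K hπ (h1 (n a) (x a) (hx a)) ih
      push_cast at h3 ⊢
      rwa [add_mul]
  have h3 : ∀ N : ℕ, W4c1noabschz1.dpPow hI N ≤ ball K π hπ (N * κ) E := by
    intro N
    rw [W4c1noabschz1.dpPow, Ideal.span_le]
    rintro _ ⟨r, x, n, hx, hn, rfl⟩
    have h4 := h2 r x n hx Finset.univ
    change Ge π (N * κ) _
    refine h4.mono (mul_le_mul_of_nonneg_right ?_ hκ0.le)
    exact_mod_cast hn
  change (⨅ m : ℕ, W4c1noabschz1.dpPow hI m) = ⊥
  rw [eq_bot_iff]
  intro x hx
  rw [Ideal.mem_iInf] at hx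
  rw [Ideal.mem_bot]
  by_contra hx0
  have hx0' : (x : E) ≠ 0 := fun h => hx0 (Subtype.ext h)
  obtain ⟨N, hN⟩ := exists_nat_gt (val π (x : E) / κ)
  have h4 := (h3 N (hx N)).resolve_left hx0'
  rw [div_lt_iff₀ hκ0] at hN
  linarith

/-- Scaling of balls. -/
theorem ball_add {π : O} (hπ : Irreducible π) {a : O} (ha : a ≠ 0) {va : ℕ}
    (hva : val π (algebraMap O E a) = va) (t : ℚ) (ht : 0 ≤ t) :
    ball K π hπ (t + va) E = Ideal.span {algebraMap O (integralClosure O E) a} * ball K π hπ t E := by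
  have ha0 : algebraMap O E a ≠ 0 := by
    rw [IsScalarTower.algebraMap_apply O K E]
    intro h0
    rw [map_eq_zero] at h0
    exact ha ((IsFractionRing.injective O K) (by rw [h0, map_zero]))
  ext x
  rw [mem_ball, Ideal.mem_span_singleton_mul]
  constructor
  · intro hx
    rcases eq_or_ne (x : E) 0 with h0 | h0
    · refine ⟨0, Ideal.zero_mem _, ?_⟩
      rw [mul_zero]
      exact (Subtype.ext h0).symm
    have h1 := hx.resolve_left h0
    have h2 : t ≤ val π ((x : E) / algebraMap O E a) := by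
      rw [val_div K hπ h0 ha0, hva]; linarith
    have h3 : (x : E) / algebraMap O E a ≠ 0 := div_ne_zero h0 ha0
    have h4 : IsIntegral O ((x : E) / algebraMap O E a) :=
      (val_nonneg_iff K hπ h3).mp (ht.trans h2)
    refine ⟨⟨_, h4⟩, Or.inr h2, Subtype.ext ?_⟩
    change algebraMap O E a * ((x : E) / algebraMap O E a) = x
    field_simp
  · rintro ⟨y, hy, rfl⟩
    have h1 := Ge.mul K hπ (Or.inr hva.ge : Ge π (va : ℚ) (algebraMap O E a)) hy
    rw [add_comm]
    exact h1

end K956.FVal
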