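import Mathlib
import Groth.Agent.CalgC.HenselIntDom
import Groth.Agent.Ega3B.IdemLift

/-!
# Integral closure of a complete discrete valuation ring in a finite separable extension
-/

set_option autoImplicit false
set_option linter.unusedSectionVars false
universe u

open IsLocalRing Polynomial

namespace K956.IntCl

variable (O K E : Type u) [CommRing O] [IsDomain O] [IsDiscreteValuationRing O]
  [Field K] [Algebra O K] [IsFractionRing O K]
  [Field E] [Algebra K E] [Algebra O E] [IsScalarTower O K E]
  [FiniteDimensional K E] [Algebra.IsSeparable K E]

include K in
theorem finite : Module.Finite O (integralClosure O E) :=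
  IsIntegralClosure.finite O K E (integralClosure O E)

include K in
theorem isFractionRing : IsFractionRing (integralClosure O E) E :=
  integralClosure.isFractionRing_of_finite_extension K E

include K in
theorem algebraMap_injective : Function.Injective (algebraMap O (integralClosure O E)) := by
  have hinj : Function.Injective (algebraMap O E) := by
    rw [IsScalarTower.algebraMap_eq O K E]
    exact (algebraMap K E).injective.comp (IsFractionRing.injective O K)
  exact fun a b h => hinj (congrArg (fun t : integralClosure O E => (t : E)) h)

variable [IsAdicComplete (maximalIdeal O) O]

theorem henselian : HenselianLocalRing O := by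
  have := (inferInstance : HenselianRing O (maximalIdeal O))
  exact ⟨fun f hf a₀ h1 h2 => this.is_henselian f hf a₀ h1 (by
    have := h2.map (Ideal.Quotient.mk (maximalIdeal O)); exact this)⟩

include K in
theorem isLocalRing : IsLocalRing (integralClosure O E) := by
  have := finite O K E
  have := henselian O
  exact Groth.Agent.CalgC.HenselIntDom.isLocalRing_of_finite (A := O)

include K in
theorem isDVR : IsDiscreteValuationRing (integralClosure O E) := by
  have h1 := isLocalRing O K E
  have hDed : IsDedekindDomain (integralClosure O E) := IsIntegralClosure.isDedekindDomain O K E _
  have hnf : ¬ IsField (integralClosure O E) := by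
    intro hf
    exact IsDiscreteValuationRing.not_isField O
      (isField_of_isIntegral_of_isField (algebraMap_injective O K E) hf)
  exact ((IsDiscreteValuationRing.TFAE (integralClosure O E) hnf).out 0 2).2 hDed

include K in
theorem isAdicComplete_map :
    IsAdicComplete ((maximalIdeal O).map (algebraMap O (integralClosure O E)))
      (integralClosure O E) := by
  have := finite O K E
  exact Groth.Agent.Ega3B.IdemLift.isAdicComplete_map O _ (maximalIdeal O)

end K956.IntCl
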